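import Cfsg.Agent.H927.G2Full2
import Cfsg.Agent.H48.DsChev
import Cfsg.Agent.H905.MdR

/-!
# `G₂(K)` in its own characteristic, degree at most 12 (helper927)

* `cases` : the simple modules of dimension at most 12 over an algebraically closed field;
* `core_g2` : `Core P`, `Soc P ≃* G₂(K)`, `|ι| ≤ 12`.
-/

set_option autoImplicit false
set_option linter.unusedSectionVars false
set_option linter.style.haveILetI false

namespace Cfsg.Agent.H927.G2

open Cfsg.Lie Matrix Cfsg.Agent.H638.G2Rep Cfsg.Agent.H638.G2Mem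
open Cfsg.Agent.H638
open CoxeterSystem Cfsg.Agent.ChevalleyStructure.CoxeterGeom Cfsg.Agent.Tits.Roots Cfsg.Agent.Tits.Core
  Cfsg.Agent.Tits.Exchange Cfsg.Agent.Nodes.Reps Cfsg.Agent.Nodes.BNOf Cfsg.Agent.Nodes.StabComb
  Cfsg.Agent.Nodes.Bruhat Cfsg.Agent.Nodes.OppDec Cfsg.Agent.Nodes.LeviDec Cfsg.Agent.KFacts.RgdOpp
  Cfsg.Agent.Omega.CR Cfsg.Agent.Omega.FOne.Lift.Sd Cfsg.Agent.Nodes.RGDLib
open Cfsg.Agent.H905.Md Cfsg.Agent.H64.CrossChev Cfsg.Agent.Nodes.RGDChev
open Module Cfsg.Agent.H927.LD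

variable {K : Type} [Field K] [Finite K]

theorem GG2 : GG cs2 hc2 (T2 K) (X2 K) = ⊤ := by
  rw [eq_top_iff, ← gen2]
  exact le_sup_right

theorem exists_two (h3 : 3 ≤ Nat.card K) : ∃ c : K, c ≠ 0 ∧ c ≠ 1 := by
  classical
  haveI := Fintype.ofFinite K
  by_contra hcon
  push Not at hcon
  have h1 : (Finset.univ : Finset K) ⊆ {0, 1} := by
    intro x _
    by_cases hx : x = 0
    · simp [hx]
    · simp [hcon x hx]
  have h2 := Finset.card_le_card h1
  have h4 : ({0, 1} : Finset K).card ≤ 2 := Finset.card_le_two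
  rw [Finset.card_univ, ← Nat.card_eq_fintype_card] at h2
  omega

section

variable {k V : Type*} [Field k] [IsAlgClosed k] [AddCommGroup V] [Module k V] [FiniteDimensional k V] [Nontrivial V]
  {ρ : GK K →* Module.End k V}

/-- the two possible coefficients -/
theorem cases (p : ℕ) [hp : Fact p.Prime] [CharP K p] [CharP k p] (h3 : 3 ≤ Nat.card K)
    (hirr : ∀ L : Submodule k V, Ivt ρ (GG cs2 hc2 (T2 K) (X2 K)) L → L = ⊥ ∨ L = ⊤)
    (h2 : 2 ≤ finrank k V) (hn : finrank k V ≤ 12) :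
    ∃ v ∈ D cs2 hc2 (X2 K) ρ, ∃ φ ∈ fx (dualRep ρ) (UN cs2 hc2 (X2 K)), φ v = 1 ∧
      (∀ t ∈ T2 K, ρ t v = φ (ρ t v) • v) ∧ ∃ j : K →+* k,
      ((∀ g, φ (ρ g v) = j (x1 g)) ∧ ((p ≠ 2 ∧ finrank k V = 7) ∨ (p = 2 ∧ finrank k V = 6))) ∨
      ((∀ g, φ (ρ g v) = j (x2 g)) ∧ p = 3 ∧ finrank k V = 7) := by
  obtain ⟨v, hv, φ, hφ, hφv, F, hF1, hF0, hc, hT⟩ := exists_coef hirr p
  obtain ⟨c, hc0, hc1⟩ := exists_two h3
  have hv0 : v ≠ 0 := by
    rintro rfl
    rw [map_zero] at hφv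
    exact zero_ne_one hφv
  have hφ0 : φ ≠ 0 := by
    rintro rfl
    exact zero_ne_one hφv
  have hirr' : ∀ L : Submodule k V, (∀ g, ∀ w ∈ L, ρ g w ∈ L) → L = ⊥ ∨ L = ⊤ := fun L hL =>
    hirr L fun g _ w hw => hL g w hw
  refine ⟨v, hv, φ, hφ, hφv, hT, ?_⟩
  have h23 : p = 2 ↔ (2 : K) = 0 := by
    have h4 : ((2 : ℕ) : K) = 0 ↔ p ∣ 2 := CharP.cast_eq_zero_iff K p 2
    rw [Nat.prime_dvd_prime_iff_eq hp.out Nat.prime_two] at h4
    rw [← h4]
    push_cast
    rfl
  have h33 : p = 3 ↔ (3 : K) = 0 := by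
    have h4 : ((3 : ℕ) : K) = 0 ↔ p ∣ 3 := CharP.cast_eq_zero_iff K p 3
    rw [Nat.prime_dvd_prime_iff_eq hp.out Nat.prime_three] at h4
    rw [← h4]
    push_cast
    rfl
  let mk : ∀ (f : K →*₀ k), (∀ x y, f (x + y) = f x + f y) → (K →+* k) := fun f hf =>
    { f with map_add' := hf }
  by_cases h0J : (0 : Fin 2) ∈ Jx cs2 hc2 (X2 K) ρ
  · by_cases h1J : (1 : Fin 2) ∈ Jx cs2 hc2 (X2 K) ρ
    · -- trivial
      exfalso
      have h5 : ∀ g, φ (ρ g v) = 1 := by
        intro g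
        rw [hc, hF1 0 h0J, hF1 1 h1J, MonoidHom.one_apply, MonoidHom.one_apply, one_mul]
      have h6 : ∀ h, ρ h v = v := by
        intro h
        apply Cfsg.Agent.H887.DS.Psi_injective hirr' hφ0
        funext g
        rw [Cfsg.Agent.H887.DS.Psi_apply, Cfsg.Agent.H887.DS.Psi_apply, h5, ← rho_mul, h5]
      have h7 := Cfsg.Agent.H887.DS.span_eq_top hirr' hv0
      have h8 : (Set.range fun g => ρ g v) = {v} := by
        ext w
        constructor
        · rintro ⟨g, rfl⟩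
          exact h6 g
        · rintro rfl
          exact ⟨1, h6 1⟩
      rw [h8] at h7
      have h9 := finrank_span_singleton (K := k) hv0
      rw [h7, finrank_top] at h9
      omega
    · -- the adjoint type
      let f : K →*₀ k := { F 1 with map_zero' := hF0 1 h1J }
      have hb : Col (a14 K) (l14 K) f ρ φ (e14 K) v := by
        intro g
        rw [hc, hF1 0 h0J, MonoidHom.one_apply, one_mul]
        rfl
      have hadd : ∀ c, f (1 + c) = 1 + f c := by
        intro c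
        by_contra hne
        have := thirteen14 hb hne
        omega
      have hadd' := additive_of hadd
      have h5 : p = 3 := by
        rw [h33]
        by_contra hne
        have := thirteen14' hadd' hb hne hc0 hc1
        omega
      refine ⟨mk f hadd', Or.inr ⟨hb, h5, ?_⟩⟩
      exact le_antisymm (le_seven14 hadd' hirr' hφ0 hv0 hb (h33.1 h5)) (seven14 hadd' hb)
  · by_cases h1J : (1 : Fin 2) ∈ Jx cs2 hc2 (X2 K) ρ
    · let f : K →*₀ k := { F 0 with map_zero' := hF0 0 h0J }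
      have hb : Col (a8 K) (l8 K) f ρ φ (e8 K) v := by
        intro g
        rw [hc, hF1 1 h1J, MonoidHom.one_apply, mul_one]
        rfl
      have hadd : ∀ c, f (1 + c) = 1 + f c := by
        intro c
        by_contra hne
        have := thirteen8 hb hne
        omega
      have hadd' := additive_of hadd
      refine ⟨mk f hadd', Or.inl ⟨hb, ?_⟩⟩
      by_cases h5 : p = 2
      · exact Or.inr ⟨h5, le_antisymm (le_six8 hadd' hirr' hφ0 hv0 hb (h23.1 h5)) (six8 hadd' hb)⟩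
      · exact Or.inl ⟨h5, le_antisymm (le_seven8 hadd' hirr' hφ0 hv0 hb) (seven8 hadd' hb (fun h => h5 (h23.2 h)))⟩
    · exfalso
      let f0 : K →*₀ k := { F 0 with map_zero' := hF0 0 h0J }
      let f1 : K →*₀ k := { F 1 with map_zero' := hF0 1 h1J }
      have hb : Col2 f0 f1 ρ φ (e8 K) (e14 K) v := fun g => hc g
      have := thirteen_full hb hc0 hc1
      omega

end

/-! ### the core -/

section core

open Cfsg Cfsg.Geo Cfsg.Agent.H915.LD Cfsg.Agent.H151.Six Cfsg.Agent.H911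

universe u

variable {ι : Type} [Fintype ι] [DecidableEq ι] {F : Type u} [Field F] [Finite F] {P : Subgroup (GL ι F)}

theorem T2_pow (t : GK K) (ht' : t ∈ T2 K) : t ^ Nat.card K = t := by
  obtain ⟨χ, h1⟩ := Cfsg.Agent.ChevalleyStructure.HMatDiagAll.mem_torus.1
    (Cfsg.Agent.ChevalleyStructure.HMatDiagAll.diagonalSubgroup_le_torus ht.inList (Subgroup.mem_subgroupOf.1 ht'))
  haveI := Fintype.ofFinite K
  apply Subtype.ext
  apply Units.ext
  rw [Subgroup.coe_pow, Units.val_pow_eq_pow_val, h1, Matrix.diagonal_pow]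
  congr 1
  funext i
  rw [Pi.pow_apply, Nat.card_eq_fintype_card, FiniteField.pow_card]

theorem fr_g2 (p : ℕ) [hp : Fact p.Prime] [CharP F p] [CharP K p] (hC : Core P) (f : P ≃* GK K) : Fr P (Nat.card K) := by
  haveI := Fintype.ofFinite K
  haveI := hC.nonempty
  obtain ⟨a, -, ha⟩ := FiniteField.card K p
  have hcard : Nat.card K = p ^ (a : ℕ) := by rw [Nat.card_eq_fintype_card, ha]
  have hφ : (P.subtype.comp f.symm.toMonoidHom).range = P := by
    rw [MonoidHom.range_comp, MonoidHom.range_eq_top.2 f.symm.surjective, ← MonoidHom.range_eq_map,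
      Subgroup.range_subtype]
  intro g hg
  rw [hcard]
  exact Cfsg.Agent.H905.Md.trace_pow (rgd2 (K := K) p) GG2 T2_comm hφ hC.absIrred (fun t htt => by
    rw [← hcard]; exact T2_pow t htt) hg

/-- an alternating form in odd dimension -/
theorem not_fixA (h2 : (2 : F) ≠ 0) (hodd : Odd (Fintype.card ι)) : ¬ FixA P := by
  intro h
  obtain ⟨B, h1, h2', -⟩ := exists_skew h
  have h3 : B.det = (-1) ^ Fintype.card ι * B.det := by
    conv_lhs => rw [← Matrix.det_transpose, h1, Matrix.det_neg]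
  rw [hodd.neg_one_pow] at h3
  have h4 : 2 * B.det = 0 := by linear_combination h3
  rcases mul_eq_zero.1 h4 with h | h
  · exact h2 h
  · exact h2'.ne_zero h

/-- **`G₂(K)` in its own characteristic, degree at most 12.** -/
theorem core_g2 (p : ℕ) [hp : Fact p.Prime] [CharP F p] [CharP K p] (hC : Core P) (h3 : 3 ≤ Nat.card K)
    (e : Soc P ≃* GK K) (hn : Fintype.card ι ≤ 12) :
    SD P ∧ Nat.card F = Nat.card K ∧ Nonempty (K ≃+* F) ∧ Nonempty (P ≃* GK K) ∧
      ((p ≠ 2 ∧ Fintype.card ι = 7 ∧ FixQ P ∧ ¬ FixA P) ∨ (p = 2 ∧ Fintype.card ι = 6 ∧ FixA P)) := by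
  haveI := Fintype.ofFinite K
  haveI := hC.nonempty
  have h3' : 3 ≤ Fintype.card K := by rwa [← Nat.card_eq_fintype_card]
  obtain ⟨f⟩ := Cfsg.Agent.H48.DsChev.g2_equiv p hC h3' e
  have hsd := Cfsg.Agent.H48.DsChev.g2_sd p hC h3' e
  have hfr := fr_g2 p hC f
  obtain ⟨φ, hφ⟩ : ∃ φ : GK K →* GL ι F, φ.range = P := ⟨P.subtype.comp f.symm.toMonoidHom, by
    rw [MonoidHom.range_comp, MonoidHom.range_eq_top.2 f.symm.surjective, ← MonoidHom.range_eq_map,
      Subgroup.range_subtype]⟩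
  have hchar : CharP (AlgebraicClosure F) p := charP_of_injective_algebraMap (algebraMap F _).injective p
  have hirr : ∀ L : Submodule (AlgebraicClosure F) (ι → AlgebraicClosure F),
      Ivt (lin (acRep φ)) (GG cs2 hc2 (T2 K) (X2 K)) L → L = ⊥ ∨ L = ⊤ :=
    fun L hL => acRep_irr hφ (H920.span_eq_top hC.absIrred) GG2 L hL
  have hfin : Module.finrank (AlgebraicClosure F) (ι → AlgebraicClosure F) = Fintype.card ι :=
    Module.finrank_fintype_fun_eq_card _
  obtain ⟨v, hv, ψ, hψ, hψv, hT, j, hj⟩ := cases p h3 hirr (by rw [hfin]; exact hC.two_le) (by rw [hfin]; exact hn)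
  rw [hfin] at hj
  have hv0 : v ≠ 0 := by
    rintro rfl
    rw [map_zero] at hψv
    exact zero_ne_one hψv
  have hmem : ∀ x : K, ∃ y : F, algebraMap F (AlgebraicClosure F) y = j x := by
    intro x
    by_cases hx : x = 0
    · exact ⟨0, by rw [hx, map_zero, map_zero]⟩
    · rcases hj with ⟨h5, -⟩ | ⟨h5, -⟩
      · obtain ⟨y, hy⟩ := chi_mem (rgd2 (K := K) p) GG2 hφ hC.absIrred hv hv0 hT (hh_mem 0 hx)
        exact ⟨y, by rw [hy, h5, x1_hh 0 hx, if_pos rfl]⟩
      · obtain ⟨y, hy⟩ := chi_mem (rgd2 (K := K) p) GG2 hφ hC.absIrred hv hv0 hT (hh_mem 1 hx)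
        exact ⟨y, by rw [hy, h5, x2_hh 1 hx, if_pos rfl]⟩
  have hinj : ∃ s : K → F, Function.Injective s := by
    choose s hs using hmem
    exact ⟨s, fun a b hab => j.injective (by rw [← hs, ← hs, hab])⟩
  have hcardF : Nat.card F = Nat.card K := by
    obtain ⟨a, -, ha⟩ := FiniteField.card K p
    have hcard : Nat.card K = p ^ (a : ℕ) := by rw [Nat.card_eq_fintype_card, ha]
    rw [hcard] at hfr
    obtain ⟨j', hj1, hj'⟩ := card_pow_eq (F := F) p a.ne_zero (hC.pow_eq p hfr)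
    obtain ⟨s, hs⟩ := hinj
    have h1 : Nat.card K ≤ Nat.card F := Nat.card_le_card_of_injective s hs
    rw [← hcard] at hj'
    have h2 : 1 < Nat.card F := Finite.one_lt_card
    have h3 : j' = 1 := by
      by_contra hne
      have h4 : Nat.card F ^ 1 < Nat.card F ^ j' := Nat.pow_lt_pow_right h2 (by omega)
      rw [pow_one] at h4
      omega
    rw [h3, pow_one] at hj'
    exact hj'
  have hring : Nonempty (K ≃+* F) := by
    haveI := Fintype.ofFinite F
    refine ⟨FiniteField.ringEquivOfCardEq ?_⟩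
    rw [← Nat.card_eq_fintype_card, ← Nat.card_eq_fintype_card, hcardF]
  refine ⟨hsd, hcardF, hring, ⟨f⟩, ?_⟩
  have hform := hC.forms_of_sd hsd
  have h2F : p ≠ 2 → (2 : F) ≠ 0 := by
    intro h5 h
    have h6 : ((2 : ℕ) : F) = 0 := by exact_mod_cast h
    rw [CharP.cast_eq_zero_iff F p, Nat.prime_dvd_prime_iff_eq hp.out Nat.prime_two] at h6
    exact h5 h6
  have hodd : p ≠ 2 → Fintype.card ι = 7 → (p ≠ 2 ∧ Fintype.card ι = 7 ∧ FixQ P ∧ ¬ FixA P) := by
    intro h5 h7
    have h6 := not_fixA (P := P) (h2F h5) (by rw [h7]; decide)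
    exact ⟨h5, h7, hform.resolve_right h6, h6⟩
  rcases hj with ⟨-, ⟨h5, h7⟩ | ⟨rfl, h7⟩⟩ | ⟨-, h5, h7⟩
  · exact Or.inl (hodd h5 h7)
  · right
    refine ⟨rfl, h7, ?_⟩
    rcases hform with h | h
    · obtain ⟨Q, hQ, hfix⟩ := h
      have h2F : (2 : F) = 0 := CharTwo.two_eq_zero
      refine ⟨QuadraticMap.polar Q, ⟨hQ.polar_bilinear, ?_, ?_, hQ.nondegenerate⟩, ?_⟩
      · intro v w
        rw [QuadraticMap.polar_comm, CharTwo.neg_eq]
      · intro v
        unfold QuadraticMap.polar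
        have h5 := hQ.smul 2 v
        rw [two_smul, h2F] at h5
        rw [h5]
        linear_combination (- Q v) * h2F
      · intro s hs u v
        unfold QuadraticMap.polar
        rw [← Matrix.mulVec_add, hfix s hs, hfix s hs, hfix s hs]
    · exact h
  · exact Or.inl (hodd (by rw [h5]; norm_num) h7)

end core

end Cfsg.Agent.H927.G2
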