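import Cfsg.Agent.H927.SgXFam2

/-!
# Cross characteristic elimination for the Singer case: exceptional groups, and the main theorem

`lsb g`: the lower bounds for the degree (cross characteristic) which suffice.
`sg_cross`: a group of Lie type `g` with `lsb g ≤ n` does not satisfy `SgD n c d`.
-/

set_option autoImplicit false

namespace Cfsg.Agent.H927.SgX

open Cfsg.Agent.OrdDiv Cfsg.Agent.H436

variable {n c d : ℕ}

theorem sub_le_pow (s k : ℕ) : s ^ k - 1 ≤ s ^ k := Nat.sub_le _ _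

theorem add_le_pow {s : ℕ} (hs : 1 ≤ s) (k : ℕ) : s ^ k + 1 ≤ 2 * s ^ k := by
  have := Nat.one_le_pow k s hs
  omega

theorem x_g2 {s : ℕ} (hs : 3 ≤ s) (he : den (.g2 s) * c = num (.g2 s)) (h : SgD n c d)
    (hL : (if s ≤ 4 then 0 else (s - 1) * s) ≤ n) : False := by
  have hc : c ≤ s ^ 14 := by
    refine (le_of_den (show 1 ≤ 1 by norm_num) he).trans ?_
    change s ^ 6 * ((s ^ 2 - 1) * (s ^ 6 - 1)) ≤ _
    calc _ ≤ s ^ 6 * (s ^ 2 * s ^ 6) :=
          Nat.mul_le_mul_left _ (Nat.mul_le_mul (sub_le_pow _ _) (sub_le_pow _ _))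
      _ = s ^ 14 := by ring
  rcases Nat.lt_or_ge s 5 with h5 | h5
  · rcases (show s = 3 ∨ s = 4 by omega) with rfl | rfl
    · have h1 : 1 * c = 4245696 := he
      rw [one_mul] at h1
      subst h1
      exact h.small (k := 24) (by decide)
    · have h1 : 1 * c = 251596800 := he
      rw [one_mul] at h1
      subst h1
      exact h.small (k := 24) (by decide)
  · rw [if_neg (by omega)] at hL
    rcases Nat.lt_or_ge s 7 with h7 | h7
    · have hc' : c ≤ 6 ^ 14 := hc.trans (Nat.pow_le_pow_left (by omega) 14)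
      have hL' : 20 ≤ n := (Nat.mul_le_mul (show 4 ≤ s - 1 by omega) h5).trans hL
      exact h.big hL' hc' (by norm_num)
    · refine h.big hL hc (pow_key0 (by omega) ?_ ?_)
      · calc 14 * (s - 1) ≤ (2 * s) * (s - 1) := Nat.mul_le_mul_right _ (by omega)
          _ = _ := by ring
      · calc 9 ≤ 6 * 7 := by norm_num
          _ ≤ (s - 1) * s := Nat.mul_le_mul (by omega) (by omega)

theorem x_f4 {s : ℕ} (hs : 2 ≤ s) (he : den (.f4 s) * c = num (.f4 s)) (h : SgD n c d)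
    (hL : (if s = 2 then 0 else (s - 1) * s ^ 3) ≤ n) : False := by
  have he1 := he
  have hc : c ≤ s ^ 52 := by
    refine (le_of_den (show 1 ≤ 1 by norm_num) he).trans ?_
    change s ^ 24 * ((s ^ 2 - 1) * (s ^ 6 - 1) * (s ^ 8 - 1) * (s ^ 12 - 1)) ≤ _
    calc _ ≤ s ^ 24 * (s ^ 2 * s ^ 6 * s ^ 8 * s ^ 12) := by
          gcongr <;> exact sub_le_pow _ _
      _ = s ^ 52 := by ring
  rcases Nat.lt_or_ge s 3 with h3 | h3
  · obtain rfl : s = 2 := by omega
    have h1 : 1 * c = 3311126603366400 := he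
    rw [one_mul] at h1
    subst h1
    exact h.small (k := 24) (by decide)
  · rw [if_neg (by omega)] at hL
    have h9 : 3 ^ 3 ≤ s ^ 3 := Nat.pow_le_pow_left h3 3
    refine h.big hL hc (pow_key0 (by omega) ?_ ?_)
    · calc 52 * (s - 1) ≤ (2 * s ^ 3) * (s - 1) := Nat.mul_le_mul_right _ (by omega)
        _ = _ := by ring
    · calc 9 ≤ 2 * 27 := by norm_num
        _ ≤ (s - 1) * s ^ 3 := Nat.mul_le_mul (by omega) (by omega)

theorem exc_main {s e k a b : ℕ} (hs : 2 ≤ s) (h : SgD n c d) (hL : (s - 1) * s ^ a ≤ n)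
    (hc : c ≤ 2 ^ e * s ^ k) (hb : e + k ≤ 2 * b) (hb9 : 9 ≤ b) (hba : b ≤ s ^ a) : False := by
  refine h.big hL hc (pow_key (by omega) ?_ ?_)
  · calc e + k * (s - 1) ≤ e * (s - 1) + k * (s - 1) :=
          Nat.add_le_add_right (Nat.le_mul_of_pos_right _ (by omega)) _
      _ = (e + k) * (s - 1) := by ring
      _ ≤ (2 * s ^ a) * (s - 1) := Nat.mul_le_mul_right _ (by omega)
      _ = _ := by ring
  · calc 9 ≤ 1 * b := by omega
      _ ≤ (s - 1) * s ^ a := Nat.mul_le_mul (by omega) hba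

theorem x_e6 {s : ℕ} (hs : 2 ≤ s) (he : den (.e6 s) * c = num (.e6 s)) (h : SgD n c d)
    (hL : (s - 1) * s ^ 6 ≤ n) : False := by
  have hc : c ≤ 2 ^ 0 * s ^ 78 := by
    refine (le_of_den (Nat.gcd_pos_of_pos_left _ (by norm_num)) he).trans ?_
    change s ^ 36 * ((s ^ 2 - 1) * (s ^ 5 - 1) * (s ^ 6 - 1) * (s ^ 8 - 1) * (s ^ 9 - 1) * (s ^ 12 - 1)) ≤ _
    calc _ ≤ s ^ 36 * (s ^ 2 * s ^ 5 * s ^ 6 * s ^ 8 * s ^ 9 * s ^ 12) := by
          gcongr <;> exact sub_le_pow _ _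
      _ = _ := by ring
  have h9 : 2 ^ 6 ≤ s ^ 6 := Nat.pow_le_pow_left hs 6
  exact exc_main (b := 64) hs h hL hc (by norm_num) (by norm_num) (by omega)

theorem x_e7 {s : ℕ} (hs : 2 ≤ s) (he : den (.e7 s) * c = num (.e7 s)) (h : SgD n c d)
    (hL : (s - 1) * s ^ 7 ≤ n) : False := by
  have hc : c ≤ 2 ^ 0 * s ^ 133 := by
    refine (le_of_den (Nat.gcd_pos_of_pos_left _ (by norm_num)) he).trans ?_
    change s ^ 63 * ((s ^ 2 - 1) * (s ^ 6 - 1) * (s ^ 8 - 1) * (s ^ 10 - 1) * (s ^ 12 - 1) *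
      (s ^ 14 - 1) * (s ^ 18 - 1)) ≤ _
    calc _ ≤ s ^ 63 * (s ^ 2 * s ^ 6 * s ^ 8 * s ^ 10 * s ^ 12 * s ^ 14 * s ^ 18) := by
          gcongr <;> exact sub_le_pow _ _
      _ = _ := by ring
  have h9 : 2 ^ 7 ≤ s ^ 7 := Nat.pow_le_pow_left hs 7
  exact exc_main (b := 128) hs h hL hc (by norm_num) (by norm_num) (by omega)

theorem x_e8 {s : ℕ} (hs : 2 ≤ s) (he : den (.e8 s) * c = num (.e8 s)) (h : SgD n c d)
    (hL : (s - 1) * s ^ 7 ≤ n) : False := by
  have hc : c ≤ 2 ^ 0 * s ^ 248 := by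
    refine (le_of_den (show 1 ≤ 1 by norm_num) he).trans ?_
    change s ^ 120 * ((s ^ 2 - 1) * (s ^ 8 - 1) * (s ^ 12 - 1) * (s ^ 14 - 1) * (s ^ 18 - 1) *
      (s ^ 20 - 1) * (s ^ 24 - 1) * (s ^ 30 - 1)) ≤ _
    calc _ ≤ s ^ 120 * (s ^ 2 * s ^ 8 * s ^ 12 * s ^ 14 * s ^ 18 * s ^ 20 * s ^ 24 * s ^ 30) := by
          gcongr <;> exact sub_le_pow _ _
      _ = _ := by ring
  have h9 : 2 ^ 7 ≤ s ^ 7 := Nat.pow_le_pow_left hs 7
  exact exc_main (b := 128) hs h hL hc (by norm_num) (by norm_num) (by omega)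

/-- `²E₆(2)` -/
theorem SgD.te6_two (h : SgD n 76532479683774853939200 d) : False := by
  rcases h.seven_or with rfl | rfl | h1
  · -- all prime divisors of `d` are `11`
    have h11 : ∀ t, t.Prime → t ∣ d → t = 11 := by
      intro t ht htd
      have hmod := h.mod t ht htd
      have h2 : t ∣ [2, 3, 5, 7, 11, 13, 17, 19].prod :=
        ht.dvd_of_dvd_pow (n := 36) ((htd.trans h.dvd).trans (by decide))
      rw [(Nat.Prime.prime ht).dvd_prod_iff] at h2
      obtain ⟨r, hr, htr⟩ := h2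
      have hrp : r.Prime := by
        have : ∀ s ∈ [2, 3, 5, 7, 11, 13, 17, 19], s.Prime := by decide
        exact this r hr
      obtain rfl := (Nat.prime_dvd_prime_iff_eq ht hrp).1 htr
      simp only [List.mem_cons, List.not_mem_nil, or_false] at hr
      omega
    have h2 := h.d1
    obtain ⟨k, hk⟩ : ∃ k, d = 11 ^ k := by
      refine ⟨d.primeFactorsList.length, ?_⟩
      exact Nat.eq_prime_pow_of_unique_prime_dvd (by rintro rfl; omega) (fun {t} ht htd => h11 t ht htd)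
    rcases Nat.lt_or_ge k 2 with hk2 | hk2
    · interval_cases k
      · subst hk; norm_num at h2
      · exact h.ne ⟨rfl, by rw [hk]; norm_num⟩
    · have h3 : 11 ^ 2 ∣ d := by rw [hk]; exact pow_dvd_pow 11 hk2
      exact absurd (h3.trans h.dvd) (by decide)
  · refine h.primes' (l := [2, 3, 5, 7, 11, 13, 17, 19]) (k := 36) (by decide) (by decide) ?_
    decide
  · refine h.primes' (l := [2, 3, 5, 7, 11, 13, 17, 19]) (k := 36) (by decide) (by decide) ?_
    intro s hs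
    simp only [List.mem_cons, List.not_mem_nil, or_false] at hs
    exact mod_ne (by omega) (by omega)

theorem x_te6 {s : ℕ} (hs : 2 ≤ s) (he : den (.te6 s) * c = num (.te6 s)) (h : SgD n c d)
    (hL : (if s = 2 then 0 else (s - 1) * s ^ 6) ≤ n) : False := by
  rcases Nat.lt_or_ge s 3 with h3 | h3
  · obtain rfl : s = 2 := by omega
    have h1 : 3 * c = 229597439051324561817600 := he
    have h2 : c = 76532479683774853939200 := by omega
    subst h2
    exact h.te6_two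
  rw [if_neg (by omega)] at hL
  have hc : c ≤ 2 ^ 2 * s ^ 78 := by
    refine (le_of_den (Nat.gcd_pos_of_pos_left _ (by norm_num)) he).trans ?_
    change s ^ 36 * ((s ^ 2 - 1) * (s ^ 5 + 1) * (s ^ 6 - 1) * (s ^ 8 - 1) * (s ^ 9 + 1) * (s ^ 12 - 1)) ≤ _
    calc _ ≤ s ^ 36 * (s ^ 2 * (2 * s ^ 5) * s ^ 6 * s ^ 8 * (2 * s ^ 9) * s ^ 12) := by
          gcongr <;> first | exact sub_le_pow _ _ | exact add_le_pow (by omega) _
      _ = _ := by ring
  have h9 : 2 ^ 6 ≤ s ^ 6 := Nat.pow_le_pow_left hs 6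
  exact exc_main (b := 64) hs h hL hc (by norm_num) (by norm_num) (by omega)

theorem x_td4 {s : ℕ} (hs : 2 ≤ s) (he : den (.td4 s) * c = num (.td4 s)) (h : SgD n c d)
    (hL : (if s ≤ 3 then 0 else (s - 1) * s ^ 3) ≤ n) : False := by
  have hc : c ≤ 2 ^ 2 * s ^ 28 := by
    refine (le_of_den (show 1 ≤ 1 by norm_num) he).trans ?_
    change s ^ 12 * ((s ^ 2 - 1) * (s ^ 6 - 1) * (s ^ 8 + s ^ 4 + 1)) ≤ _
    have h8 : s ^ 8 + s ^ 4 + 1 ≤ 2 ^ 2 * s ^ 8 := by
      have h1 : s ^ 4 ≤ s ^ 8 := Nat.pow_le_pow_right (by omega) (by norm_num)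
      have h2 := Nat.one_le_pow 8 s (by omega)
      omega
    calc _ ≤ s ^ 12 * (s ^ 2 * s ^ 6 * (2 ^ 2 * s ^ 8)) := by
          gcongr <;> exact sub_le_pow _ _
      _ = _ := by ring
  rcases Nat.lt_or_ge s 4 with h3 | h3
  · rcases (show s = 2 ∨ s = 3 by omega) with rfl | rfl
    · have h1 : 1 * c = 211341312 := he
      rw [one_mul] at h1
      subst h1
      exact h.small (k := 24) (by decide)
    · have h1 : 1 * c = 20560831566912 := he
      rw [one_mul] at h1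
      subst h1
      refine h.primes' (l := [2, 3, 7, 13, 73]) (k := 24) (by decide) (by decide) ?_
      have h5 := h.five
      have hpr := h.pr
      rcases Nat.lt_or_ge n 37 with h7 | h7
      · clear h hL he hc
        interval_cases n <;> first | decide | exact absurd hpr (by norm_num)
      · intro s hs
        simp only [List.mem_cons, List.not_mem_nil, or_false] at hs
        exact mod_ne (by omega) (by omega)
  · rw [if_neg (by omega)] at hL
    have h9 : 4 ^ 3 ≤ s ^ 3 := Nat.pow_le_pow_left h3 3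
    exact exc_main (b := 64) hs h hL hc (by norm_num) (by norm_num) (by omega)

/-- `9 · 2 ^ e ≤ b · 4 ^ b` -/
theorem key_two {e b : ℕ} (h : e ≤ 2 * b) (hb : 9 ≤ b) : 9 * 2 ^ e ≤ b * 4 ^ b := by
  apply Nat.mul_le_mul hb
  calc 2 ^ e ≤ 2 ^ (2 * b) := Nat.pow_le_pow_right (by norm_num) h
    _ = 4 ^ b := by rw [pow_mul]; norm_num

theorem exp_i {j : ℕ} (hj : 5 ≤ j) : 5 * j + 2 ≤ 2 ^ j := by
  induction j, hj using Nat.le_induction with
  | base => norm_num
  | succ k hk ih => rw [pow_succ 2 k]; omega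

theorem exp_j {j : ℕ} (hj : 5 ≤ j) : 14 * j + 1 ≤ 3 ^ j := by
  induction j, hj using Nat.le_induction with
  | base => norm_num
  | succ k hk ih => rw [pow_succ 3 k]; omega

theorem x_sz {s : ℕ} (hs : ∃ m, 1 ≤ m ∧ s = 2 ^ (2 * m + 1)) (he : den (.sz s) * c = num (.sz s))
    (h : SgD n c d) (hL : s - 1 ≤ n) : False := by
  obtain ⟨m, hm, rfl⟩ := hs
  rcases Nat.lt_or_ge m 2 with h2 | h2
  · obtain rfl : m = 1 := by omega
    have h1 : 1 * c = 29120 := he
    rw [one_mul] at h1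
    subst h1
    exact h.small (k := 24) (by decide)
  · obtain ⟨j, hj⟩ : ∃ j, j = 2 * m + 1 := ⟨_, rfl⟩
    rw [← hj] at he hL
    have h5 := exp_i (j := j) (by omega)
    have h6 : 2 ^ 5 ≤ 2 ^ j := Nat.pow_le_pow_right (by norm_num) (by omega)
    norm_num at h6
    have hc : c ≤ 2 ^ (5 * j + 1) := by
      refine (le_of_den (show 1 ≤ 1 by norm_num) he).trans ?_
      change (2 ^ j) ^ 2 * ((2 ^ j - 1) * ((2 ^ j) ^ 2 + 1)) ≤ _
      calc _ ≤ (2 ^ j) ^ 2 * (2 ^ j * (2 * (2 ^ j) ^ 2)) := by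
            gcongr
            · exact Nat.sub_le _ _
            · exact add_le_pow (by omega) _
        _ = 2 ^ (5 * j + 1) := by rw [show 5 * j + 1 = j * 5 + 1 by ring, pow_add, pow_mul]; ring
    exact h.big hL hc (key_two (by omega) (by omega))

theorem x_ree {s : ℕ} (hs : ∃ m, 1 ≤ m ∧ s = 3 ^ (2 * m + 1)) (he : den (.ree s) * c = num (.ree s))
    (h : SgD n c d) (hL : (s - 1) / 2 ≤ n) : False := by
  obtain ⟨m, hm, rfl⟩ := hs
  rcases Nat.lt_or_ge m 2 with h2 | h2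
  · obtain rfl : m = 1 := by omega
    have h1 : 1 * c = 10073444472 := he
    rw [one_mul] at h1
    norm_num at hL
    subst h1
    obtain ⟨t, ht, htc, hmod⟩ := h.exists_prime
    have hl : t ∣ [2, 3, 7, 13, 19, 37].prod ^ 10 := htc.trans (by decide)
    have h3 : t ∣ [2, 3, 7, 13, 19, 37].prod := ht.dvd_of_dvd_pow hl
    rw [(Nat.Prime.prime ht).dvd_prod_iff] at h3
    obtain ⟨r, hr, htr⟩ := h3
    have hrp : r.Prime := by
      have : ∀ s ∈ [2, 3, 7, 13, 19, 37], s.Prime := by decide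
      exact this r hr
    obtain rfl := (Nat.prime_dvd_prime_iff_eq ht hrp).1 htr
    have h4 := lt_of_mod ht hmod
    simp only [List.mem_cons, List.not_mem_nil, or_false] at hr
    obtain rfl : t = 37 := by omega
    have hn : n ≤ 18 := by omega
    have hpr := h.pr
    interval_cases n <;> first | (exfalso; revert hmod; norm_num; done) | (exfalso; revert hpr; norm_num)
  · obtain ⟨j, hj⟩ : ∃ j, j = 2 * m + 1 := ⟨_, rfl⟩
    rw [← hj] at he hL
    have h5 := exp_j (j := j) (by omega)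
    have hodd : 3 ^ j % 2 = 1 := by rw [Nat.pow_mod]; simp
    have h6 : 3 ^ 5 ≤ 3 ^ j := Nat.pow_le_pow_right (by norm_num) (by omega)
    norm_num at h6
    have hc : c ≤ 2 ^ (14 * j) := by
      refine (le_of_den (show 1 ≤ 1 by norm_num) he).trans ?_
      change (3 ^ j) ^ 3 * ((3 ^ j - 1) * ((3 ^ j) ^ 3 + 1)) ≤ _
      have h7 : (3 ^ j - 1) * ((3 ^ j) ^ 3 + 1) ≤ (3 ^ j) ^ 4 := by
        obtain ⟨x, hx⟩ : ∃ x, 3 ^ j = x + 1 := ⟨3 ^ j - 1, by omega⟩
        rw [hx, Nat.add_sub_cancel]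
        nlinarith [Nat.zero_le x, sq_nonneg x, mul_nonneg (Nat.zero_le x) (sq_nonneg x)]
      calc _ ≤ (3 ^ j) ^ 3 * (3 ^ j) ^ 4 := Nat.mul_le_mul_left _ h7
        _ = (3 ^ j) ^ 7 := by ring
        _ ≤ (4 ^ j) ^ 7 := Nat.pow_le_pow_left (Nat.pow_le_pow_left (by norm_num) j) 7
        _ = 2 ^ (14 * j) := by
          rw [show (4 : ℕ) = 2 ^ 2 by norm_num, ← pow_mul, ← pow_mul]; congr 1; ring
    exact h.big hL hc (key_two (by omega) (by omega))

theorem exp_k {j : ℕ} (hj : 3 ≤ j) : 26 * j + 3 ≤ 2 * ((2 ^ j - 1) * 2 ^ j) := by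
  have h1 : ∀ j, 3 ≤ j → 26 * j + 3 ≤ 12 * 2 ^ j := by
    intro j hj
    induction j, hj using Nat.le_induction with
    | base => norm_num
    | succ k hk ih => rw [pow_succ 2 k]; omega
  have h2 := h1 j hj
  have h3 : 2 ^ 3 ≤ 2 ^ j := Nat.pow_le_pow_right (by norm_num) hj
  have h4 : 7 * 2 ^ j ≤ (2 ^ j - 1) * 2 ^ j := Nat.mul_le_mul_right _ (by omega)
  omega

theorem x_tf4 {s : ℕ} (hs : ∃ m, 1 ≤ m ∧ s = 2 ^ (2 * m + 1)) (he : den (.tf4 s) * c = num (.tf4 s))
    (h : SgD n c d) (hL : (s - 1) * s ≤ n) : False := by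
  obtain ⟨m, hm, rfl⟩ := hs
  obtain ⟨j, hj⟩ : ∃ j, j = 2 * m + 1 := ⟨_, rfl⟩
  rw [← hj] at he hL
  have h5 := exp_k (j := j) (by omega)
  have h6 : 2 ^ 3 ≤ 2 ^ j := Nat.pow_le_pow_right (by norm_num) (by omega)
  norm_num at h6
  have h7 : 7 * 8 ≤ (2 ^ j - 1) * 2 ^ j := Nat.mul_le_mul (by omega) h6
  have hc : c ≤ 2 ^ (26 * j + 2) := by
    refine (le_of_den (show 1 ≤ 1 by norm_num) he).trans ?_
    change (2 ^ j) ^ 12 * ((2 ^ j - 1) * ((2 ^ j) ^ 3 + 1) * ((2 ^ j) ^ 4 - 1) * ((2 ^ j) ^ 6 + 1)) ≤ _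
    calc _ ≤ (2 ^ j) ^ 12 * (2 ^ j * (2 * (2 ^ j) ^ 3) * (2 ^ j) ^ 4 * (2 * (2 ^ j) ^ 6)) := by
          gcongr <;> first | exact Nat.sub_le _ _ | exact add_le_pow (by omega) _
      _ = 2 ^ (26 * j + 2) := by rw [show 26 * j + 2 = j * 26 + 2 by ring, pow_add, pow_mul]; ring
  exact h.big hL hc (key_two (by omega) (by omega))

/-! ### the main theorem -/

/-- lower bounds for the degrees of the cross characteristic projective representations -/
def lsb : Grp → ℕ
  | .psl m s => if m = 2 then (s - 1) / 2 else s ^ (m - 1) - 1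
  | .psp m s => if s % 2 = 1 then (s ^ m - 1) / 2 else s ^ m - 1
  | .psu m s => (s - 1) * s ^ (m - 2)
  | .oodd m s => max (s ^ 3 - 1) (s ^ (m - 1) - 1)
  | .oplus m s => max (s ^ 3 - 1) (s ^ (m - 1) - 1)
  | .ominus m s => max (s ^ 3 - 1) (s ^ (m - 2) - 1)
  | .g2 s => if s ≤ 4 then 0 else (s - 1) * s
  | .f4 s => if s = 2 then 0 else (s - 1) * s ^ 3
  | .e6 s => (s - 1) * s ^ 6
  | .e7 s => (s - 1) * s ^ 7
  | .e8 s => (s - 1) * s ^ 7
  | .te6 s => if s = 2 then 0 else (s - 1) * s ^ 6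
  | .td4 s => if s ≤ 3 then 0 else (s - 1) * s ^ 3
  | .sz s => s - 1
  | .ree s => (s - 1) / 2
  | .tf4 s => (s - 1) * s
  | _ => 0

/-- the names of the groups of Lie type -/
def IsLieN : Grp → Prop
  | .psl _ _ => True
  | .psp _ _ => True
  | .psu _ _ => True
  | .oodd _ _ => True
  | .oplus _ _ => True
  | .ominus _ _ => True
  | .g2 _ => True
  | .f4 _ => True
  | .e6 _ => True
  | .e7 _ => True
  | .e8 _ => True
  | .te6 _ => True
  | .td4 _ => True
  | .sz _ => True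
  | .ree _ => True
  | .tf4 _ => True
  | _ => False

/-- **Cross characteristic elimination.** -/
theorem sg_cross {g : Grp} (hg : Cond g) (hlie : IsLieN g) (hc : den g * c = num g) (h : SgD n c d)
    (hL : lsb g ≤ n) : False := by
  cases g with
  | psl m s =>
    obtain ⟨h1, h2, h3⟩ := hg
    change (if m = 2 then (s - 1) / 2 else s ^ (m - 1) - 1) ≤ n at hL
    by_cases hm : m = 2
    · subst hm
      rw [if_pos rfl] at hL
      exact x_psl2 h3 (h2 rfl) hc h hL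
    · rw [if_neg hm] at hL
      exact x_psl (by omega) h3.two_le hc h hL
  | psp m s => exact x_psp hg.1 hg.2.2.two_le hg.2.1 hc h hL
  | psu m s => exact x_psu hg.1 hg.2.2.two_le hg.2.1 hc h hL
  | oodd m s => exact x_oodd hg.1 hg.2.2.two_le hg.2.1 hc h hL
  | oplus m s => exact x_oplus hg.1 hg.2.two_le hc h hL
  | ominus m s => exact x_ominus hg.1 hg.2.two_le hc h hL
  | g2 s => exact x_g2 hg.1 hc h hL
  | f4 s => exact x_f4 (IsPrimePow.two_le hg) hc h hL
  | e6 s => exact x_e6 (IsPrimePow.two_le hg) hc h hL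
  | e7 s => exact x_e7 (IsPrimePow.two_le hg) hc h hL
  | e8 s => exact x_e8 (IsPrimePow.two_le hg) hc h hL
  | te6 s => exact x_te6 (IsPrimePow.two_le hg) hc h hL
  | td4 s => exact x_td4 (IsPrimePow.two_le hg) hc h hL
  | sz s => exact x_sz hg hc h hL
  | ree s => exact x_ree hg hc h hL
  | tf4 s => exact x_tf4 hg hc h hL
  | _ => exact hlie

end Cfsg.Agent.H927.SgX
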