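import Cfsg.Agent.H927.SgXMain
import Cfsg.Agent.H192.SingerLS
import Cfsg.Agent.H203.LSE6
import Cfsg.Agent.H203.LSE7
import Cfsg.Agent.H203.LSE8
import Cfsg.Agent.H203.LSF4odd
import Cfsg.Agent.H203.LSF4even
import Cfsg.Agent.H203.LSG2
import Cfsg.Agent.H203.LSSz
import Cfsg.Agent.H203.LSTwF4
import Cfsg.Agent.H203.LSTwD4
import Cfsg.Agent.H203.LSTwE6

/-!
# The degree bounds `lsb g ≤ n` for the exceptional groups
-/

set_option autoImplicit false

namespace Cfsg.Agent.H927.SgX

open Cfsg Cfsg.Agent.OrdDiv Cfsg.Agent.H436 Cfsg.Agent.H192.Singer Cfsg.Agent.H915.GN Cfsg.Agent.H203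

universe u v w

/-- the names of the exceptional groups of Lie type -/
def IsExcN : Grp → Prop
  | .g2 _ => True
  | .f4 _ => True
  | .e6 _ => True
  | .e7 _ => True
  | .e8 _ => True
  | .te6 _ => True
  | .td4 _ => True
  | .sz _ => True
  | .ree _ => True
  | .tf4 _ => True
  | _ => False

theorem charP_of {K : Type} [Field K] [Fintype K] {q r f : ℕ} (hr : r.Prime) (hF : Fintype.card K = q)
    (hq : q = r ^ f) : CharP K r := by
  have := Fact.mk hr
  exact charP_of_card_eq_prime_pow (f := f) (by rw [hF, hq])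

/-- **The exceptional groups.** -/
theorem exc_le {g : Grp} (hexc : IsExcN g) (hg : Cond g) {T : Type u} [Group T] [IsSimpleGroup T]
    (hna : ∃ x y : T, x * y ≠ y * x) (hreal : Real g T) {r : ℕ} (hr : r.Prime) (hch : HasChar r g)
    {F : Type w} [Field F] [Finite F] (hrF : (r : F) ≠ 0) {n : ℕ}
    {L : Subgroup (Matrix.GeneralLinearGroup (Fin n) F)} (φ : L →* T) (hφ : Function.Surjective φ)
    (hker : φ.ker ≤ Subgroup.center L) : lsb g ≤ n := by
  have key : ∀ {d : ℕ}, LS.LS.{u, w, w} r d T → d ≤ n := fun h => ls_le hna h hrF φ hφ hker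
  cases g with
  | g2 q =>
    obtain ⟨K, _, _, hK, ⟨e⟩⟩ := hreal
    obtain ⟨f, hf⟩ := hch
    have := charP_of hr hK hf
    change (if q ≤ 4 then 0 else (q - 1) * q) ≤ n
    split_ifs with h4
    · exact Nat.zero_le _
    · have h1 := key (LS.LS.congr e.symm (LS.G2.ls.{0, w, w} (r := r) K
        (by rw [Nat.card_eq_fintype_card, hK]; omega) (by rw [Nat.card_eq_fintype_card, hK]; omega)))
      rwa [Nat.card_eq_fintype_card, hK] at h1
  | f4 q =>
    obtain ⟨K, _, _, hK, ⟨e⟩⟩ := hreal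
    obtain ⟨f, hf⟩ := hch
    have := charP_of hr hK hf
    change (if q = 2 then 0 else (q - 1) * q ^ 3) ≤ n
    split_ifs with h4
    · exact Nat.zero_le _
    · have hq : 2 ≤ q := IsPrimePow.two_le hg
      have h1 : (q - 1) * q ^ 4 ≤ n := by
        by_cases h2 : (2 : K) = 0
        · have h1 := key (LS.LS.congr e.symm (LS.F4even.ls_even.{0, w, w} (r := r) K h2
            (by rw [Nat.card_eq_fintype_card, hK]; omega)))
          rwa [Nat.card_eq_fintype_card, hK] at h1
        · have h1 := key (LS.LS.congr e.symm (LS.F4odd.ls_odd.{0, w, w} (r := r) K h2))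
          rwa [Nat.card_eq_fintype_card, hK] at h1
      exact (Nat.mul_le_mul_left _ (Nat.pow_le_pow_right (by omega) (by norm_num))).trans h1
  | e6 q =>
    obtain ⟨K, _, _, hK, ⟨e⟩⟩ := hreal
    obtain ⟨f, hf⟩ := hch
    have := charP_of hr hK hf
    have hq : 2 ≤ q := IsPrimePow.two_le hg
    have h1 := key (LS.LS.congr e.symm (LS.E6.ls.{0, w, w} (r := r) K))
    rw [Nat.card_eq_fintype_card, hK] at h1
    exact (Nat.mul_le_mul_left _ (Nat.pow_le_pow_right (by omega) (by norm_num))).trans h1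
  | e7 q =>
    obtain ⟨K, _, _, hK, ⟨e⟩⟩ := hreal
    obtain ⟨f, hf⟩ := hch
    have := charP_of hr hK hf
    have hq : 2 ≤ q := IsPrimePow.two_le hg
    have h1 := key (LS.LS.congr e.symm (LS.E7.ls.{0, w, w} (r := r) K))
    rw [Nat.card_eq_fintype_card, hK] at h1
    exact (Nat.mul_le_mul_left _ (Nat.pow_le_pow_right (by omega) (by norm_num))).trans h1
  | e8 q =>
    obtain ⟨K, _, _, hK, ⟨e⟩⟩ := hreal
    obtain ⟨f, hf⟩ := hch
    have := charP_of hr hK hf
    have hq : 2 ≤ q := IsPrimePow.two_le hg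
    have h1 := key (LS.LS.congr e.symm (LS.E8.ls.{0, w, w} (r := r) K))
    rw [Nat.card_eq_fintype_card, hK] at h1
    exact (Nat.mul_le_mul_left _ (Nat.pow_le_pow_right (by omega) (by norm_num))).trans h1
  | te6 q =>
    obtain ⟨K, _, _, hK, ⟨e⟩⟩ := hreal
    obtain ⟨f, hf⟩ := hch
    have := charP_of hr hK (f := f * 2) (by rw [hf, ← pow_mul])
    have hq : 2 ≤ q := IsPrimePow.two_le hg
    change (if q = 2 then 0 else (q - 1) * q ^ 6) ≤ n
    split_ifs with h4
    · exact Nat.zero_le _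
    · exact key (LS.LS.congr e.symm (LS.TwE6.ls.{0, w, w} (r := r) hg hK))
  | td4 q =>
    obtain ⟨K, _, _, hK, ⟨e⟩⟩ := hreal
    obtain ⟨f, hf⟩ := hch
    have := charP_of hr hK (f := f * 3) (by rw [hf, ← pow_mul])
    change (if q ≤ 3 then 0 else (q - 1) * q ^ 3) ≤ n
    split_ifs with h4
    · exact Nat.zero_le _
    · have h1 := key (LS.LS.congr e.symm (LS.TwD4.ls.{0, w, w} (r := r) hg hK))
      exact (Nat.mul_le_mul_left _ (Nat.pow_le_pow_right (by omega) (by norm_num))).trans h1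
  | sz q =>
    obtain ⟨K, _, _, m, hm, hK, hq, ⟨e⟩⟩ := hreal
    obtain ⟨f, hf⟩ := hch
    have hr2 : r = 2 := by
      have h1 : r ∣ 2 ^ (2 * m + 1) := by
        rw [← hq, hf]
        refine dvd_pow_self r ?_
        rintro rfl
        rw [hf, pow_zero] at hq
        have := Nat.one_lt_two_pow (n := 2 * m + 1) (by omega)
        omega
      exact (Nat.prime_dvd_prime_iff_eq hr Nat.prime_two).1 (hr.dvd_of_dvd_pow h1)
    subst hr2
    have h1 := key (LS.LS.congr e.symm (LS.LS.sz.{0, w, w} hm (hK.trans hq)))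
    rwa [Nat.card_eq_fintype_card, hK] at h1
  | ree q =>
    obtain ⟨K, _, _, m, hm, hK, hq, ⟨e⟩⟩ := hreal
    obtain ⟨f, hf⟩ := hch
    have hr2 : r = 3 := by
      have h1 : r ∣ 3 ^ (2 * m + 1) := by
        rw [← hq, hf]
        refine dvd_pow_self r ?_
        rintro rfl
        rw [hf, pow_zero] at hq
        have : 1 < 3 ^ (2 * m + 1) := Nat.one_lt_pow (by omega) (by norm_num)
        omega
      exact (Nat.prime_dvd_prime_iff_eq hr Nat.prime_three).1 (hr.dvd_of_dvd_pow h1)
    subst hr2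
    have h1 := key (LS.LS.congr e.symm (LS.LS.ree.{0, w, w} hm (hK.trans hq)))
    rw [Nat.card_eq_fintype_card, hK] at h1
    exact (Nat.div_le_self _ _).trans h1
  | tf4 q =>
    obtain ⟨K, _, _, m, hm, hK, hq, ⟨e⟩⟩ := hreal
    obtain ⟨f, hf⟩ := hch
    have hr2 : r = 2 := by
      have h1 : r ∣ 2 ^ (2 * m + 1) := by
        rw [← hq, hf]
        refine dvd_pow_self r ?_
        rintro rfl
        rw [hf, pow_zero] at hq
        have := Nat.one_lt_two_pow (n := 2 * m + 1) (by omega)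
        omega
      exact (Nat.prime_dvd_prime_iff_eq hr Nat.prime_two).1 (hr.dvd_of_dvd_pow h1)
    subst hr2
    have h1 := key (LS.LS.congr e.symm (LS.TwF4.ls.{0, w, w} hm (hK.trans hq)))
    rw [Nat.card_eq_fintype_card, hK] at h1
    refine (Nat.mul_le_mul_left _ ?_).trans h1
    exact Nat.le_self_pow (by norm_num) q
  | _ => exact hexc.elim

end Cfsg.Agent.H927.SgX
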