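import Cfsg.Agent.H927.SzOpp2
import Cfsg.Agent.ChevalleyStructure.StringMem
import Cfsg.Agent.ChevalleyStructure.TorusConj

/-!
# The Moufang step (S2539, part 1)

`F` a subgroup of `GL`, `A, B, B' ≤ F` long root subgroups, `B` and `B'` opposite to `A`: then `B' = v B v⁻¹` with
`v ∈ F` in the unipotent radical of `N(A)`.
-/

set_option autoImplicit false

namespace Cfsg.Agent.H927.Sz

open Cfsg.Lie Cfsg.Agent.ChevalleyStructure Cfsg.Agent.ChevalleyStructure.RootCombGood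
  Cfsg.Agent.ChevalleyStructure.RootWord Cfsg.Agent.ChevalleyStructure.RootVec
  Cfsg.Agent.ChevalleyStructure.RootVecTab Cfsg.Agent.ChevalleyStructure.RootSupport
  Cfsg.Agent.ChevalleyStructure.Elts Cfsg.Agent.ChevalleyStructure.BruhatSplit
  Cfsg.Agent.H86.Lev Cfsg.Agent.H86.Graded Cfsg.Agent.H86.Par Cfsg.Agent.H92.ChevCent

universe u

variable {D : ChevalleyDatum} {K : Type u} [Field K]

/-- the level is the sum of the levels of the simple constituents -/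
theorem car_eq_sum (hD : InList D) (β : ℕ) {r : ℕ} (hr : r < D.nroots) :
    car D β r = ∑ j ∈ Finset.range D.rank, rt D r j * car D β (D.simple j) := by
  have hc := checked_of_mem hD
  unfold car
  simp_rw [Finset.mul_sum]
  rw [Finset.sum_comm]
  refine Finset.sum_congr rfl fun k hk => ?_
  rw [cartan_eq_sum hc (Finset.mem_range.1 hk) hr, Finset.mul_sum]
  exact Finset.sum_congr rfl fun j _ => by ring

/-- `h_r(c)` acts on the root subgroups -/
theorem hG_conj_xG (hD : InList D) {r : ℕ} (hr : r < D.nroots) {c : K} (hc0 : c ≠ 0) {s : ℕ} (hs : s < D.nroots)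
    (t : K) : hG hD r c * xG hD s t * (hG hD r c)⁻¹ = xG hD s (c ^ car D r s * t) := by
  have hc := checked_of_mem hD
  have hadd : Cfsg.Agent.ChevalleyStructure.TorusConj.IsAdditive D (car D r) := by
    refine ⟨fun j => car D r (D.simple j), fun s hs => ?_⟩
    rw [car_eq_sum hD r hs]
    exact Finset.sum_congr rfl fun j _ => by ring
  rw [mul_inv_eq_iff_eq_mul]
  apply Units.ext
  rw [Units.val_mul, Units.val_mul, coe_hG, coe_xG, coe_xG,
    Cfsg.Agent.ChevalleyStructure.StringMem.hMat_eq hD hr hc0]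
  exact Cfsg.Agent.ChevalleyStructure.TorusConj.torus_mul_x hc hadd hc0 s t hs

theorem hG_conj_Wd (hD : InList D) {r : ℕ} (hr : r < D.nroots) {c : K} (hc0 : c ≠ 0) (k : ℕ → K) :
    ∀ l : List ℕ, (∀ s ∈ l, s < D.nroots) →
      hG hD r c * Wd hD l k * (hG hD r c)⁻¹ = Wd hD l (fun s => c ^ car D r s * k s)
  | [], _ => by
    show hG hD r c * 1 * (hG hD r c)⁻¹ = 1
    rw [mul_one, mul_inv_cancel]
  | s :: l, hl => by
    have ih := hG_conj_Wd hD hr hc0 k l fun a ha => hl a (List.mem_cons_of_mem _ ha)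
    rw [Wd_cons, Wd_cons, ← ih, ← hG_conj_xG hD hr hc0 (hl s List.mem_cons_self)]
    group

/-- `C_Q(h_a(c)) = 1` for `c ≠ 1`, `c² ≠ 1` -/
theorem Q_fix (hD : InList D) {c : K} (hc0 : c ≠ 0) (hc1 : c ≠ 1) (hc2 : c ^ 2 ≠ 1) {v : GL D.Idx K}
    (hv : v ∈ Q D K (top D)) (h : hG hD (top D) c * v * (hG hD (top D) c)⁻¹ = v) : v = 1 := by
  have G := good hD
  have T := hiT hD
  obtain ⟨t, ht⟩ := form hD G T hv
  have hl : ∀ r ∈ lev1 D (top D), r < D.nroots ∧ car D (top D) r = 1 := fun r hr => mem_lev1.1 hr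
  have h1 : hG hD (top D) c * v * (hG hD (top D) c)⁻¹ =
      Wd hD (lev1 D (top D)) (fun s => c ^ car D (top D) s * kap D (top D) s v) * xG hD (top D) (c ^ (2 : ℤ) * t) := by
    rw [← hG_conj_Wd hD (top_lt hD) hc0 _ _ fun s hs => (hl s hs).1]
    have := hG_conj_xG hD (top_lt hD) hc0 (top_lt hD) t
    rw [car_top hD] at this
    rw [← this]
    conv_lhs => rw [ht]
    group
  rw [h] at h1
  have hk : ∀ s < D.nroots, car D (top D) s = 1 → kap D (top D) s (v : Matrix D.Idx D.Idx K) = 0 := by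
    intro s hs hs1
    have h2 := congrArg (fun g : GL D.Idx K => kap D (top D) s (g : Matrix D.Idx D.Idx K)) h1
    beta_reduce at h2
    rw [kap_mul hD G T hs hs1 (Q_le_Rg hD _ (Wd_mem_Q hD _ _ hl))
      (Q_le_Rg hD _ (xG_mem_Q hD T.lt (by rw [G.car_self T.lt]; norm_num) _)), kap_Wd hD G T hs hs1 _ _ hl
      nodup_lev1, if_pos (mem_lev1.2 ⟨hs, hs1⟩), coe_xG, kap_x_ne hD G T hs hs1 T.lt
      (by rw [G.car_self T.lt]; norm_num), add_zero] at h2
    · rw [hs1, zpow_one] at h2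
      by_contra hne
      exact hc1 (mul_right_cancel₀ hne (by rw [one_mul]; exact h2.symm))
    · intro e
      rw [← e, car_top hD] at hs1
      norm_num at hs1
  obtain ⟨t', ht'⟩ := eq_top_of_kap hD G T hv hk
  have h3 := hG_conj_xG hD (top_lt hD) hc0 (top_lt hD) t'
  rw [← ht', h, car_top hD, ht'] at h3
  have h4 := xG_injective hD (top_lt hD) h3
  have : t' = 0 := by
    by_contra hne
    apply hc2
    have := mul_right_cancel₀ hne (show 1 * t' = c ^ (2 : ℤ) * t' by rw [one_mul]; exact h4)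
    exact_mod_cast this.symm
  rw [ht', this, xG_zero]

/-- elements `[v, h]` -/
theorem mem_of_comm {G : Type*} [Group G] {Q V : Subgroup G} [Finite V] (hVQ : V ≤ Q) {h : G}
    (hfix : ∀ v ∈ Q, h * v * h⁻¹ = v → v = 1) (hV : ∀ v ∈ V, h * v * h⁻¹ ∈ V) {q : G} (hq : q ∈ Q)
    (hq' : q⁻¹ * (h * q * h⁻¹) ∈ V) : q ∈ V := by
  have key : ∀ v ∈ Q, ∀ w ∈ Q, v⁻¹ * (h * v * h⁻¹) = w⁻¹ * (h * w * h⁻¹) → v = w := by
    intro v hv w hw e
    have h1 : h * (w * v⁻¹) * h⁻¹ = w * v⁻¹ := by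
      have e1 : h * v * h⁻¹ = v * (w⁻¹ * (h * w * h⁻¹)) := by rw [← e]; group
      calc h * (w * v⁻¹) * h⁻¹ = h * w * h⁻¹ * (h * v * h⁻¹)⁻¹ := by group
        _ = h * w * h⁻¹ * (v * (w⁻¹ * (h * w * h⁻¹)))⁻¹ := by rw [e1]
        _ = w * v⁻¹ := by group
    have h2 := hfix _ (Q.mul_mem hw (Q.inv_mem hv)) h1
    exact (mul_inv_eq_one.1 h2).symm
  let f : V → V := fun v => ⟨(v : G)⁻¹ * (h * v * h⁻¹), V.mul_mem (V.inv_mem v.2) (hV v v.2)⟩
  have hf : Function.Injective f := fun v w e =>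
    Subtype.ext (key v (hVQ v.2) w (hVQ w.2) (congrArg Subtype.val e))
  obtain ⟨v, hv⟩ := (Finite.injective_iff_surjective.1 hf) ⟨_, hq'⟩
  have := key v (hVQ v.2) q hq (congrArg Subtype.val hv)
  rw [← this]
  exact v.2

theorem hG_top_mem (hD : InList D) (c : K) : hG hD (top D) c ∈ XT D K ⊔ XB D K := by
  refine mem_of_xG_mem hD fun p hp => ?_
  have hp' : p.1 = top D ∨ p.1 = 0 := by
    unfold ChevalleyDatum.hWord ChevalleyDatum.nWord at hp
    rw [neg_top hD] at hp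
    simp only [List.mem_append, List.mem_cons, List.not_mem_nil, or_false] at hp
    rcases hp with (rfl | rfl | rfl) | (rfl | rfl | rfl) <;> simp
  rcases hp' with h | h
  · rw [h]; exact (le_sup_left : XT D K ≤ _) (xG_mem_rootSubgroup hD _ _)
  · rw [h]; exact (le_sup_right : XB D K ≤ _) (xG_mem_rootSubgroup hD _ _)

theorem hG_conj_Q (hD : InList D) {c : K} (hc0 : c ≠ 0) {q : GL D.Idx K} (hq : q ∈ Q D K (top D)) :
    hG hD (top D) c * q * (hG hD (top D) c)⁻¹ ∈ Q D K (top D) :=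
  diag_conj_Q hD (hG_mem_diagonal hD (top_lt hD) hc0) q hq

/-- the Moufang step in standard position -/
theorem moufang_aux (hD : InList D) [Finite K] {c : K} (hc0 : c ≠ 0) (hc1 : c ≠ 1) (hc2 : c ^ 2 ≠ 1)
    {F : Subgroup (GL D.Idx K)} (hA : XT D K ≤ F) (hB : XB D K ≤ F) {q : GL D.Idx K} (hq : q ∈ Q D K (top D))
    (hB' : cj q (XB D K) ≤ F) : q ∈ F := by
  have hF : hG hD (top D) c ∈ F := (sup_le hA hB) (hG_top_mem hD c)
  have hF' : q * hG hD (top D) c * q⁻¹ ∈ F := by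
    have h1 : cj q (XT D K ⊔ XB D K) ≤ F := by
      rw [cj_sup]
      refine sup_le ?_ hB'
      rw [Q_cj_XT hD hq]
      exact hA
    exact h1 (conj_mem_cj (hG_top_mem hD c))
  have hfin : Finite (GL D.Idx K) := inferInstance
  have h1 : q⁻¹ ∈ F ⊓ Q D K (top D) := by
    refine mem_of_comm (Q := Q D K (top D)) inf_le_right (h := hG hD (top D) c)
      (fun v hv h => Q_fix hD hc0 hc1 hc2 hv h) (fun v hv => ?_) (Subgroup.inv_mem _ hq) ?_
    · exact ⟨F.mul_mem (F.mul_mem hF hv.1) (F.inv_mem hF), hG_conj_Q hD hc0 hv.2⟩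
    · have e : (q⁻¹)⁻¹ * (hG hD (top D) c * q⁻¹ * (hG hD (top D) c)⁻¹) =
          (q * hG hD (top D) c * q⁻¹) * (hG hD (top D) c)⁻¹ := by group
      refine ⟨?_, Subgroup.mul_mem _ (by rw [inv_inv]; exact hq) (hG_conj_Q hD hc0 (Subgroup.inv_mem _ hq))⟩
      rw [e]
      exact F.mul_mem hF' (F.inv_mem hF)
  have := F.inv_mem h1.1
  rwa [inv_inv] at this

/-- **Moufang step** -/
theorem moufang (hD : InList D) [Finite K] {c : K} (hc0 : c ≠ 0) (hc1 : c ≠ 1) (hc2 : c ^ 2 ≠ 1)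
    {F A B B' : Subgroup (GL D.Idx K)} (hA : A ≤ F) (hB : B ≤ F) (hB' : B' ≤ F) (h1 : Opp A B) (h2 : Opp A B') :
    ∃ v ∈ F, B' = cj v B ∧ ∀ g ∈ D.group K, A = cj g (XT D K) → v ∈ cj g (Q D K (top D)) := by
  obtain ⟨g, hg, eA, eB⟩ := h1
  have h3 : Opp (XT D K) (cj g⁻¹ B') := by
    have := h2.cj (Subgroup.inv_mem _ hg)
    rwa [eA, cj_inv_cj] at this
  obtain ⟨q, hq, e⟩ := exists_Q_of_opp hD h3
  have h4 : q ∈ cj g⁻¹ F := by
    refine moufang_aux hD hc0 hc1 hc2 (F := cj g⁻¹ F) ?_ ?_ hq ?_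
    · rw [← cj_le_iff, ← eA]; exact hA
    · rw [← cj_le_iff, ← eB]; exact hB
    · rw [← e]; exact cj_mono hB'
  refine ⟨g * q * g⁻¹, ?_, ?_, fun g' hg' e' => ?_⟩
  · rw [mem_cj, inv_inv] at h4
    exact h4
  · rw [cj_mul, cj_mul, eB, cj_inv_cj, ← e, cj_cj_inv]
  · rw [mem_cj]
    have hp : g'⁻¹ * g ∈ P K D := by
      refine mem_P_of_cj (Subgroup.mul_mem _ (Subgroup.inv_mem _ hg') hg) ?_
      rw [cj_mul, ← eA, e', cj_inv_cj]
    have := P_conj_Q hD hp q hq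
    have e2 : g'⁻¹ * g * q * (g'⁻¹ * g)⁻¹ = g'⁻¹ * (g * q * g⁻¹) * g' := by group
    rwa [e2] at this

/-- existence of the field element -/
theorem exists_c (K : Type u) [Field K] [Finite K] (hK : 4 ≤ Nat.card K) : ∃ c : K, c ≠ 0 ∧ c ≠ 1 ∧ c ^ 2 ≠ 1 := by
  classical
  have := Fintype.ofFinite K
  rw [Nat.card_eq_fintype_card] at hK
  have hlt : ({0, 1, -1} : Finset K).card < (Finset.univ : Finset K).card := by
    rw [Finset.card_univ]
    exact lt_of_le_of_lt Finset.card_le_three (by omega)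
  obtain ⟨c, -, hc⟩ := Finset.exists_mem_notMem_of_card_lt_card hlt
  simp only [Finset.mem_insert, Finset.mem_singleton, not_or] at hc
  refine ⟨c, hc.1, hc.2.1, fun h => ?_⟩
  rcases (mul_self_eq_one_iff.1 (by rw [← sq]; exact h) : c = 1 ∨ c = -1) with h | h
  · exact hc.2.1 h
  · exact hc.2.2 h

end Cfsg.Agent.H927.Sz
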