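import Cfsg.Agent.H927.F4TwoTab
import Cfsg.Agent.H35.F4Two.Asm

/-!
# S5926, characteristic 2: `Two.exists_pkg`
-/

set_option autoImplicit false

namespace Cfsg.Agent.H927.F4Two

open Cfsg Cfsg.Lie Module
open Cfsg.Agent.ChevalleyStructure Cfsg.Agent.ChevalleyStructure.Elts Cfsg.Agent.ChevalleyStructure.RootVecTab
open Cfsg.Agent.ChevalleyStructure.RootVec
open Cfsg.Agent.GpExc.Field (emb coe_emb coe_glMap emb_injective)
open Cfsg.Agent.BpExc.TorAll Cfsg.Agent.BpExc.TorChev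
open Cfsg.Agent.Tits.Roots Cfsg.Agent.Nodes.BNOf Cfsg.Agent.Nodes.RGDChev Cfsg.Agent.KFacts.RgdChevCoord
open Cfsg.Agent.H952.F4 Cfsg.Agent.H952.F4.TabNum Cfsg.Agent.H952.F4.TabLin Cfsg.Agent.H952.F4.TabMult
open Cfsg.Agent.ChevalleyStructure.CoxeterGeom Cfsg.Agent.ChevalleyStructure.CoxeterGeomTypes
  Cfsg.Agent.Nodes.Reps
open Cfsg.Agent.H412.OT (pr chi)
open Cfsg.Agent.ChevalleyStructure.NPerm (permHom)
open Cfsg.Agent.H969.TwF (sh)

universe u

/-- The diagonal form over an algebraic closure. -/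
structure DV {F : Type u} [Field F] (x : ↥(chevF4.group F)) (m : ℕ) (K : Type u) [Field K] [DecidableEq K]
    (f : F →+* K) (g : ↥(chevF4.group K)) (z : Kˣ) (a : Fin 4 → ℕ) : Prop where
  ord : orderOf z = m
  lt : ∀ i, a i < m
  ne : x ≠ 1 → z4 (a 0) (a 1) (a 2) (a 3) = false
  mat : (((g * emb hF4 f x * g⁻¹ : ↥(chevF4.group K)) : GL chevF4.Idx K) : Matrix chevF4.Idx chevF4.Idx K) =
      Matrix.diagonal (Sum.elim (fun _ => (1 : K)) (fun s : Fin chevF4.nroots =>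
        ((val z a (rowsL.getD s.val (8, 8, 8, 8)) : Kˣ) : K)))
  tor : g * emb hF4 f x * g⁻¹ ∈ TT chevF4 K

theorem exists_dv {m : ℕ} (hm0 : m ≠ 0) (hm : m.Coprime 2) {F : Type u} [Field F] [Finite F] [CharP F 2]
    {x : ↥(chevF4.group F)} (hx : x ^ m = 1) :
    ∃ (K : Type u) (_ : Field K) (_ : DecidableEq K) (f : F →+* K) (g : ↥(chevF4.group K)) (z : Kˣ) (a : Fin 4 → ℕ),
      DV x m K f g z a := by
  classical
  have : Fact (Nat.Prime 2) := ⟨Nat.prime_two⟩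
  have : NeZero m := ⟨hm0⟩
  set K := AlgebraicClosure F with hK
  have hkch : CharP K 2 := charP_of_injective_algebraMap (algebraMap F K).injective 2
  have hk' : HAlg 2 K := Cfsg.Agent.H944.RootVals.hAlg_closure 2 F
  set f : F →+* K := algebraMap F K with hf
  set x' : ↥(chevF4.group K) := emb hF4 f x with hx'
  have hxm : x' ^ m = 1 := by rw [hx', ← map_pow, hx, map_one]
  obtain ⟨g, hg⟩ := Cfsg.Agent.H944.TorAnyChev.exists_conj_mem_TT hpF4 2 hk' hm0 hm hxm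
  set t := g * x' * g⁻¹ with ht
  obtain ⟨c, hcL⟩ := Cfsg.Agent.H944.RootVals.TT_diag hpF4 hg
  have htm : t ^ m = 1 := by rw [ht, conj_pow, hxm, mul_one, mul_inv_cancel]
  have hmk : ((m : ℕ) : K) ≠ 0 := by
    intro h0
    have h1 : 2 ∣ m := (CharP.cast_eq_zero_iff K 2 m).1 h0
    have h2 : 2 ∣ 1 := by
      rw [← hm]
      exact Nat.dvd_gcd h1 dvd_rfl
    omega
  have : NeZero ((m : ℕ) : K) := ⟨hmk⟩
  obtain ⟨ζ, hζ⟩ : ∃ ζ : K, IsPrimitiveRoot ζ m := HasEnoughRootsOfUnity.exists_primitiveRoot K m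
  have hζ0 : ζ ≠ 0 := hζ.ne_zero hm0
  let z : Kˣ := Units.mk0 ζ hζ0
  have hz : orderOf z = m := by rw [← orderOf_units]; exact hζ.eq_orderOf.symm
  have hsimple : ∀ j : Fin 4, ∃ s : Fin chevF4.nroots, (∏ i, c i ^ (vec chevF4 4 s i) : Kˣ) = c j := by
    intro j
    have hlt := NPerm.simple_lt hpF4.inList (lt_rank hpF4 j)
    refine ⟨⟨chevF4.simple j, hlt⟩, ?_⟩
    show (∏ i, c i ^ (vec chevF4 4 (chevF4.simple j) i) : Kˣ) = c j
    rw [vec_simple hpF4 j, Finset.prod_eq_single j]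
    · rw [sr_self, zpow_one]
    · intro i _ hij
      rw [sr_ne hij, zpow_zero]
    · intro h
      exact absurd (Finset.mem_univ j) h
  have hcm : ∀ j, c j ^ m = 1 := by
    intro j
    obtain ⟨s, hs⟩ := hsimple j
    have h2 : (((t ^ m : ↥(chevF4.group K)) : GL chevF4.Idx K) : Matrix chevF4.Idx chevF4.Idx K) =
        Matrix.diagonal (Sum.elim (fun _ => (1 : K)) (fun s : Fin chevF4.nroots =>
          ((∏ i, c i ^ (vec chevF4 4 s i) : Kˣ) : K)) ^ m) := by
      rw [Subgroup.coe_pow, Units.val_pow_eq_pow_val, hcL, Matrix.diagonal_pow]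
    rw [htm, Subgroup.coe_one, Units.val_one] at h2
    have h3 := congrFun (congrFun h2 (Sum.inr s)) (Sum.inr s)
    rw [Matrix.one_apply_eq, Matrix.diagonal_apply_eq, Pi.pow_apply, Sum.elim_inr, hs,
      ← Units.val_pow_eq_pow_val] at h3
    exact Units.ext h3.symm
  have hex : ∀ j, ∃ a < m, z ^ a = c j := by
    intro j
    have h1 : ((c j : Kˣ) : K) ^ m = 1 := by
      rw [← Units.val_pow_eq_pow_val, hcm j, Units.val_one]
    obtain ⟨a, ha', ha⟩ := hζ.eq_pow_of_pow_eq_one h1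
    refine ⟨a, ha', Units.ext ?_⟩
    rw [Units.val_pow_eq_pow_val, ← ha]
    rfl
  choose a ha' ha using hex
  have hmat : (((t : ↥(chevF4.group K)) : GL chevF4.Idx K) : Matrix chevF4.Idx chevF4.Idx K) =
      Matrix.diagonal (Sum.elim (fun _ => (1 : K)) (fun s : Fin chevF4.nroots =>
        ((val z a (rowsL.getD s.val (8, 8, 8, 8)) : Kˣ) : K))) := by
    rw [hcL]
    congr 1
    funext i
    rcases i with i | i
    · rfl
    · show ((∏ j, c j ^ (vec chevF4 4 i j) : Kˣ) : K) = ((val z a (rowsL.getD i (8, 8, 8, 8)) : Kˣ) : K)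
      rw [prod_eq_val ha i i.2]
  refine ⟨K, inferInstance, inferInstance, f, g, z, a, hz, ha', ?_, hmat, hg⟩
  intro hx1
  by_contra h
  rw [Bool.not_eq_false] at h
  obtain ⟨h0, h1, h2, h3⟩ := z4_iff.1 h
  apply hx1
  have hv : ∀ r, val z a r = 1 := by
    intro r
    unfold TabLin.val
    rw [h0, h1, h2, h3]
    simp
  have ht1 : t = 1 := by
    apply Subtype.ext
    apply Units.ext
    rw [hmat, Subgroup.coe_one, Units.val_one, ← Matrix.diagonal_one]
    congr 1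
    funext i
    rcases i with i | i
    · rfl
    · show ((val z a _ : Kˣ) : K) = 1
      rw [hv, Units.val_one]
  have hx1' : x' = 1 := by
    rw [ht] at ht1
    exact conj_eq_one_iff.1 ht1
  exact emb_injective hF4 f (by rw [← hx', hx1', map_one])

/-- an element conjugate to its square -/
theorem DV.rat {F : Type u} [Field F] {x : ↥(chevF4.group F)} {m : ℕ} {K : Type u} [Field K] [DecidableEq K]
    {f : F →+* K} {g : ↥(chevF4.group K)} {z : Kˣ} {a : Fin 4 → ℕ} (h : DV x m K f g z a) (hm : m.Coprime 2)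
    (hr : ∃ y, y * x * y⁻¹ = x ^ 2) (b : Bool) (j : ℕ) :
    TabNum.nn (rowsB b) m j (a 0) (a 1) (a 2) (a 3) = TabNum.nn (rowsB b) m (2 * j) (a 0) (a 1) (a 2) (a 3) := by
  obtain ⟨y, hy⟩ := hr
  set t := g * emb hF4 f x * g⁻¹ with ht
  set y' := g * emb hF4 f y * g⁻¹ with hy'
  have h1 : y' * t * y'⁻¹ = t ^ 2 := by
    rw [ht, hy', conj_pow, ← map_pow, ← hy, map_mul, map_mul, map_inv]
    group
  have htT : (t : GL chevF4.Idx K) ∈ chevF4.diagonalSubgroup K := h.tor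
  have ht2T : ((t ^ 2 : ↥(chevF4.group K)) : GL chevF4.Idx K) ∈ chevF4.diagonalSubgroup K := by
    rw [Subgroup.coe_pow]
    exact pow_mem htT 2
  obtain ⟨n, hn, hc⟩ := Cfsg.Agent.S1046.result (F := K) chevF4 hF4 (t : GL chevF4.Idx K)
    ((t ^ 2 : ↥(chevF4.group K)) : GL chevF4.Idx K) (y' : GL chevF4.Idx K) htT ht2T y'.2 (by
      rw [← h1]; rfl)
  set w := permHom hF4 K ⟨n, hn⟩ with hw
  -- the values
  have hchi : ∀ s : Fin chevF4.nroots, chi chevF4 K (t : GL chevF4.Idx K) s =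
      ((val z a (rowsL.getD s.val (8, 8, 8, 8)) : Kˣ) : K) := by
    intro s
    unfold chi
    rw [dif_pos s.2]
    show ((t : GL chevF4.Idx K) : Matrix chevF4.Idx chevF4.Idx K) (Sum.inr s) (Sum.inr s) = _
    rw [h.mat, Matrix.diagonal_apply_eq, Sum.elim_inr]
  have hchi2 : ∀ s : Fin chevF4.nroots, chi chevF4 K ((t ^ 2 : ↥(chevF4.group K)) : GL chevF4.Idx K) s =
      ((val z a (rowsL.getD s.val (8, 8, 8, 8)) : Kˣ) : K) ^ 2 := by
    intro s
    unfold chi
    rw [dif_pos s.2]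
    show (((t ^ 2 : ↥(chevF4.group K)) : GL chevF4.Idx K) : Matrix chevF4.Idx chevF4.Idx K) (Sum.inr s) (Sum.inr s) = _
    rw [Subgroup.coe_pow, Units.val_pow_eq_pow_val, h.mat, Matrix.diagonal_pow, Matrix.diagonal_apply_eq,
      Pi.pow_apply, Sum.elim_inr]
  have hval : ∀ s : Fin chevF4.nroots, (val z a (rowsL.getD (w s).val (8, 8, 8, 8))) ^ 2 =
      val z a (rowsL.getD s.val (8, 8, 8, 8)) := by
    intro s
    have h2 := Cfsg.Agent.H3.OT.chi_perm hF4 (⟨n, hn⟩ : ↥(chevF4.monomialSubgroup K)) htT s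
    rw [show ((⟨n, hn⟩ : ↥(chevF4.monomialSubgroup K)) : GL chevF4.Idx K) = n from rfl, hc, hchi2, hchi] at h2
    apply Units.ext
    rw [Units.val_pow_eq_pow_val]
    exact h2
  have hcard : ∀ j : ℕ, (Finset.univ.filter fun s : Fin chevF4.nroots => sh s.val = b ∧
      ((val z a (rowsL.getD s.val (8, 8, 8, 8)) : Kˣ) : K) = ((z ^ j : Kˣ) : K)).card =
      TabNum.nn (rowsB b) m j (a 0) (a 1) (a 2) (a 3) := fun j => card_b h.ord a b j
  rw [← hcard, ← hcard]
  symm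
  refine Finset.card_bij (fun s _ => w s) ?_ ?_ ?_
  · intro s hs
    rw [Finset.mem_filter] at hs ⊢
    obtain ⟨-, hs1, hs2⟩ := hs
    refine ⟨Finset.mem_univ _, ?_, ?_⟩
    · rw [← hs1]
      exact sh_perm _ _
    · have h3 := hval s
      have h4 : val z a (rowsL.getD s.val (8, 8, 8, 8)) = z ^ (2 * j) := Units.ext hs2
      rw [h4, mul_comm 2 j, pow_mul] at h3
      -- squares determine the elements of order dividing `m`
      have h5 : (val z a (rowsL.getD (w s).val (8, 8, 8, 8))) ^ m = 1 := by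
        unfold TabLin.val
        rw [← zpow_natCast, ← zpow_mul, mul_comm, zpow_mul, zpow_natCast, ← h.ord, pow_orderOf_eq_one, one_zpow]
      have h6 : (z ^ j) ^ m = 1 := by
        rw [← pow_mul, mul_comm, pow_mul, ← h.ord, pow_orderOf_eq_one, one_pow]
      have h7 : (val z a (rowsL.getD (w s).val (8, 8, 8, 8)) * (z ^ j)⁻¹) ^ 2 = 1 := by
        rw [mul_pow, h3, inv_pow, mul_inv_cancel]
      have h8 : (val z a (rowsL.getD (w s).val (8, 8, 8, 8)) * (z ^ j)⁻¹) ^ m = 1 := by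
        rw [mul_pow, h5, inv_pow, h6, inv_one, mul_one]
      have h9 := orderOf_dvd_of_pow_eq_one h7
      have h10 := orderOf_dvd_of_pow_eq_one h8
      have h11 : orderOf (val z a (rowsL.getD (w s).val (8, 8, 8, 8)) * (z ^ j)⁻¹) = 1 :=
        Nat.dvd_one.1 (by rw [← hm]; exact Nat.dvd_gcd h10 h9)
      rw [orderOf_eq_one_iff, mul_inv_eq_one] at h11
      show ((val z a (rowsL.getD (w s).val (8, 8, 8, 8)) : Kˣ) : K) = _
      rw [h11]
  · intro s _ s' _ h3
    exact w.injective h3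
  · intro s hs
    rw [Finset.mem_filter] at hs
    obtain ⟨-, hs1, hs2⟩ := hs
    refine ⟨w.symm s, ?_, w.apply_symm_apply s⟩
    rw [Finset.mem_filter]
    refine ⟨Finset.mem_univ _, ?_, ?_⟩
    · have h3 := sh_perm (K := K) ⟨n, hn⟩ (w.symm s)
      rw [← hw, w.apply_symm_apply] at h3
      exact h3.symm.trans hs1
    · have h3 := hval (w.symm s)
      rw [w.apply_symm_apply] at h3
      have h4 : val z a (rowsL.getD s.val (8, 8, 8, 8)) = z ^ j := Units.ext hs2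
      rw [h4, ← pow_mul, mul_comm j 2] at h3
      show ((val z a (rowsL.getD (w.symm s).val (8, 8, 8, 8)) : Kˣ) : K) = _
      rw [← h3]

theorem DV.diaP {F : Type u} [Field F] {x : ↥(chevF4.group F)} {m : ℕ} {K : Type u} [Field K] [DecidableEq K]
    {f : F →+* K} {g : ↥(chevF4.group K)} {z : Kˣ} {a : Fin 4 → ℕ} (h : DV x m K f g z a) :
    Two.DiaP x (TabNum.nn rowsS m 0 (a 0) (a 1) (a 2) (a 3)) (TabNum.nn rowsG m 0 (a 0) (a 1) (a 2) (a 3)) := by
  refine ⟨K, inferInstance, inferInstance, f, g, _, h.mat, ?_, ?_⟩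
  · have h1 := card_b h.ord a true 0
    rw [pow_zero, Units.val_one] at h1
    exact h1.symm
  · have h1 := card_b h.ord a false 0
    rw [pow_zero, Units.val_one] at h1
    exact h1.symm

variable {F : Type u} [Field F] [Finite F] [CharP F 2]

theorem three (x : ↥(chevF4.group F)) (hx1 : x ≠ 1) (hx : x ^ 3 = 1) :
    ∃ nS nL, Two.DiaP x nS nL ∧ (nS = 6 ∨ nS = 12) := by
  obtain ⟨K, _, _, f, g, z, a, h⟩ := exists_dv (m := 3) (by norm_num) (by norm_num) hx
  refine ⟨_, _, h.diaP, ?_⟩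
  have h1 := all4_spec chk3_all (h.lt 0) (h.lt 1) (h.lt 2) (h.lt 3)
  rw [chk3, h.ne hx1, Bool.false_or, Bool.or_eq_true, Nat.beq_eq, Nat.beq_eq] at h1
  exact h1

theorem five (x : ↥(chevF4.group F)) (hx1 : x ≠ 1) (hx : x ^ 5 = 1) :
    ∃ nS nL, Two.DiaP x nS nL ∧ (6 ≤ nS ∨ 6 ≤ nL ∨ (nS = 4 ∧ nL = 4)) := by
  obtain ⟨K, _, _, f, g, z, a, h⟩ := exists_dv (m := 5) (by norm_num) (by norm_num) hx
  refine ⟨_, _, h.diaP, ?_⟩
  have h1 := all4_spec chk5_all (h.lt 0) (h.lt 1) (h.lt 2) (h.lt 3)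
  rw [chk5, h.ne hx1, Bool.false_or, Bool.or_eq_true, Bool.or_eq_true, Bool.and_eq_true, Nat.beq_eq, Nat.beq_eq,
    Nat.ble_eq, Nat.ble_eq, or_assoc] at h1
  exact h1

theorem five_rat (x : ↥(chevF4.group F)) (hx1 : x ≠ 1) (hx : x ^ 5 = 1) (hr : ∃ g, g * x * g⁻¹ = x ^ 2) :
    ∃ nS nL, Two.DiaP x nS nL ∧ nS = 4 ∧ nL = 4 := by
  obtain ⟨K, _, _, f, g, z, a, h⟩ := exists_dv (m := 5) (by norm_num) (by norm_num) hx
  refine ⟨_, _, h.diaP, ?_⟩
  have h1 := all4_spec chk5r_all (h.lt 0) (h.lt 1) (h.lt 2) (h.lt 3)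
  have h2 := h.rat (by norm_num) hr true 1
  have h3 := h.rat (by norm_num) hr false 1
  simp only [rowsB, cond_true, cond_false, mul_one] at h2 h3
  have h4 : ∀ n : ℕ, Nat.beq n n = true := fun n => Nat.beq_eq.mpr rfl
  rw [chk5r, h.ne hx1, h2, h3, h4, h4, Bool.false_or, Bool.not_true, Bool.false_or, Bool.false_or, Bool.and_eq_true,
    Nat.beq_eq, Nat.beq_eq] at h1
  exact h1

theorem seven_rat (x : ↥(chevF4.group F)) (hx1 : x ≠ 1) (hx : x ^ 7 = 1) (hr : ∃ g, g * x * g⁻¹ = x ^ 2) :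
    ∃ nS nL, Two.DiaP x nS nL ∧ (nS = 6 ∨ nL = 6) := by
  obtain ⟨K, _, _, f, g, z, a, h⟩ := exists_dv (m := 7) (by norm_num) (by norm_num) hx
  refine ⟨_, _, h.diaP, ?_⟩
  have h1 := all4_spec chk7r_all (h.lt 0) (h.lt 1) (h.lt 2) (h.lt 3)
  have h2 := h.rat (by norm_num) hr true 1
  have h3 := h.rat (by norm_num) hr false 1
  have h2' := h.rat (by norm_num) hr true 2
  have h3' := h.rat (by norm_num) hr false 2
  simp only [rowsB, cond_true, cond_false, mul_one] at h2 h3 h2' h3'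
  norm_num at h2' h3'
  have h4 : ∀ n : ℕ, Nat.beq n n = true := fun n => Nat.beq_eq.mpr rfl
  rw [chk7r, h.ne hx1, h2, h3, h2', h3', h4, h4, Bool.false_or, Bool.not_true, Bool.false_or, Bool.false_or,
    Bool.false_or, Bool.false_or, Bool.or_eq_true, Nat.beq_eq, Nat.beq_eq] at h1
  exact h1

end Cfsg.Agent.H927.F4Two

namespace Cfsg.Agent.H952.F4.Two

open Cfsg Cfsg.Lie

universe u

/-- P1 -/
theorem exists_pkg (F : Type u) [Field F] [Finite F] [CharP F 2] :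
    ∃ (M N : Type u) (_ : AddCommGroup M) (_ : Module F M) (_ : AddCommGroup N) (_ : Module F N)
      (ρ : Representation F ↥(chevF4.group F) M) (σ : Representation F ↥(chevF4.group F) N), Pkg ρ σ :=
  exists_pkg_of F Cfsg.Agent.H927.F4Two.three Cfsg.Agent.H927.F4Two.five Cfsg.Agent.H927.F4Two.five_rat
    Cfsg.Agent.H927.F4Two.seven_rat

end Cfsg.Agent.H952.F4.Two
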