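import Cfsg.Agent.H873.Tits.Bridge
import Cfsg.Agent.AschCrit.Dichotomy

/-!
# S3414: the piece Z* (`StZstar` from `StStar`)

If `p` is odd and `L x` is affine of odd degree then `K y` has odd order: an involution of `K y` acts as
inversion on the translation group of every `L x`, `x ~ y`, so it is isolated (Glauberman's Z*-theorem).
-/

set_option autoImplicit false

namespace Cfsg.Agent.H927.Tits

open Cfsg.Agent.H873.Tits

universe u v

/-! ## regular abelian normal subgroups -/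

section Reg

variable {Ω : Type v} {W : Subgroup (Equiv.Perm Ω)}

theorem reg_one (hreg : ∀ a : Ω, MulAction.stabilizer W a = ⊥) {v : Equiv.Perm Ω} (hv : v ∈ W) {a : Ω} (h : v a = a) :
    v = 1 := by
  have h1 : (⟨v, hv⟩ : W) ∈ MulAction.stabilizer W a := h
  rw [hreg a, Subgroup.mem_bot] at h1
  exact congrArg Subtype.val h1

theorem reg_inj (hreg : ∀ a : Ω, MulAction.stabilizer W a = ⊥) {v v' : Equiv.Perm Ω} (hv : v ∈ W) (hv' : v' ∈ W) {a : Ω}
    (h : v a = v' a) : v = v' := by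
  have h1 : (v'⁻¹ * v) = 1 := reg_one hreg (mul_mem (inv_mem hv') hv) (a := a) (by
    rw [Equiv.Perm.mul_apply, h, ← Equiv.Perm.mul_apply, inv_mul_cancel]; rfl)
  exact (inv_mul_eq_one.1 h1).symm

theorem comm_of (hc : IsMulCommutative W) {v v' : Equiv.Perm Ω} (hv : v ∈ W) (hv' : v' ∈ W) : v * v' = v' * v := by
  have := hc.is_comm.comm (⟨v, hv⟩ : W) ⟨v', hv'⟩
  exact congrArg Subtype.val this

theorem exists_trans (ht : MulAction.IsPretransitive W Ω) (a b : Ω) : ∃ v ∈ W, v a = b := by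
  obtain ⟨⟨v, hv⟩, h⟩ := ht.exists_smul_eq a b
  exact ⟨v, hv, h⟩

/-- a permutation fixing `a` and centralizing `W` is trivial -/
theorem eq_one_of_cent (ht : MulAction.IsPretransitive W Ω) {i : Equiv.Perm Ω} {a : Ω} (ha : i a = a)
    (h : ∀ v ∈ W, i * v * i⁻¹ = v) : i = 1 := by
  ext b
  obtain ⟨v, hv, rfl⟩ := exists_trans ht a b
  have h1 : i * v = v * i := by
    have := h v hv
    rwa [mul_inv_eq_iff_eq_mul] at this
  rw [← Equiv.Perm.mul_apply, h1, Equiv.Perm.mul_apply, ha]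
  rfl

theorem conj_apply {i v : Equiv.Perm Ω} {a : Ω} (ha : i a = a) : (i * v * i⁻¹) a = i (v a) := by
  have : i⁻¹ a = a := by rw [Equiv.Perm.inv_eq_iff_eq, ha]
  rw [Equiv.Perm.mul_apply, this, Equiv.Perm.mul_apply]

/-- an involution without fixed points different from `a` inverts `W` -/
theorem inverts (hc : IsMulCommutative W) (hreg : ∀ a : Ω, MulAction.stabilizer W a = ⊥) {i : Equiv.Perm Ω} {a : Ω}
    (hn : ∀ v ∈ W, i * v * i⁻¹ ∈ W) (hi : i * i = 1) (ha : i a = a) (huniq : ∀ b, i b = b → b = a) {v : Equiv.Perm Ω}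
    (hv : v ∈ W) : i * v * i⁻¹ = v⁻¹ := by
  have hii : i⁻¹ = i := inv_eq_of_mul_eq_one_right hi
  have h1 : i * (v * (i * v * i⁻¹)) * i⁻¹ = v * (i * v * i⁻¹) := by
    rw [comm_of hc hv (hn v hv)]
    rw [hii]
    calc i * (i * v * i * v) * i = (i * i) * v * i * v * i := by group
      _ = v * (i * v * i) := by rw [hi]; group
      _ = i * v * i * v := by
        have := comm_of hc hv (hn v hv)
        rw [hii] at this
        exact this
  have h2 : v * (i * v * i⁻¹) = 1 := by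
    refine reg_one hreg (mul_mem hv (hn v hv)) (a := a) ?_
    refine huniq _ ?_
    rw [← conj_apply ha, h1]
  exact (inv_eq_of_mul_eq_one_right h2).symm

/-- an involution fixing `a` and not trivial inverts a non-trivial element of `W` -/
theorem exists_inverted (hc : IsMulCommutative W) (ht : MulAction.IsPretransitive W Ω) {i : Equiv.Perm Ω} {a : Ω}
    (hn : ∀ v ∈ W, i * v * i⁻¹ ∈ W) (hi : i * i = 1) (ha : i a = a) (hne : i ≠ 1) :
    ∃ v ∈ W, v ≠ 1 ∧ i * v * i⁻¹ = v⁻¹ := by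
  have hii : i⁻¹ = i := inv_eq_of_mul_eq_one_right hi
  by_contra hcon
  push Not at hcon
  apply hne
  apply eq_one_of_cent ht ha
  intro v hv
  by_contra hv2
  refine hcon (v⁻¹ * (i * v * i⁻¹)) (mul_mem (inv_mem hv) (hn v hv)) (fun h => hv2 ?_) ?_
  · exact (inv_mul_eq_one.1 h).symm
  · have h3 := comm_of hc (inv_mem hv) (hn v hv)
    rw [hii] at h3 ⊢
    rw [h3, mul_inv_rev, inv_inv]
    calc i * (i * v * i * v⁻¹) * i = (i * i) * (v * (i * v⁻¹ * i)) := by group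
      _ = v * (i * v * i)⁻¹ := by rw [hi, one_mul]; congr 1; rw [mul_inv_rev, mul_inv_rev, hii]; group

/-- an element of odd order does not invert an element `v` with `v * v ≠ 1` -/
theorem not_inverts {b v : Equiv.Perm Ω} {n : ℕ} (hn : Odd n) (hb : b ^ n = 1) (h : b * v * b⁻¹ = v⁻¹) : v * v = 1 := by
  have key : ∀ m : ℕ, b ^ (2 * m) * v * (b ^ (2 * m))⁻¹ = v := by
    intro m
    induction m with
    | zero => simp
    | succ m ih =>
      have h' : b * v⁻¹ * b⁻¹ = v := by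
        have := congrArg (fun t => t⁻¹) h
        simp only [mul_inv_rev, inv_inv] at this
        rw [← mul_assoc] at this
        exact this
      calc b ^ (2 * (m + 1)) * v * (b ^ (2 * (m + 1)))⁻¹
          = b ^ (2 * m) * (b * (b * v * b⁻¹) * b⁻¹) * (b ^ (2 * m))⁻¹ := by
            rw [show 2 * (m + 1) = 2 * m + 2 from rfl, pow_add, pow_two]; group
        _ = v := by rw [h, h', ih]
  obtain ⟨m, rfl⟩ := hn
  have h1 := key m
  rw [pow_succ] at hb
  have h2 : b = (b ^ (2 * m))⁻¹ := (inv_eq_of_mul_eq_one_right hb).symm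
  have h3 : b * v * b⁻¹ = v := by
    have h4 : b ^ (2 * m) = b⁻¹ := by rw [h2, inv_inv, ← h2]
    rw [h4, inv_inv] at h1
    calc b * v * b⁻¹ = b * (b⁻¹ * v * b) * b⁻¹ := by rw [h1]
      _ = v := by group
  rw [h3] at h
  calc v * v = v * v⁻¹ := by rw [← h]
    _ = 1 := mul_inv_cancel v

theorem card_reg (ht : MulAction.IsPretransitive W Ω) (hreg : ∀ a : Ω, MulAction.stabilizer W a = ⊥) (a : Ω) :
    Nat.card W = Nat.card Ω := by
  refine Nat.card_congr (Equiv.ofBijective (fun v : W => (v : Equiv.Perm Ω) a) ⟨?_, ?_⟩)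
  · intro v v' h
    exact Subtype.ext (reg_inj hreg v.2 v'.2 h)
  · intro b
    obtain ⟨v, hv, h⟩ := exists_trans ht a b
    exact ⟨⟨v, hv⟩, h⟩

theorem sq_one [Finite Ω] (hodd : ¬ 2 ∣ Nat.card W) {v : Equiv.Perm Ω} (hv : v ∈ W) (h : v * v = 1) : v = 1 := by
  by_contra hne
  have h1 : orderOf v = 2 := by
    apply orderOf_eq_prime (by rw [pow_two]; exact h) hne
  apply hodd
  rw [← h1, show orderOf v = orderOf (⟨v, hv⟩ : W) from (Subgroup.orderOf_mk v hv).symm]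
  exact orderOf_dvd_natCard _

end Reg

section Main

variable {G : Type u} [Group G] {V : Type v} [MulAction G V] {P : Pol G V}

/-- the largest normal `p`-subgroup of `S y` in `K y` -/
def Op (P : Pol G V) (p : ℕ) (y : V) : Subgroup G := (Cfsg.pCore p ↥(P.S y)).map (P.S y).subtype ⊓ P.K y

theorem K_normal (y : V) : ((P.K y).subgroupOf (P.S y)).Normal := by
  constructor
  rintro ⟨g, hg⟩ h ⟨k, hk⟩
  rw [Subgroup.mem_subgroupOf] at h ⊢
  refine ⟨mul_mem (mul_mem hk hg) (inv_mem hk), fun w hw => ?_⟩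
  have h1 : P.adj y (k⁻¹ • w) := by
    have := P.smul_adj k⁻¹ hw
    rwa [inv_smul_eq_iff.2 (show y = k • y from (S_smul hk).symm)] at this
  show (k * g * k⁻¹) • w = w
  rw [mul_smul, mul_smul, h.2 _ h1, smul_inv_smul]

theorem conj_K {y : V} {g k : G} (h : g ∈ P.K y) : k * g * k⁻¹ ∈ P.K (k • y) := by
  refine ⟨by rw [mul_smul, mul_smul, inv_smul_smul, h.1], fun w hw => ?_⟩
  have h1 : P.adj y (k⁻¹ • w) := by
    have := P.smul_adj k⁻¹ hw
    rwa [inv_smul_smul] at this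
  rw [mul_smul, mul_smul, h.2 _ h1, smul_inv_smul]

theorem Op_le {p : ℕ} {y : V} : Op P p y ≤ P.K y := inf_le_right

theorem Op_normal {p : ℕ} {y : V} : ((Op P p y).subgroupOf (P.S y)).Normal := by
  have h1 : (Op P p y).subgroupOf (P.S y) = Cfsg.pCore p ↥(P.S y) ⊓ (P.K y).subgroupOf (P.S y) := by
    ext g
    rw [Subgroup.mem_subgroupOf, Subgroup.mem_inf, Subgroup.mem_subgroupOf]
    unfold Op
    rw [Subgroup.mem_inf]
    constructor
    · rintro ⟨⟨g', hg', e⟩, h2⟩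
      have : g' = g := Subtype.ext e
      exact ⟨this ▸ hg', h2⟩
    · rintro ⟨h1, h2⟩
      exact ⟨⟨g, h1, rfl⟩, h2⟩
  rw [h1]
  have := Cfsg.Agent.Lib.Cores.pCore_normal (G := ↥(P.S y)) p
  have := K_normal (P := P) y
  exact Subgroup.normal_inf_normal _ _

theorem Op_pgroup {p : ℕ} {y : V} : IsPGroup p ↥(Op P p y) :=
  ((Cfsg.Agent.Lib.Cores.pCore_isPGroup (G := ↥(P.S y)) p).map _).to_le inf_le_left

theorem le_Op {p : ℕ} {y : V} (Q' : Subgroup G) (h : Q' ≤ P.K y) (hn : (Q'.subgroupOf (P.S y)).Normal)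
    (hp : IsPGroup p ↥Q') : Q' ≤ Op P p y := by
  intro g hg
  refine ⟨⟨⟨g, P.K_le_S y (h hg)⟩, ?_, rfl⟩, h hg⟩
  exact Cfsg.Agent.Lib.Cores.le_pCore hn hp.comap_subtype (Subgroup.mem_subgroupOf.2 hg)

theorem toPerm_eq_one {x : V} {g : G} (hg : g ∈ P.S x) (h : P.toPerm x ⟨g, hg⟩ = 1) : g ∈ P.K x := by
  refine ⟨hg, fun w hw => ?_⟩
  exact congrArg (fun f : Equiv.Perm {w : V // P.adj x w} => ((f ⟨w, hw⟩ : {w : V // P.adj x w}) : V)) h

/-- an involution in `K x ⊓ K y` does not exist -/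
theorem sq_KK {p : ℕ} (h : CaseA P p) (hp : p ≠ 2) {x y : V} (hxy : P.adj x y) {g : G} (hx : g ∈ P.K x) (hy : g ∈ P.K y)
    (h2 : g * g = 1) : g = 1 := by
  obtain ⟨k, hk⟩ := h.pgroup hxy ⟨g, hx, hy⟩
  have hk' : g ^ p ^ k = 1 := congrArg Subtype.val hk
  have hodd : Odd (p ^ k) := (h.prime.odd_of_ne_two hp).pow
  obtain ⟨m, hm⟩ := hodd
  rw [hm, pow_succ, pow_mul, pow_two, h2, one_pow, one_mul] at hk'
  exact hk'

/-- the main step -/
theorem step (hs : StStar.{u, v}) [Finite G] [Finite V] (F : Facts P) {p : ℕ} (h : CaseA P p) (hp : p ≠ 2) {x y : V}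
    (hxy : P.adj x y) (ha : Aff (P.L x)) (hq : 2 ∣ P.q (P.tp x)) {g : G} (hg : g ∈ P.K y) (h2 : g * g = 1) (h1 : g ≠ 1)
    {w : V} (hw : P.adj x w) (hwy : w ≠ y) : g • w ≠ w := by
  intro hgw
  obtain ⟨W, hWL, hWn, hWc, hWt, hWr⟩ := ha
  have hcard : Nat.card W = P.q (P.tp x) + 1 := by rw [card_reg hWt hWr ⟨y, hxy⟩, P.card_nb x]
  have hodd : ¬ 2 ∣ Nat.card W := by rw [hcard]; omega
  have hgx : g ∈ P.S x := hg.2 x (P.symm hxy)
  have hnorm : ∀ f ∈ P.L x, ∀ v ∈ W, f * v * f⁻¹ ∈ W := by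
    intro f hf v hv
    exact Subgroup.mem_subgroupOf.1 (hWn.conj_mem ⟨v, hWL hv⟩ (Subgroup.mem_subgroupOf.2 hv) ⟨f, hf⟩)
  set i := P.toPerm x ⟨g, hgx⟩ with hi
  have hiL : i ∈ P.L x := mem_L.2 ⟨g, hgx, rfl⟩
  have hii : i * i = 1 := by
    rw [hi, ← map_mul]
    have : (⟨g, hgx⟩ : P.S x) * ⟨g, hgx⟩ = 1 := Subtype.ext h2
    rw [this, map_one]
  have hia : i ⟨y, hxy⟩ = ⟨y, hxy⟩ := Subtype.ext hg.1
  have hine : i ≠ 1 := fun h0 => h1 (sq_KK h hp hxy (toPerm_eq_one hgx h0) hg h2)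
  obtain ⟨v, hv, hv1, hvi⟩ := exists_inverted hWc hWt (hnorm i hiL) hii hia hine
  -- the neighbour `v y`
  set w₂ := v ⟨y, hxy⟩ with hw₂
  have hw₂y : (w₂ : V) ≠ y := by
    intro h0
    exact hv1 (reg_one hWr hv (a := ⟨y, hxy⟩) (Subtype.ext h0))
  obtain ⟨b, hb, hbw⟩ := hs P F h hxy hw hwy w₂.2 hw₂y (Op P p y) Op_le Op_normal Op_pgroup le_Op g hg
    ⟨1, one_mem _, by rw [one_smul, hgw]⟩
  have hbx : b ∈ P.S x := (Op_le hb).2 x (P.symm hxy)
  have hbL : P.toPerm x ⟨b, hbx⟩ ∈ P.L x := mem_L.2 ⟨b, hbx, rfl⟩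
  have hby : P.toPerm x ⟨b, hbx⟩ ⟨y, hxy⟩ = ⟨y, hxy⟩ := Subtype.ext (Op_le hb).1
  have hbv : P.toPerm x ⟨b, hbx⟩ * v * (P.toPerm x ⟨b, hbx⟩)⁻¹ = v⁻¹ := by
    refine reg_inj hWr (hnorm _ hbL v hv) (inv_mem hv) (a := ⟨y, hxy⟩) ?_
    rw [conj_apply hby, ← hvi, conj_apply hia]
    exact Subtype.ext hbw.symm
  obtain ⟨k, hk⟩ := Op_pgroup ⟨b, hb⟩
  have hk' : b ^ p ^ k = 1 := congrArg Subtype.val hk
  have hbk : (P.toPerm x ⟨b, hbx⟩) ^ p ^ k = 1 := by
    rw [← map_pow]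
    have : (⟨b, hbx⟩ : P.S x) ^ p ^ k = 1 := Subtype.ext hk'
    rw [this, map_one]
  exact hv1 (sq_one hodd hv (not_inverts ((h.prime.odd_of_ne_two hp).pow) hbk hbv))

/-- **Z*** -/
theorem st_zstar (hs : StStar.{u, v}) : StZstar.{u, v} := by
  intro G _ _ V _ _ P F hO p h hp x y hxy ha hq hdvd
  have hfree : ∀ g ∈ P.K y, g * g = 1 → g ≠ 1 → ∀ x' w, P.adj x' y → P.adj x' w → w ≠ y → g • w ≠ w := by
    intro g hg hgg hg1 x' w hx' hw hwy hgw
    obtain ⟨z, hz, hxz⟩ := exists_other (P := P) (x := y) (y := x)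
    obtain ⟨z', hz', hxz'⟩ := exists_other (P := P) (x := y) (y := x')
    obtain ⟨k, hk, hkx, -⟩ := F.two_trans (P.symm hxy) hz hxz (P.symm hx') hz' hxz'
    have hky : k⁻¹ • y = y := inv_smul_eq_iff.2 (S_smul hk).symm
    have h1 : k⁻¹ * g * k ∈ P.K y := by
      have := conj_K (k := k⁻¹) hg
      rwa [inv_inv, hky] at this
    have hw' : P.adj x (k⁻¹ • w) := by
      have := P.smul_adj k⁻¹ hw
      rwa [inv_smul_eq_iff.2 hkx.symm] at this
    refine step hs F h hp hxy ha hq h1 ?_ ?_ hw' ?_ ?_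
    · calc k⁻¹ * g * k * (k⁻¹ * g * k) = k⁻¹ * (g * g) * k := by group
        _ = 1 := by rw [hgg]; group
    · intro h0
      apply hg1
      calc g = k * (k⁻¹ * g * k) * k⁻¹ := by group
        _ = 1 := by rw [h0]; group
    · intro h0
      apply hwy
      rw [inv_smul_eq_iff] at h0
      rw [h0, S_smul hk]
    · rw [mul_smul, mul_smul, smul_inv_smul, hgw]
  -- an involution
  have hf2 : Fact (Nat.Prime 2) := ⟨Nat.prime_two⟩
  obtain ⟨⟨g, hg⟩, hg2⟩ := exists_prime_orderOf_dvd_card' (G := ↥(P.K y)) 2 hdvd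
  rw [Subgroup.orderOf_mk] at hg2
  have hgg : g * g = 1 := by
    have := pow_orderOf_eq_one g
    rwa [hg2, pow_two] at this
  have hg1 : g ≠ 1 := by
    rintro rfl
    rw [orderOf_one] at hg2
    omega
  have hgx : g ∈ P.S x := hg.2 x (P.symm hxy)
  have hfix := F.fix_unique hg (hfree g hg hgg hg1)
  have hiso : Cfsg.IsIsolatedInvolution g := by
    refine ⟨hg2, fun k hk => ?_⟩
    have hk' : g * (k * g * k⁻¹) = (k * g * k⁻¹) * g := hk.eq
    set g' := k * g * k⁻¹ with hg'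
    have hg'K : g' ∈ P.K (k • y) := conj_K hg
    -- `g` fixes `k y`
    have h1 : g • k • y = k • y := by
      have h2 : g' • (g • k • y) = g • k • y := by
        rw [← mul_smul, ← hk', mul_smul, hg'K.1]
      have h3 : g • (k⁻¹ • g • k • y) = k⁻¹ • g • k • y := by
        have : g = k⁻¹ * g' * k := by rw [hg']; group
        calc g • (k⁻¹ • g • k • y) = (k⁻¹ * g' * k) • (k⁻¹ • g • k • y) := by rw [← this]
          _ = k⁻¹ • g' • g • k • y := by rw [mul_smul, mul_smul, smul_inv_smul]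
          _ = k⁻¹ • g • k • y := by rw [h2]
      have h4 := hfix (k⁻¹ • g • k • y) (by rw [P.smul_tp, P.smul_tp, P.smul_tp]) h3
      rw [inv_smul_eq_iff] at h4
      exact h4
    have hky : k • y = y := hfix (k • y) (P.smul_tp k y) h1
    rw [hky] at hg'K
    have hg'g : g' * g' = 1 := by
      rw [hg']
      calc k * g * k⁻¹ * (k * g * k⁻¹) = k * (g * g) * k⁻¹ := by group
        _ = 1 := by rw [hgg]; group
    have hg'1 : g' ≠ 1 := by
      intro h0
      apply hg1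
      calc g = k⁻¹ * g' * k := by rw [hg']; group
        _ = 1 := by rw [h0]; group
    have hg'x : g' ∈ P.S x := hg'K.2 x (P.symm hxy)
    -- the product is trivial on the neighbours of `x`
    obtain ⟨W, hWL, hWn, hWc, hWt, hWr⟩ := ha
    have hnorm : ∀ f ∈ P.L x, ∀ v ∈ W, f * v * f⁻¹ ∈ W := by
      intro f hf v hv
      exact Subgroup.mem_subgroupOf.1 (hWn.conj_mem ⟨v, hWL hv⟩ (Subgroup.mem_subgroupOf.2 hv) ⟨f, hf⟩)
    have inv : ∀ c ∈ P.K y, ∀ hc : c ∈ P.S x, c * c = 1 → c ≠ 1 → ∀ v ∈ W,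
        P.toPerm x ⟨c, hc⟩ * v * (P.toPerm x ⟨c, hc⟩)⁻¹ = v⁻¹ := by
      intro c hcy hc hcc hc1 v hv
      refine inverts hWc hWr (a := ⟨y, hxy⟩) (hnorm _ (mem_L.2 ⟨c, hc, rfl⟩)) ?_ (Subtype.ext hcy.1) ?_ hv
      · rw [← map_mul]
        have : (⟨c, hc⟩ : P.S x) * ⟨c, hc⟩ = 1 := Subtype.ext hcc
        rw [this, map_one]
      · intro b hb
        by_contra hby
        exact hfree c hcy hcc hc1 x b.1 hxy b.2 (fun h0 => hby (Subtype.ext h0)) (congrArg Subtype.val hb)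
    have h5 : g * g' ∈ P.K x := by
      refine toPerm_eq_one (mul_mem hgx hg'x) ?_
      have e : P.toPerm x ⟨g * g', mul_mem hgx hg'x⟩ = P.toPerm x ⟨g, hgx⟩ * P.toPerm x ⟨g', hg'x⟩ := by
        rw [← map_mul]; rfl
      rw [e]
      refine eq_one_of_cent hWt (a := ⟨y, hxy⟩) ?_ ?_
      · rw [Equiv.Perm.mul_apply]
        have e1 : P.toPerm x ⟨g', hg'x⟩ ⟨y, hxy⟩ = ⟨y, hxy⟩ := Subtype.ext hg'K.1
        rw [e1]
        exact Subtype.ext hg.1
      · intro v hv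
        have e1 := inv g' hg'K hg'x hg'g hg'1 v hv
        have e2 := inv g hg hgx hgg hg1 v⁻¹ (inv_mem hv)
        rw [inv_inv] at e2
        calc P.toPerm x ⟨g, hgx⟩ * P.toPerm x ⟨g', hg'x⟩ * v * (P.toPerm x ⟨g, hgx⟩ * P.toPerm x ⟨g', hg'x⟩)⁻¹
            = P.toPerm x ⟨g, hgx⟩ * (P.toPerm x ⟨g', hg'x⟩ * v * (P.toPerm x ⟨g', hg'x⟩)⁻¹) * (P.toPerm x ⟨g, hgx⟩)⁻¹ := by
              group
          _ = v := by rw [e1, e2]
    have h6 : g * g' = 1 := by
      refine sq_KK h hp hxy h5 (mul_mem hg hg'K) ?_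
      calc g * g' * (g * g') = g * (g' * g) * g' := by group
        _ = g * g * (g' * g') := by rw [← hk']; group
        _ = 1 := by rw [hgg, hg'g, one_mul]
    calc g' = (g * g) * g' := by rw [hgg, one_mul]
      _ = g * (g * g') := by group
      _ = g := by rw [h6, mul_one]
  -- Z*
  have hN : Cfsg.pPrimeCore 2 G = ⊥ := by
    apply hO.1 _ (Cfsg.Agent.Lib.Cores.pPrimeCore_normal 2)
    intro h0
    have := Cfsg.Agent.Lib.Cores.pPrimeCore_coprime (G := G) 2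
    rw [Nat.coprime_comm, Nat.Prime.coprime_iff_not_dvd Nat.prime_two] at this
    exact this h0
  have hgc : g ∈ Subgroup.center G := by
    rw [Subgroup.mem_center_iff]
    intro k
    have := Cfsg.Agent.AschCrit.Dichotomy.commutator_mem_oddCore hiso k
    rw [hN, Subgroup.mem_bot] at this
    calc k * g = (g * k * g⁻¹ * k⁻¹) * k * g := by rw [this, one_mul]
      _ = g * k := by group
  rw [hO.2, Subgroup.mem_bot] at hgc
  exact hg1 hgc

end Main

end Cfsg.Agent.H927.Tits
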