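import Cfsg.Agent.H952.F4.TabMult
import Cfsg.Agent.H3.OT.Weyl
import Cfsg.Agent.H969.TwF.WSub
import Cfsg.Agent.S1046

/-!
# S5926, characteristic 2: the values of the short and the long roots of `F₄` on elements of order 3, 5, 7

* `exists_dia` : an element `x` with `x ^ m = 1`, `m` odd, is over an algebraic closure conjugate to a diagonal element,
  the value on the root `s` is `val z a (rowsL s)`; if `x` is conjugate to `x ^ 2` then the multisets of the values on the
  short and on the long roots are invariant under squaring;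
* `card_b` : the number of short (long) roots with given value;
* `chk3_all`, `chk5_all`, `chk5r_all`, `chk7r_all`: the tables.
-/

set_option autoImplicit false

namespace Cfsg.Agent.H927.F4Two

open Cfsg Cfsg.Lie Module
open Cfsg.Agent.ChevalleyStructure Cfsg.Agent.ChevalleyStructure.Elts Cfsg.Agent.ChevalleyStructure.RootVecTab
open Cfsg.Agent.ChevalleyStructure.RootVec
open Cfsg.Agent.GpExc.Field (emb coe_emb coe_glMap emb_injective)
open Cfsg.Agent.BpExc.TorAll Cfsg.Agent.BpExc.TorChev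
open Cfsg.Agent.Tits.Roots Cfsg.Agent.Nodes.BNOf Cfsg.Agent.Nodes.RGDChev Cfsg.Agent.KFacts.RgdChevCoord
open Cfsg.Agent.H952.F4 Cfsg.Agent.H952.F4.TabNum Cfsg.Agent.H952.F4.TabLin Cfsg.Agent.H952.F4.TabMult
open Cfsg.Agent.ChevalleyStructure.CoxeterGeom Cfsg.Agent.ChevalleyStructure.CoxeterGeomTypes
  Cfsg.Agent.Nodes.Reps
open Cfsg.Agent.H412.OT (pr chi)
open Cfsg.Agent.ChevalleyStructure.NPerm (permHom)
open Cfsg.Agent.H969.TwF (sh)

universe u

/-! ### the rows of the short and of the long roots -/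

/-- the short roots plus `(8, 8, 8, 8)` -/
def rowsS : List (ℕ × ℕ × ℕ × ℕ) :=
  [(6, 5, 6, 7), (7, 5, 6, 7), (7, 6, 6, 7), (7, 6, 7, 7), (7, 6, 7, 8), (7, 7, 7, 7), (7, 7, 7, 8), (7, 7, 8, 8),
   (7, 8, 8, 8), (8, 7, 7, 7), (8, 7, 7, 8), (8, 7, 8, 8), (8, 9, 8, 8), (8, 9, 9, 8), (8, 9, 9, 9), (9, 8, 8, 8),
   (9, 9, 8, 8), (9, 9, 9, 8), (9, 9, 9, 9), (9, 10, 9, 8), (9, 10, 9, 9), (9, 10, 10, 9), (9, 11, 10, 9),
   (10, 11, 10, 9)]

/-- the long roots plus `(8, 8, 8, 8)` -/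
def rowsG : List (ℕ × ℕ × ℕ × ℕ) :=
  [(6, 4, 5, 6), (6, 4, 5, 7), (6, 4, 6, 7), (6, 6, 6, 7), (6, 6, 7, 7), (6, 6, 7, 8), (8, 6, 6, 7), (8, 6, 7, 7),
   (8, 6, 7, 8), (8, 8, 7, 7), (8, 8, 7, 8), (8, 8, 8, 7), (8, 8, 8, 9), (8, 8, 9, 8), (8, 8, 9, 9), (8, 10, 9, 8),
   (8, 10, 9, 9), (8, 10, 10, 9), (10, 10, 9, 8), (10, 10, 9, 9), (10, 10, 10, 9), (10, 12, 10, 9), (10, 12, 11, 9),
   (10, 12, 11, 10)]

/-- the rows of the short (`true`) or long (`false`) roots -/
def rowsB (b : Bool) : List (ℕ × ℕ × ℕ × ℕ) := bif b then rowsS else rowsG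

theorem rowsB_eq (b : Bool) : ((List.finRange 48).filter fun s : Fin 48 => sh s.val == b).map
    (fun s : Fin 48 => rowsL.getD s.val (8, 8, 8, 8)) = rowsB b := by
  cases b <;> decide +kernel

theorem card_b {K : Type*} [Field K] [DecidableEq K] {z : Kˣ} {m : ℕ} (hz : orderOf z = m) (a : Fin 4 → ℕ) (b : Bool)
    (j : ℕ) :
    (Finset.univ.filter fun s : Fin 48 => sh s.val = b ∧
      ((val z a (rowsL.getD s (8, 8, 8, 8)) : Kˣ) : K) = ((z ^ j : Kˣ) : K)).card =
      nn (rowsB b) m j (a 0) (a 1) (a 2) (a 3) := by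
  unfold TabNum.nn
  rw [cnt_eq, ← rowsB_eq, List.countP_map, List.countP_filter]
  have h1 : (Finset.univ : Finset (Fin 48)).card = 48 := rfl
  rw [← Finset.filter_filter, Finset.card_filter, Finset.sum_filter]
  have h2 : ∀ (p : Fin 48 → Bool), (List.finRange 48).countP p = ∑ s : Fin 48, if p s = true then 1 else 0 := by
    intro p
    have := countP_ofFn p 48 id
    rwa [List.ofFn_id] at this
  rw [h2]
  refine Finset.sum_congr rfl fun s _ => ?_
  have h3 := Units.val_inj.trans (val_eq_iff hz a (rowsL.getD s (8, 8, 8, 8)) j)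
  by_cases h4 : sh s.val = b
  · simp only [h4, if_true, beq_self_eq_true, Bool.and_true, Function.comp_apply]
    exact if_congr h3 rfl rfl
  · have h5 : (sh s.val == b) = false := by
      rw [beq_eq_false_iff_ne]; exact h4
    simp only [h4, if_false, h5, Bool.and_false, Bool.false_eq_true]

/-! ### the tables -/

/-- `m = 3` -/
def chk3 (a b c d : ℕ) : Bool :=
  z4 a b c d || Nat.beq (nn rowsS 3 0 a b c d) 6 || Nat.beq (nn rowsS 3 0 a b c d) 12

theorem chk3_all : all4 chk3 3 = true := by decide +kernel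

/-- `m = 5` -/
def chk5 (a b c d : ℕ) : Bool :=
  z4 a b c d || Nat.ble 6 (nn rowsS 5 0 a b c d) || Nat.ble 6 (nn rowsG 5 0 a b c d) ||
    (Nat.beq (nn rowsS 5 0 a b c d) 4 && Nat.beq (nn rowsG 5 0 a b c d) 4)

theorem chk5_all : all4 chk5 5 = true := by decide +kernel

/-- `m = 5`, rational elements -/
def chk5r (a b c d : ℕ) : Bool :=
  z4 a b c d || !(Nat.beq (nn rowsS 5 1 a b c d) (nn rowsS 5 2 a b c d)) ||
    !(Nat.beq (nn rowsG 5 1 a b c d) (nn rowsG 5 2 a b c d)) ||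
    (Nat.beq (nn rowsS 5 0 a b c d) 4 && Nat.beq (nn rowsG 5 0 a b c d) 4)

theorem chk5r_all : all4 chk5r 5 = true := by decide +kernel

/-- `m = 7`, rational elements -/
def chk7r (a b c d : ℕ) : Bool :=
  z4 a b c d || !(Nat.beq (nn rowsS 7 1 a b c d) (nn rowsS 7 2 a b c d)) ||
    !(Nat.beq (nn rowsS 7 2 a b c d) (nn rowsS 7 4 a b c d)) ||
    !(Nat.beq (nn rowsG 7 1 a b c d) (nn rowsG 7 2 a b c d)) ||
    !(Nat.beq (nn rowsG 7 2 a b c d) (nn rowsG 7 4 a b c d)) ||
    Nat.beq (nn rowsS 7 0 a b c d) 6 || Nat.beq (nn rowsG 7 0 a b c d) 6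

theorem chk7r_all : all4 chk7r 7 = true := by decide +kernel

/-! ### the Weyl group preserves the lengths -/

theorem sh_pr : ((List.range 48).all fun s => sh s ==
    (List.range 48).any fun r => (r != s) && (pr chevF4 s r == 2)) = true := by decide +kernel

theorem sh_iff (s : Fin chevF4.nroots) : sh s.val = true ↔ ∃ r : Fin chevF4.nroots, r ≠ s ∧ pr chevF4 s r = 2 := by
  have h1 := List.all_eq_true.1 sh_pr s.val (List.mem_range.2 s.2)
  rw [beq_iff_eq] at h1
  rw [h1, List.any_eq_true]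
  constructor
  · rintro ⟨r, hr, h⟩
    rw [Bool.and_eq_true, beq_iff_eq, bne_iff_ne] at h
    exact ⟨⟨r, List.mem_range.1 hr⟩, fun e => h.1 (congrArg Fin.val e), h.2⟩
  · rintro ⟨r, hr, h⟩
    refine ⟨r.val, List.mem_range.2 r.2, ?_⟩
    rw [Bool.and_eq_true, beq_iff_eq, bne_iff_ne]
    exact ⟨fun e => hr (Fin.ext e), h⟩

theorem sh_perm {K : Type u} [Field K] (n : ↥(chevF4.monomialSubgroup K)) (s : Fin chevF4.nroots) :
    sh (permHom hF4 K n s : Fin chevF4.nroots).val = sh s.val := by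
  have key : ∀ (n : ↥(chevF4.monomialSubgroup K)) (s : Fin chevF4.nroots), sh s.val = true →
      sh (permHom hF4 K n s : Fin chevF4.nroots).val = true := by
    intro n s h
    obtain ⟨r, hr, h1⟩ := (sh_iff s).1 h
    refine (sh_iff _).2 ⟨permHom hF4 K n r, fun e => hr ((permHom hF4 K n).injective e), ?_⟩
    rw [Cfsg.Agent.H3.OT.pr_perm hF4 n s r]
    exact h1
  rw [Bool.eq_iff_iff]
  constructor
  · intro h
    have h1 := key n⁻¹ _ h
    have h2 : permHom hF4 K n⁻¹ (permHom hF4 K n s) = s := by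
      rw [map_inv]; exact Equiv.symm_apply_apply _ _
    rwa [h2] at h1
  · exact key n s

end Cfsg.Agent.H927.F4Two
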