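import Mathlib
import Cfsg.Agent.LieClassical.HermSiegel
import Cfsg.Agent.ClassicalGeometry.UnitTransv

/-!
# Monomial elements and torus elements of `SU_n(q)`

`IsMono g`: `g` permutes the coordinate lines. `TorIn X u w`: all elements
`x ↦ x + (c-1) h(x,u) u + (c⁻¹-1) h(x,w) w` (`c ^ (q+1) = 1`) are in `X`.
-/

set_option autoImplicit false
set_option linter.unusedSectionVars false
set_option linter.unusedVariables false

namespace Cfsg.Agent.H927

open Cfsg Cfsg.Agent.LieClassical.HermBasic Cfsg.Agent.LieClassical.HermSiegel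
open Cfsg.Agent.ClassicalGeometry.UnitTransv (rankOne rankOne_mulVec det_rankOne)

variable {F : Type*} [Field F] {n q : ℕ}

theorem herm_single_right [Fintype F] (hF : Fintype.card F = q ^ 2) (x : Fin n → F) (i : Fin n) :
    hermForm n F q x (Pi.single i 1) = x i := by
  rw [herm_def, Finset.sum_eq_single i]
  · rw [Pi.single_eq_same, one_pow, mul_one]
  · intro j _ hj
    rw [Pi.single_eq_of_ne hj, zero_pow_q hF, mul_zero]
  · intro h
    exact absurd (Finset.mem_univ i) h

theorem herm_single_left (x : Fin n → F) (i : Fin n) :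
    hermForm n F q (Pi.single i 1) x = x i ^ q := by
  rw [herm_def, Finset.sum_eq_single i]
  · rw [Pi.single_eq_same, one_mul]
  · intro j _ hj
    rw [Pi.single_eq_of_ne hj, zero_mul]
  · intro h
    exact absurd (Finset.mem_univ i) h

theorem herm_single_self [Fintype F] (hF : Fintype.card F = q ^ 2) (i : Fin n) :
    hermForm n F q (Pi.single i 1) (Pi.single i (1 : F)) = 1 := by
  rw [herm_single_right hF, Pi.single_eq_same]

theorem herm_single_ne [Fintype F] (hF : Fintype.card F = q ^ 2) {i j : Fin n} (h : i ≠ j) :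
    hermForm n F q (Pi.single i 1) (Pi.single j (1 : F)) = 0 := by
  rw [herm_single_right hF, Pi.single_eq_of_ne h.symm]

/-- the form on vectors supported on two coordinates -/
theorem herm_two {i j : Fin n} (hij : i ≠ j) {v : Fin n → F}
    (hv : ∀ l, l ≠ i → l ≠ j → v l = 0) (w : Fin n → F) :
    hermForm n F q v w = v i * w i ^ q + v j * w j ^ q := by
  rw [herm_def, Fintype.sum_eq_add i j hij]
  rintro l ⟨h1, h2⟩
  rw [hv l h1 h2, zero_mul]

/-- `g` permutes the coordinate lines -/
def IsMono (g : SU n F q) : Prop :=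
  ∀ j, ∃ (i : Fin n) (c : F), act g (Pi.single j 1) = c • Pi.single i 1

/-- all torus elements of the pair of lines of `u` and `w` are in `X` -/
def TorIn (X : Subgroup (SU n F q)) (u w : Fin n → F) : Prop :=
  ∀ c : F, c * c ^ q = 1 → ∃ g ∈ X, ∀ x, act g x =
    x + ((c - 1) * hermForm n F q x u) • u + ((c ^ q - 1) * hermForm n F q x w) • w

section

variable [Fintype F] (hF : Fintype.card F = q ^ 2)
include hF

/-- The torus element of `u, w`. -/
theorem exists_tor {u w : Fin n → F} (hu : hermForm n F q u u = 1) (hw : hermForm n F q w w = 1)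
    (huw : hermForm n F q u w = 0) {c : F} (hc : c * c ^ q = 1) :
    ∃ g : SU n F q, ∀ x, act g x =
      x + ((c - 1) * hermForm n F q x u) • u + ((c ^ q - 1) * hermForm n F q x w) • w := by
  have hwu := herm_eq_zero_swap hF huw
  set M : Matrix (Fin n) (Fin n) F := rankOne q ((c - 1) • u) u * rankOne q ((c ^ q - 1) • w) w
    with hM
  have hmul : ∀ x, Matrix.mulVec M x =
      x + ((c - 1) * hermForm n F q x u) • u + ((c ^ q - 1) * hermForm n F q x w) • w := by
    intro x
    rw [hM, ← Matrix.mulVec_mulVec, rankOne_mulVec, rankOne_mulVec, herm_add_left, herm_smul_left,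
      herm_smul_left, hwu]
    funext l
    simp only [Pi.add_apply, Pi.smul_apply, smul_eq_mul]
    ring
  have hdet : M.det = 1 := by
    rw [hM, Matrix.det_mul, det_rankOne, det_rankOne, herm_smul_left, herm_smul_left, hu, hw]
    linear_combination hc
  have hher : ∀ x y, hermForm n F q (Matrix.mulVec M x) (Matrix.mulVec M y) = hermForm n F q x y := by
    intro x y
    rw [hmul, hmul]
    simp only [herm_add_left, herm_add_right hF, herm_smul_left, herm_smul_right, mul_pow,
      sub_pow_q hF, one_pow, pow_q_pow_q hF, hu, hw, huw, hwu]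
    rw [herm_swap hF y u, herm_swap hF y w]
    linear_combination (hermForm n F q x u * hermForm n F q y u ^ q +
      hermForm n F q x w * hermForm n F q y w ^ q) * hc
  refine ⟨mkSU M hdet hher, fun x => ?_⟩
  rw [act, mat_mkSU]
  exact hmul x

theorem TorIn.map {X : Subgroup (SU n F q)} {u w : Fin n → F} (h : TorIn X u w) {g : SU n F q}
    (hg : g ∈ X) : TorIn X (act g u) (act g w) := by
  intro c hc
  obtain ⟨t, ht, hact⟩ := h c hc
  refine ⟨g * t * g⁻¹, X.mul_mem (X.mul_mem hg ht) (X.inv_mem hg), fun x => ?_⟩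
  have h1 : ∀ y, hermForm n F q (act g⁻¹ x) y = hermForm n F q x (act g y) := by
    intro y
    rw [← herm_act g, act_act_inv]
  rw [act_mul, act_mul, hact, act_add, act_add, act_smul, act_smul, act_act_inv, h1, h1]

theorem TorIn.smul {X : Subgroup (SU n F q)} {u w : Fin n → F} (h : TorIn X u w) {a b : F}
    (ha : a * a ^ q = 1) (hb : b * b ^ q = 1) : TorIn X (a • u) (b • w) := by
  intro c hc
  obtain ⟨t, ht, hact⟩ := h c hc
  refine ⟨t, ht, fun x => ?_⟩
  rw [hact, herm_smul_right, herm_smul_right, smul_smul, smul_smul]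
  congr 2
  · congr 1
    linear_combination (-(c - 1) * hermForm n F q x u) * ha
  · linear_combination (-(c ^ q - 1) * hermForm n F q x w) * hb

theorem TorIn.of_smul {X : Subgroup (SU n F q)} {u w : Fin n → F} {a b : F}
    (h : TorIn X (a • u) (b • w))
    (ha : a * a ^ q = 1) (hb : b * b ^ q = 1) : TorIn X u w := by
  have ha' : a ^ q * (a ^ q) ^ q = 1 := by rw [pow_q_pow_q hF, mul_comm]; exact ha
  have hb' : b ^ q * (b ^ q) ^ q = 1 := by rw [pow_q_pow_q hF, mul_comm]; exact hb
  have h1 := h.smul hF ha' hb'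
  rwa [smul_smul, smul_smul, mul_comm, ha, mul_comm, hb, one_smul, one_smul] at h1

/-- General monomial elements. -/
theorem exists_mono (σ : Equiv.Perm (Fin n)) (d : Fin n → F) (hd : ∀ i, d i * d i ^ q = 1)
    (hdet : ((Equiv.Perm.sign σ : ℤ) : F) * ∏ i, d i = 1) :
    ∃ g : SU n F q, IsMono g ∧ ∀ x l, act g x l = d (σ l) * x (σ l) := by
  classical
  set M : Matrix (Fin n) (Fin n) F := Equiv.Perm.permMatrix F σ * Matrix.diagonal d with hM
  have hmul : ∀ x l, Matrix.mulVec M x l = d (σ l) * x (σ l) := by
    intro x l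
    rw [hM, ← Matrix.mulVec_mulVec, Matrix.permMatrix_mulVec, Function.comp_apply,
      Matrix.mulVec_diagonal]
  have hdet' : M.det = 1 := by
    rw [hM, Matrix.det_mul, Matrix.det_permutation, Matrix.det_diagonal]
    exact_mod_cast hdet
  have hher : ∀ x y, hermForm n F q (Matrix.mulVec M x) (Matrix.mulVec M y) = hermForm n F q x y := by
    intro x y
    rw [herm_def, herm_def, ← Equiv.sum_comp σ (fun i => x i * y i ^ q)]
    apply Finset.sum_congr rfl
    intro i _
    rw [hmul, hmul, mul_pow]
    linear_combination (x (σ i) * y (σ i) ^ q) * hd (σ i)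
  have hact : ∀ x l, act (mkSU M hdet' hher : SU n F q) x l = d (σ l) * x (σ l) := by
    intro x l
    rw [act, mat_mkSU]
    exact hmul x l
  refine ⟨mkSU M hdet' hher, fun j => ⟨σ.symm j, d j, ?_⟩, hact⟩
  funext l
  rw [hact, Pi.smul_apply, smul_eq_mul]
  by_cases h : l = σ.symm j
  · subst h
    rw [Equiv.apply_symm_apply, Pi.single_eq_same, Pi.single_eq_same]
  · rw [Pi.single_eq_of_ne h, Pi.single_eq_of_ne (fun h' => h (by rw [← h', Equiv.symm_apply_apply]))]
    ring

/-- Monomial elements with prescribed entries except at one coordinate. -/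
theorem exists_mono_fix (k : Fin n) (σ : Equiv.Perm (Fin n)) (hσ : σ k = k) (d : Fin n → F)
    (hd : ∀ i, d i * d i ^ q = 1) :
    ∃ (g : SU n F q) (e : F), IsMono g ∧ e * e ^ q = 1 ∧ act g (Pi.single k 1) = e • Pi.single k 1 ∧
      (∀ x, act g x k = e * x k) ∧
      ∀ x l, l ≠ k → act g x l = d l * x (σ l) := by
  classical
  set P := ∏ i ∈ Finset.univ.erase k, d (σ.symm i) with hP
  have hPn : P * P ^ q = 1 := by
    rw [hP, ← Finset.prod_pow, ← Finset.prod_mul_distrib]
    exact Finset.prod_eq_one (fun i _ => hd _)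
  have hP0 : P ≠ 0 := by
    intro h
    rw [h, zero_mul] at hPn
    exact zero_ne_one hPn
  obtain ⟨s, hs, hs1⟩ : ∃ s : F, s = ((Equiv.Perm.sign σ : ℤ) : F) ∧ s * s ^ q = 1 := by
    refine ⟨_, rfl, ?_⟩
    rcases Int.units_eq_one_or (Equiv.Perm.sign σ) with h | h
    · rw [h]; simp
    · rw [h]
      simp only [Units.val_neg, Units.val_one, Int.cast_neg, Int.cast_one]
      rw [neg_pow_q hF, one_pow]
      ring
  have hs0 : s ≠ 0 := by
    intro h
    rw [h, zero_mul] at hs1
    exact zero_ne_one hs1
  set d' : Fin n → F := Function.update (fun i => d (σ.symm i)) k (s * P)⁻¹ with hd'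
  have hek : (s * P)⁻¹ * ((s * P)⁻¹) ^ q = 1 := by
    rw [inv_pow, ← mul_inv, mul_pow]
    have : s * P * (s ^ q * P ^ q) = 1 := by linear_combination hs1 + s * s ^ q * hPn
    rw [this, inv_one]
  obtain ⟨g, hg, hact⟩ := exists_mono hF σ d' (by
    intro i
    by_cases h : i = k
    · subst h
      rw [hd', Function.update_self]
      exact hek
    · rw [hd', Function.update_of_ne h]
      exact hd _) (by
    rw [← hs, ← Finset.mul_prod_erase _ _ (Finset.mem_univ k)]
    have h1 : ∏ i ∈ Finset.univ.erase k, d' i = P := by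
      apply Finset.prod_congr rfl
      intro i hi
      rw [hd', Function.update_of_ne (Finset.ne_of_mem_erase hi)]
    rw [h1, hd', Function.update_self]
    field_simp)
  have hact' : ∀ x, act g x k = (s * P)⁻¹ * x k := by
    intro x
    rw [hact, hσ, hd', Function.update_self]
  refine ⟨g, (s * P)⁻¹, hg, hek, ?_, hact', ?_⟩
  · funext l
    rw [Pi.smul_apply, smul_eq_mul]
    by_cases h : l = k
    · subst h
      rw [hact', Pi.single_eq_same]
    · rw [hact, Pi.single_eq_of_ne h, Pi.single_eq_of_ne (fun h' => h (by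
        apply σ.injective
        rw [h', hσ]))]
      ring
  · intro x l hl
    rw [hact, hd', Function.update_of_ne (fun h' => hl (by
        apply σ.injective
        rw [h', hσ])), Equiv.symm_apply_apply]

end

end Cfsg.Agent.H927
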