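import Mathlib
import Cfsg.Agent.H927.FrameBase

/-!
# Reflections in `e_k^⊥` coming from a subgroup of `SU_n(q)`
-/

set_option autoImplicit false
set_option linter.unusedSectionVars false
set_option linter.unusedVariables false

namespace Cfsg.Agent.H927

open Cfsg Cfsg.Agent.LieClassical.HermBasic Cfsg.Agent.LieClassical.HermSiegel

variable {F : Type*} [Field F] {n q : ℕ}

/-- unit vectors orthogonal to `e_k` whose torus with `e_k` is in `X` -/
structure PIn (X : Subgroup (SU n F q)) (k : Fin n) (u : Fin n → F) : Prop where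
  unit : hermForm n F q u u = 1
  zero : u k = 0
  tor : TorIn X u (Pi.single k 1)

section arith

variable [Fintype F]

theorem n1_ne_zero {c : F} (hc : c * c ^ q = 1) : c ≠ 0 := by
  rintro rfl
  rw [zero_mul] at hc
  exact zero_ne_one hc

/-- Two norm-one elements with prescribed ratio of `c - 1`. -/
theorem exists_pair_ratio (hF : Fintype.card F = q ^ 2) {θ : F} (hθ : θ ^ q ≠ θ) :
    ∃ c₁ c₂ : F, c₁ * c₁ ^ q = 1 ∧ c₂ * c₂ ^ q = 1 ∧ c₁ ≠ 1 ∧ c₂ ≠ 1 ∧
      c₁ - 1 = θ * (c₂ - 1) := by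
  have h0 : θ ≠ 0 := by
    rintro rfl
    exact hθ (zero_pow_q hF)
  have h0q : θ ^ q ≠ 0 := pow_ne_zero _ h0
  have h1 : θ - 1 ≠ 0 := by
    intro h
    rw [sub_eq_zero] at h
    rw [h, one_pow] at hθ
    exact hθ rfl
  have h1q : θ ^ q - 1 ≠ 0 := by
    intro h
    rw [sub_eq_zero] at h
    have h3 := pow_q_pow_q hF θ
    rw [h, one_pow] at h3
    exact h1 (by rw [← h3, sub_self])
  have h2 : θ - θ ^ q ≠ 0 := sub_ne_zero.2 (Ne.symm hθ)
  refine ⟨(θ - 1) / (θ ^ q - 1), θ ^ q * (θ - 1) / (θ * (θ ^ q - 1)), ?_, ?_, ?_, ?_, ?_⟩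
  · rw [div_pow, sub_pow_q hF, sub_pow_q hF, pow_q_pow_q hF, one_pow]
    field_simp
  · rw [div_pow, mul_pow, mul_pow, sub_pow_q hF, sub_pow_q hF, pow_q_pow_q hF, one_pow]
    field_simp
  · intro h
    rw [div_eq_one_iff_eq h1q] at h
    exact h2 (by linear_combination h)
  · intro h
    rw [div_eq_one_iff_eq (mul_ne_zero h0 h1q)] at h
    exact h2 (by linear_combination h)
  · field_simp
    ring

end arith

variable [Fintype F] (hF : Fintype.card F = q ^ 2)
include hF

theorem PIn.map {X : Subgroup (SU n F q)} {k : Fin n} {u : Fin n → F} (h : PIn X k u)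
    {g : SU n F q} (hg : g ∈ X) {e : F} (he : e * e ^ q = 1)
    (hk : act g (Pi.single k 1) = e • Pi.single k 1) : PIn X k (act g u) := by
  refine ⟨by rw [herm_act, h.unit], ?_, ?_⟩
  · have h1 := herm_act g u (Pi.single k 1)
    rw [hk, herm_smul_right, herm_single_right hF, herm_single_right hF, h.zero] at h1
    exact (mul_eq_zero.1 h1).resolve_left (pow_ne_zero _ (n1_ne_zero he))
  · have h1 := h.tor.map hF hg
    rw [hk] at h1
    have h2 : TorIn X ((1 : F) • act g u) (e • Pi.single k 1) := by rwa [one_smul]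
    exact h2.of_smul hF (by rw [one_pow, one_mul]) he

theorem PIn.smul {X : Subgroup (SU n F q)} {k : Fin n} {u : Fin n → F} (h : PIn X k u)
    {a : F} (ha : a * a ^ q = 1) : PIn X k (a • u) := by
  refine ⟨?_, ?_, ?_⟩
  · rw [herm_smul_left, herm_smul_right, h.unit]
    linear_combination ha
  · rw [Pi.smul_apply, h.zero, smul_zero]
  · have h1 := h.tor.smul hF ha (b := 1) (by rw [one_pow, one_mul])
    rwa [one_smul] at h1

theorem PIn.refl {X : Subgroup (SU n F q)} {k : Fin n} {u f : Fin n → F} (hu : PIn X k u)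
    (hf : PIn X k f) {c : F} (hc : c * c ^ q = 1) :
    PIn X k (f + ((c - 1) * hermForm n F q f u) • u) := by
  obtain ⟨g, hg, hact⟩ := hu.tor c hc
  have h1 : act g f = f + ((c - 1) * hermForm n F q f u) • u := by
    rw [hact, herm_single_right hF, hf.zero, mul_zero, zero_smul, add_zero]
  have h2 : act g (Pi.single k 1) = c ^ q • Pi.single k 1 := by
    rw [hact, herm_single_left, hu.zero, zero_pow_q hF, mul_zero, zero_smul, add_zero,
      herm_single_self hF, mul_one, sub_smul, one_smul]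
    abel
  rw [← h1]
  exact hf.map hF hg (e := c ^ q) (by rw [pow_q_pow_q hF, mul_comm]; exact hc) h2

variable {X : Subgroup (SU n F q)} (hG : ∀ g : SU n F q, IsMono g → g ∈ X)

include hG in
theorem torIn_single {i k : Fin n} (hik : i ≠ k) :
    TorIn X (Pi.single i 1) (Pi.single k 1) := by
  intro c hc
  obtain ⟨g, hg⟩ := exists_tor hF (herm_single_self hF i) (herm_single_self hF k)
    (herm_single_ne hF hik) hc
  refine ⟨g, hG g ?_, hg⟩
  intro j
  rw [hg]
  by_cases h1 : j = i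
  · subst h1
    refine ⟨j, c, ?_⟩
    rw [herm_single_self hF, herm_single_ne hF hik, mul_one, mul_zero, zero_smul, add_zero,
      sub_smul, one_smul]
    abel
  · by_cases h2 : j = k
    · subst h2
      refine ⟨j, c ^ q, ?_⟩
      rw [herm_single_self hF, herm_single_ne hF h1, mul_one, mul_zero, zero_smul, add_zero,
        sub_smul, one_smul]
      abel
    · refine ⟨j, 1, ?_⟩
      rw [herm_single_ne hF h1, herm_single_ne hF h2, mul_zero, mul_zero, zero_smul, zero_smul,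
        add_zero, add_zero, one_smul]

include hG in
theorem PIn.single {i k : Fin n} (hik : i ≠ k) : PIn X k (Pi.single i 1) :=
  ⟨herm_single_self hF i, Pi.single_eq_of_ne hik.symm _, torIn_single hF hG hik⟩

include hG in
theorem PIn.mono {k : Fin n} {u : Fin n → F} (h : PIn X k u) (σ : Equiv.Perm (Fin n))
    (hσ : σ k = k) (d : Fin n → F) (hd : ∀ i, d i * d i ^ q = 1) :
    PIn X k (fun l => d l * u (σ l)) := by
  obtain ⟨g, e, hg, he, hk, hxk, hx⟩ := exists_mono_fix hF k σ hσ d hd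
  have h1 := h.map hF (hG g hg) he hk
  have h2 : act g u = fun l => d l * u (σ l) := by
    funext l
    by_cases hl : l = k
    · subst hl
      rw [hxk, hσ, h.zero, mul_zero, mul_zero]
    · exact hx u l hl
  rwa [h2] at h1

include hG in
/-- Reduction of the support. -/
theorem PIn.reduce {k : Fin n} {u : Fin n → F} (hu : PIn X k u) {i j : Fin n} (hij : i ≠ j)
    (hi : u i ≠ 0) (hj : u j ≠ 0) (hne : u i * u i ^ q + u j * u j ^ q ≠ 1) {c : F}
    (hc : c * c ^ q = 1) (hcc : c ^ q ≠ c) :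
    ∃ f, PIn X k f ∧ f j = 0 ∧
      (∃ m : F, m ≠ 0 ∧ ∀ l, l ≠ i → l ≠ j → f l = m * u l) ∧
      (f i = 0 → (c - 1) * (c ^ q - 1) * (1 - (u i * u i ^ q + u j * u j ^ q)) = 1) := by
  have hik : i ≠ k := by
    rintro rfl
    exact hi hu.zero
  have hjk : j ≠ k := by
    rintro rfl
    exact hj hu.zero
  have hei : PIn X k (Pi.single i 1) := PIn.single hF hG hik
  have hej : PIn X k (Pi.single j 1) := PIn.single hF hG hjk
  -- the vectors `a`, `b`
  obtain ⟨a, ha⟩ : ∃ a : Fin n → F, a = Pi.single i 1 + ((c - 1) * u i ^ q) • u := ⟨_, rfl⟩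
  obtain ⟨b, hb⟩ : ∃ b : Fin n → F, b = Pi.single j 1 + ((c - 1) * u j ^ q) • u := ⟨_, rfl⟩
  have haP : PIn X k a := by
    have h1 := hu.refl hF hei hc
    rwa [herm_single_left, ← ha] at h1
  have hbP : PIn X k b := by
    have h1 := hu.refl hF hej hc
    rwa [herm_single_left, ← hb] at h1
  have hba : hermForm n F q b a = 0 := by
    rw [ha, hb]
    simp only [herm_add_left, herm_add_right hF, herm_smul_left, herm_smul_right,
      herm_single_left, herm_single_right hF, hu.unit, mul_pow,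
      sub_pow_q hF, one_pow, pow_q_pow_q hF, Pi.add_apply, Pi.smul_apply, smul_eq_mul,
      Pi.single_eq_of_ne hij]
    linear_combination (u i * u j ^ q) * hc
  -- the norms
  obtain ⟨α, hα⟩ : ∃ α, α = u i * u i ^ q := ⟨_, rfl⟩
  obtain ⟨β, hβ⟩ : ∃ β, β = u j * u j ^ q := ⟨_, rfl⟩
  have hαq : α ^ q = α := by rw [hα, norm_pow_q hF]
  have hβq : β ^ q = β := by rw [hβ, norm_pow_q hF]
  rw [← hα, ← hβ] at hne ⊢
  have hc0 := n1_ne_zero hc
  have hc1 : c - 1 ≠ 0 := by
    intro h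
    rw [sub_eq_zero] at h
    rw [h, one_pow] at hcc
    exact hcc rfl
  have hB : 1 + (c - 1) * (1 - α) ≠ 0 := by
    intro h
    have h1 : (1 + (c - 1) * (1 - α)) ^ q = 0 := by rw [h, zero_pow_q hF]
    rw [add_pow_q hF, mul_pow, sub_pow_q hF, sub_pow_q hF, one_pow, hαq] at h1
    have h3 : (c ^ q - c) * (1 - α) = 0 := by linear_combination h1 - h
    rcases mul_eq_zero.1 h3 with h4 | h4
    · exact hcc (sub_eq_zero.1 h4)
    · rw [h4, mul_zero, add_zero] at h
      exact one_ne_zero h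
  obtain ⟨θ, hθ⟩ : ∃ θ, θ = (1 + (c - 1) * β) / (1 + (c - 1) * (1 - α)) := ⟨_, rfl⟩
  have hθB : θ * (1 + (c - 1) * (1 - α)) = 1 + (c - 1) * β := by
    rw [hθ, div_mul_cancel₀ _ hB]
  have hθq : θ ^ q ≠ θ := by
    intro h
    have h1 : (θ * (1 + (c - 1) * (1 - α))) ^ q = (1 + (c - 1) * β) ^ q := by rw [hθB]
    rw [mul_pow, h, add_pow_q hF, mul_pow, add_pow_q hF, mul_pow, sub_pow_q hF, sub_pow_q hF,
      one_pow, hαq, hβq] at h1
    have h3 : (c ^ q - c) * (θ * (1 - α) - β) = 0 := by linear_combination h1 - hθB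
    rcases mul_eq_zero.1 h3 with h4 | h4
    · exact hcc (sub_eq_zero.1 h4)
    · have h5 : θ = 1 := by linear_combination hθB - (c - 1) * h4
      rw [h5] at h4
      exact hne (by linear_combination -h4)
  obtain ⟨c₁, c₂, hc₁, hc₂, hc₁1, hc₂1, hcr⟩ := exists_pair_ratio hF hθq
  -- the new vector
  have hfP := haP.refl hF (hbP.refl hF hei hc₂) hc₁
  rw [herm_add_left, herm_smul_left, hba, mul_zero, add_zero, herm_single_left,
    herm_single_left] at hfP
  have hai : a i = 1 + (c - 1) * α := by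
    rw [ha, Pi.add_apply, Pi.smul_apply, Pi.single_eq_same, smul_eq_mul, hα]
    ring
  have haj : a j = (c - 1) * (u i ^ q * u j) := by
    rw [ha, Pi.add_apply, Pi.smul_apply, Pi.single_eq_of_ne hij.symm, smul_eq_mul]
    ring
  have hbj : b j = 1 + (c - 1) * β := by
    rw [hb, Pi.add_apply, Pi.smul_apply, Pi.single_eq_same, smul_eq_mul, hβ]
    ring
  have hbi : b i = (c - 1) * (u j ^ q * u i) := by
    rw [hb, Pi.add_apply, Pi.smul_apply, Pi.single_eq_of_ne hij, smul_eq_mul]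
    ring
  have haiq : a i ^ q = 1 + (c ^ q - 1) * α := by
    rw [hai, add_pow_q hF, mul_pow, sub_pow_q hF, one_pow, hαq]
  have hbiq : b i ^ q = (c ^ q - 1) * (u j * u i ^ q) := by
    rw [hbi, mul_pow, mul_pow, sub_pow_q hF, one_pow, pow_q_pow_q hF]
  -- key identity
  have key : θ * (1 + (c ^ q - 1) * α) = c ^ q + (1 - c ^ q) * β := by
    have h1 : (c - 1) * (1 + (c ^ q - 1) * α) = (1 - c ^ q) * (1 + (c - 1) * (1 - α)) := by
      linear_combination hc
    have h3 : (c - 1) * (θ * (1 + (c ^ q - 1) * α)) = (c - 1) * (c ^ q + (1 - c ^ q) * β) := by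
      linear_combination θ * h1 + (1 - c ^ q) * hθB - hc
    exact mul_left_cancel₀ hc1 h3
  have hfl : ∀ l, (Pi.single i 1 + ((c₂ - 1) * b i ^ q) • b + ((c₁ - 1) * a i ^ q) • a :
      Fin n → F) l = (Pi.single i 1 : Fin n → F) l + (c₂ - 1) * b i ^ q * b l +
        (c₁ - 1) * a i ^ q * a l := fun l => rfl
  refine ⟨_, hfP, ?_, ⟨(c₂ - 1) * (1 - c ^ q) * u i ^ q, ?_, ?_⟩, ?_⟩
  · rw [hfl, Pi.single_eq_of_ne hij.symm, hbiq, haiq, hbj, haj, hcr]
    linear_combination ((c₂ - 1) * (c - 1) * u i ^ q * u j) * key +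
      (u i ^ q * u j * (c₂ - 1)) * hc
  · refine mul_ne_zero (mul_ne_zero (sub_ne_zero.2 hc₂1) ?_) (pow_ne_zero _ hi)
    intro h
    apply hcc
    have h1 : c ^ q = 1 := by linear_combination -h
    have h3 := pow_q_pow_q hF c
    rw [h1, one_pow] at h3
    rw [h1, h3]
  · intro l hli hlj
    have hal : a l = (c - 1) * (u i ^ q * u l) := by
      rw [ha, Pi.add_apply, Pi.smul_apply, Pi.single_eq_of_ne hli, smul_eq_mul]
      ring
    have hbl : b l = (c - 1) * (u j ^ q * u l) := by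
      rw [hb, Pi.add_apply, Pi.smul_apply, Pi.single_eq_of_ne hlj, smul_eq_mul]
      ring
    rw [hfl, Pi.single_eq_of_ne hli, hbiq, haiq, hbl, hal, hcr]
    linear_combination ((c₂ - 1) * (c - 1) * u i ^ q * u l) * key +
      ((c₂ - 1) * u i ^ q * u l) * hc -
      ((c₂ - 1) * (c - 1) * (c ^ q - 1) * u i ^ q * u l) * hβ
  · intro h
    rw [hfl, Pi.single_eq_same, hbiq, haiq, hbi, hai, hcr] at h
    -- `1 + (c₂ - 1) (c⁻¹ + (1 - c⁻¹) σ) = 0`
    obtain ⟨σ, hσ⟩ : ∃ σ, σ = α + β := ⟨_, rfl⟩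
    have hσq : σ ^ q = σ := by rw [hσ, add_pow_q hF, hαq, hβq]
    have h1 : 1 + (c₂ - 1) * (c ^ q + (1 - c ^ q) * σ) = 0 := by
      rw [hσ]
      linear_combination h - (c₂ - 1) * (1 + (c - 1) * α) * key - (c₂ - 1) * α * hc +
        (c₂ - 1) * (c ^ q - 1) * (c - 1) * β * hα +
        (c₂ - 1) * (c ^ q - 1) * (c - 1) * (u i * u i ^ q) * hβ
    have h3 : c₂ * (c ^ q + (1 - c ^ q) * σ) = (c ^ q + (1 - c ^ q) * σ) - 1 := by
      linear_combination h1
    have h4 : c₂ ^ q * (c + (1 - c) * σ) = (c + (1 - c) * σ) - 1 := by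
      have h5 := congrArg (fun x => x ^ q) h3
      simp only [mul_pow, sub_pow_q hF, add_pow_q hF, one_pow, pow_q_pow_q hF, hσq] at h5
      exact h5
    rw [← hσ]
    linear_combination (1 - σ) * hc - (c₂ ^ q * (c + (1 - c) * σ)) * h3 -
      ((c ^ q + (1 - c ^ q) * σ) - 1) * h4 +
      (c ^ q + (1 - c ^ q) * σ) * (c + (1 - c) * σ) * hc₂

end Cfsg.Agent.H927
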