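import Mathlib
import Cfsg.Agent.H927.FrameRefl

/-!
# A vector of weight two
-/

set_option autoImplicit false
set_option linter.unusedSectionVars false
set_option linter.unusedVariables false

namespace Cfsg.Agent.H927

open Cfsg Cfsg.Agent.LieClassical.HermBasic Cfsg.Agent.LieClassical.HermSiegel

variable {F : Type*} [Field F] {n q : ℕ}

/-- the support of a vector -/
noncomputable def supp (u : Fin n → F) : Finset (Fin n) :=
  @Finset.filter (Fin n) (fun i => u i ≠ 0) (Classical.decPred _) Finset.univ

theorem mem_supp {u : Fin n → F} {i : Fin n} : i ∈ supp u ↔ u i ≠ 0 := by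
  classical
  simp [supp]

variable [Fintype F] (hF : Fintype.card F = q ^ 2)
include hF

/-- A norm-one element which is not a root of a polynomial of degree at most `q`. -/
theorem exists_norm_one_not_root (P : Polynomial F) (hP : P ≠ 0) (hdeg : P.natDegree ≤ q) :
    ∃ c : F, c * c ^ q = 1 ∧ P.eval c ≠ 0 := by
  classical
  by_contra hcon
  push Not at hcon
  have h1 := card_norm_eq_one hF
  have h2 : Nat.card {x : F // x * x ^ q = 1} ≤ Nat.card P.roots.toFinset := by
    apply Nat.card_le_card_of_injective
      (fun x : {x : F // x * x ^ q = 1} => (⟨x.1, by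
        rw [Multiset.mem_toFinset, Polynomial.mem_roots hP]
        exact hcon _ x.2⟩ : P.roots.toFinset))
    intro x y hxy
    exact Subtype.ext (congrArg (fun z : P.roots.toFinset => (z : F)) hxy)
  rw [h1, Nat.card_eq_fintype_card, Fintype.card_coe] at h2
  have h3 := Multiset.toFinset_card_le P.roots
  have h4 := Polynomial.card_roots' P
  omega

theorem exists_norm_one_ne_conj : ∃ c : F, c * c ^ q = 1 ∧ c ^ q ≠ c := by
  have h2 := two_le hF
  obtain ⟨c, hc, hne⟩ := exists_norm_one_not_root hF (Polynomial.X ^ 2 - Polynomial.C 1 : Polynomial F)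
    (Polynomial.X_pow_sub_C_ne_zero (by norm_num) _) (by
      rw [Polynomial.natDegree_X_pow_sub_C]
      exact h2)
  refine ⟨c, hc, fun h => hne ?_⟩
  rw [h] at hc
  simp only [Polynomial.eval_sub, Polynomial.eval_pow, Polynomial.eval_X, Polynomial.eval_C]
  linear_combination hc

theorem exists_good_c (hq : 4 ≤ q) (δ : F) :
    ∃ c : F, c * c ^ q = 1 ∧ c ^ q ≠ c ∧ (c - 1) * (c ^ q - 1) * δ ≠ 1 := by
  by_cases hδ : δ = 0
  · obtain ⟨c, hc, hne⟩ := exists_norm_one_ne_conj hF
    refine ⟨c, hc, hne, ?_⟩
    rw [hδ, mul_zero]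
    exact zero_ne_one
  obtain ⟨c, hc, hne⟩ := exists_norm_one_not_root hF
    ((Polynomial.X ^ 2 - Polynomial.C 1) * (Polynomial.C δ * (Polynomial.C 2 * Polynomial.X -
      Polynomial.X ^ 2 - Polynomial.C 1) - Polynomial.X) : Polynomial F) (by
      intro h
      have h1 := congrArg (Polynomial.eval 0) h
      simp at h1
      exact hδ h1) (by
      refine le_trans ?_ hq
      compute_degree)
  simp only [Polynomial.eval_mul, Polynomial.eval_sub, Polynomial.eval_pow, Polynomial.eval_X,
    Polynomial.eval_C] at hne
  refine ⟨c, hc, fun h => hne ?_, fun h => hne ?_⟩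
  · rw [h] at hc
    have : c ^ 2 - 1 = 0 := by linear_combination hc
    rw [this, zero_mul]
  · have : δ * (2 * c - c ^ 2 - 1) - c = 0 := by
      linear_combination c * h - δ * (c - 1) * hc
    rw [this, mul_zero]

variable {X : Subgroup (SU n F q)} (hG : ∀ g : SU n F q, IsMono g → g ∈ X)
include hG

/-- the reflection `-1` when `2 N(u_i) = 1` -/
theorem PIn.half {k : Fin n} {u : Fin n → F} (hu : PIn X k u) {i : Fin n}
    (h2 : 2 * (u i * u i ^ q) = 1) :
    ∃ f, PIn X k f ∧ supp f = (supp u).erase i := by
  classical
  have hui : u i ≠ 0 := by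
    intro h
    rw [h, zero_mul, mul_zero] at h2
    exact zero_ne_one h2
  have h20 : (2 : F) ≠ 0 := by
    intro h
    rw [h, zero_mul] at h2
    exact zero_ne_one h2
  have hik : i ≠ k := by
    rintro rfl
    exact hui hu.zero
  have h1 := hu.refl hF (PIn.single hF hG hik) (c := -1) (by
    rw [neg_pow_q hF, one_pow]
    ring)
  rw [herm_single_left] at h1
  refine ⟨_, h1, ?_⟩
  ext l
  rw [Finset.mem_erase, mem_supp, mem_supp, Pi.add_apply, Pi.smul_apply, smul_eq_mul]
  by_cases hl : l = i
  · subst hl
    rw [Pi.single_eq_same]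
    constructor
    · intro h
      exact absurd (by linear_combination -h2) h
    · intro h
      exact absurd rfl h.1
  · rw [Pi.single_eq_of_ne hl, zero_add]
    constructor
    · intro h
      refine ⟨hl, ?_⟩
      rintro h0
      rw [h0, mul_zero] at h
      exact h rfl
    · rintro ⟨-, h⟩
      refine mul_ne_zero (mul_ne_zero ?_ (pow_ne_zero _ hui)) h
      intro h0
      apply h20
      linear_combination -h0

/-- **A weight two vector.** -/
theorem PIn.exists_weight_two (hq : 3 ≤ q) {k : Fin n} {u : Fin n → F} (hu : PIn X k u)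
    (h2 : 2 ≤ (supp u).card) : ∃ v, PIn X k v ∧ (supp v).card = 2 := by
  classical
  induction' hN : (supp u).card using Nat.strong_induction_on with N ih generalizing u
  rcases Nat.eq_or_lt_of_le h2 with h | h
  · exact ⟨u, hu, h.symm⟩
  by_cases hhalf : ∃ m, 2 * (u m * u m ^ q) = 1
  · obtain ⟨m, hm⟩ := hhalf
    obtain ⟨f, hf, hs⟩ := hu.half hF hG hm
    have hmem : m ∈ supp u := by
      rw [mem_supp]
      intro h
      rw [h, zero_mul, mul_zero] at hm
      exact zero_ne_one hm
    have hcard : (supp f).card = (supp u).card - 1 := by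
      rw [hs, Finset.card_erase_of_mem hmem]
    exact ih _ (by omega) hf (by omega) rfl
  push Not at hhalf
  -- a pair with `N(u_i) + N(u_j) ≠ 1`
  obtain ⟨i, hi, j, hj, l, hl, hij, hil, hjl⟩ := Finset.two_lt_card.1 h
  obtain ⟨i, j, hi, hj, hij, hne⟩ : ∃ i j, i ∈ supp u ∧ j ∈ supp u ∧ i ≠ j ∧
      u i * u i ^ q + u j * u j ^ q ≠ 1 := by
    by_contra hcon
    push Not at hcon
    have e1 := hcon i j hi hj hij
    have e2 := hcon i l hi hl hil
    have e3 := hcon j l hj hl hjl
    exact hhalf i (by linear_combination e1 + e2 - e3)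
  rw [mem_supp] at hi hj
  rcases Nat.lt_or_ge 3 (supp u).card with h4 | h4
  · -- weight at least four
    obtain ⟨c, hc, hcc⟩ := exists_norm_one_ne_conj hF
    obtain ⟨f, hf, hfj, ⟨m, hm, hfm⟩, -⟩ := hu.reduce hF hG hij hi hj hne hc hcc
    have hsub : supp f ⊆ (supp u).erase j := by
      intro t ht
      rw [mem_supp] at ht
      have htj : t ≠ j := by
        rintro rfl
        exact ht hfj
      rw [Finset.mem_erase, mem_supp]
      refine ⟨htj, ?_⟩
      by_cases hti : t = i
      · rw [hti]
        exact hi
      · intro h0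
        rw [hfm t hti htj, h0, mul_zero] at ht
        exact ht rfl
    have hsup : ((supp u).erase j).erase i ⊆ supp f := by
      intro t ht
      rw [Finset.mem_erase, Finset.mem_erase, mem_supp] at ht
      rw [mem_supp, hfm t ht.1 ht.2.1]
      exact mul_ne_zero hm ht.2.2
    have c1 := Finset.card_le_card hsub
    have c2 := Finset.card_le_card hsup
    rw [Finset.card_erase_of_mem (mem_supp.2 hj)] at c1
    rw [Finset.card_erase_of_mem (by
      rw [Finset.mem_erase]
      exact ⟨hij, mem_supp.2 hi⟩), Finset.card_erase_of_mem (mem_supp.2 hj)] at c2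
    exact ih _ (by omega) hf (by omega) rfl
  · -- weight three
    have h3 : (supp u).card = 3 := by omega
    obtain ⟨l, hl⟩ : ∃ l, ((supp u).erase j).erase i = {l} := by
      rw [← Finset.card_eq_one, Finset.card_erase_of_mem (by
        rw [Finset.mem_erase]
        exact ⟨hij, mem_supp.2 hi⟩), Finset.card_erase_of_mem (mem_supp.2 hj), h3]
    have hlm : l ∈ ((supp u).erase j).erase i := by rw [hl]; exact Finset.mem_singleton_self l
    rw [Finset.mem_erase, Finset.mem_erase, mem_supp] at hlm
    have hrest : ∀ t, t ≠ i → t ≠ j → t ≠ l → u t = 0 := by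
      intro t hti htj htl
      by_contra h0
      have : t ∈ ((supp u).erase j).erase i := by
        rw [Finset.mem_erase, Finset.mem_erase, mem_supp]
        exact ⟨hti, htj, h0⟩
      rw [hl, Finset.mem_singleton] at this
      exact htl this
    have hsum : u i * u i ^ q + u j * u j ^ q + u l * u l ^ q = 1 := by
      have h5 := hu.unit
      rw [herm_def] at h5
      rw [← h5]
      have h6 : ∑ t, u t * u t ^ q = ∑ t ∈ ({i, j, l} : Finset (Fin n)), u t * u t ^ q := by
        symm
        apply Finset.sum_subset (Finset.subset_univ _)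
        intro t _ ht
        simp only [Finset.mem_insert, Finset.mem_singleton, not_or] at ht
        rw [hrest t ht.1 ht.2.1 ht.2.2, zero_mul]
      rw [h6, Finset.sum_insert (by simp [hij, hlm.1.symm]), Finset.sum_insert (by simp [hlm.2.1.symm]),
        Finset.sum_singleton]
      ring
    rcases Nat.lt_or_ge q 4 with hq4 | hq4
    · -- `q = 3`
      exfalso
      have hq3 : q = 3 := by omega
      subst hq3
      have hchar : (3 : F) = 0 := by
        have h6 : ((Fintype.card F : ℕ) : F) = 0 := by
          exact FiniteField.cast_card_eq_zero F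
        rw [hF] at h6
        have h7 : (3 : F) ^ 2 = 0 := by exact_mod_cast h6
        exact pow_eq_zero_iff (two_ne_zero) |>.1 h7
      have hone : ∀ t, u t ≠ 0 → u t * u t ^ 3 = 1 := by
        intro t ht
        have h6 := norm_pow_q hF (u t)
        have h7 := hhalf t
        obtain ⟨α, hα⟩ : ∃ α, α = u t * u t ^ 3 := ⟨_, rfl⟩
        rw [← hα] at h6 h7 ⊢
        have hα0 : α ≠ 0 := by
          rw [hα]
          exact mul_ne_zero ht (pow_ne_zero _ ht)
        have h8 : α * ((α - 1) * (2 * α - 1)) = 0 := by
          linear_combination 2 * h6 + (α - α ^ 2) * hchar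
        rcases mul_eq_zero.1 h8 with h9 | h9
        · exact absurd h9 hα0
        · rcases mul_eq_zero.1 h9 with h10 | h10
          · exact sub_eq_zero.1 h10
          · exact absurd (sub_eq_zero.1 h10) h7
      rw [hone i hi, hone j hj, hone l hlm.2.2] at hsum
      have h11 : (3 : F) = 1 := by linear_combination hsum
      rw [hchar] at h11
      exact zero_ne_one h11
    · obtain ⟨c, hc, hcc, hgood⟩ := exists_good_c hF hq4
        (1 - (u i * u i ^ q + u j * u j ^ q))
      obtain ⟨f, hf, hfj, ⟨m, hm, hfm⟩, hfi⟩ := hu.reduce hF hG hij hi hj hne hc hcc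
      have hfi0 : f i ≠ 0 := fun h0 => hgood (hfi h0)
      refine ⟨f, hf, ?_⟩
      have hs : supp f = {i, l} := by
        ext t
        rw [mem_supp, Finset.mem_insert, Finset.mem_singleton]
        constructor
        · intro ht
          by_contra hcon
          push Not at hcon
          by_cases htj : t = j
          · rw [htj] at ht
            exact ht hfj
          · rw [hfm t hcon.1 htj, hrest t hcon.1 htj hcon.2, mul_zero] at ht
            exact ht rfl
        · rintro (rfl | rfl)
          · exact hfi0
          · rw [hfm t hlm.1 hlm.2.1]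
            exact mul_ne_zero hm hlm.2.2
      rw [hs, Finset.card_pair hlm.1.symm]

end Cfsg.Agent.H927
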