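import Mathlib
import Cfsg.Agent.H927.FrameTwo

/-!
# The two dimensional lemma

If the set of reflections contains a vector of weight two then all unit vectors of the coordinate plane
are images of a coordinate vector.
-/

set_option autoImplicit false
set_option linter.unusedSectionVars false
set_option linter.unusedVariables false

namespace Cfsg.Agent.H927

open Cfsg Cfsg.Agent.LieClassical.HermBasic Cfsg.Agent.LieClassical.HermSiegel

variable {F : Type*} [Field F] {n q : ℕ}

/-- elements of `X` fixing all coordinate lines except possibly `i`, `j` -/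
def KIn (X : Subgroup (SU n F q)) (i j : Fin n) (g : SU n F q) : Prop :=
  g ∈ X ∧ ∀ l, l ≠ i → l ≠ j → ∃ c : F, c * c ^ q = 1 ∧ act g (Pi.single l 1) = c • Pi.single l 1

/-- images of `e_i` under such elements -/
def OIn (X : Subgroup (SU n F q)) (i j : Fin n) (v : Fin n → F) : Prop :=
  ∃ g, KIn X i j g ∧ act g (Pi.single i 1) = v

/-- all unit vectors of the coordinate plane are images of `e_i` -/
def PairIn (X : Subgroup (SU n F q)) (i j : Fin n) : Prop :=
  ∀ z : Fin n → F, hermForm n F q z z = 1 → (∀ l, l ≠ i → l ≠ j → z l = 0) → OIn X i j z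

theorem KIn.mul {X : Subgroup (SU n F q)} {i j : Fin n} {g h : SU n F q} (hg : KIn X i j g)
    (hh : KIn X i j h) : KIn X i j (g * h) := by
  refine ⟨X.mul_mem hg.1 hh.1, fun l hi hj => ?_⟩
  obtain ⟨c, hc, h1⟩ := hh.2 l hi hj
  obtain ⟨d, hd, h2⟩ := hg.2 l hi hj
  refine ⟨c * d, ?_, ?_⟩
  · rw [mul_pow]
    linear_combination d * d ^ q * hc + hd
  · rw [act_mul, h1, act_smul, h2, smul_smul]

variable [Fintype F] (hF : Fintype.card F = q ^ 2)
include hF

theorem KIn.inv {X : Subgroup (SU n F q)} {i j : Fin n} {g : SU n F q} (hg : KIn X i j g) :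
    KIn X i j g⁻¹ := by
  refine ⟨X.inv_mem hg.1, fun l hi hj => ?_⟩
  obtain ⟨c, hc, h1⟩ := hg.2 l hi hj
  refine ⟨c ^ q, by rw [pow_q_pow_q hF, mul_comm]; exact hc, ?_⟩
  have h2 := congrArg (act g⁻¹) h1
  rw [act_inv_act, act_smul] at h2
  have h3 : act g⁻¹ (Pi.single l 1) = (c ^ q * c) • act g⁻¹ (Pi.single l 1) := by
    rw [mul_comm, hc, one_smul]
  rw [h3, mul_smul, ← h2]

/-- coordinates outside the plane of a vector of the plane remain zero -/
theorem KIn.plane {X : Subgroup (SU n F q)} {i j : Fin n} {g : SU n F q} (hg : KIn X i j g)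
    {z : Fin n → F} (hz : ∀ l, l ≠ i → l ≠ j → z l = 0) :
    ∀ l, l ≠ i → l ≠ j → act g z l = 0 := by
  intro l hi hj
  obtain ⟨c, hc, h1⟩ := hg.2 l hi hj
  have h2 := herm_act g z (Pi.single l 1)
  rw [h1, herm_smul_right, herm_single_right hF, herm_single_right hF, hz l hi hj] at h2
  exact (mul_eq_zero.1 h2).resolve_left (pow_ne_zero _ (n1_ne_zero hc))

theorem OIn.map {X : Subgroup (SU n F q)} {i j : Fin n} {g : SU n F q} (hg : KIn X i j g)
    {v : Fin n → F} (hv : OIn X i j v) : OIn X i j (act g v) := by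
  obtain ⟨h, hh, rfl⟩ := hv
  exact ⟨g * h, hg.mul hh, by rw [act_mul]⟩

theorem OIn.unit {X : Subgroup (SU n F q)} {i j : Fin n} {v : Fin n → F} (hv : OIn X i j v) :
    hermForm n F q v v = 1 := by
  obtain ⟨g, hg, rfl⟩ := hv
  rw [herm_act, herm_single_self hF]

theorem OIn.plane {X : Subgroup (SU n F q)} {i j : Fin n} {v : Fin n → F} (hv : OIn X i j v) :
    ∀ l, l ≠ i → l ≠ j → v l = 0 := by
  obtain ⟨g, hg, rfl⟩ := hv
  exact hg.plane hF (fun l hi hj => Pi.single_eq_of_ne hi _)

theorem unit_two {i j : Fin n} (hij : i ≠ j) {v : Fin n → F} (hv : hermForm n F q v v = 1)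
    (hp : ∀ l, l ≠ i → l ≠ j → v l = 0) : v i * v i ^ q + v j * v j ^ q = 1 := by
  rw [← hv, herm_two hij hp]

/-- `t ↦ ρ + Tr(t w)` takes more than `q / 2` values on the norm-one elements. -/
theorem exists_common_value {w w' ρ ρ' : F} (hw : w ≠ 0) (hw' : w' ≠ 0) (hρ : ρ ^ q = ρ)
    (hρ' : ρ' ^ q = ρ') : ∃ t t' : F, t * t ^ q = 1 ∧ t' * t' ^ q = 1 ∧
      ρ + (t * w + (t * w) ^ q) = ρ' + (t' * w' + (t' * w') ^ q) := by
  classical
  set S : Finset F := Finset.univ.filter (fun t => t * t ^ q = 1) with hS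
  have hScard : S.card = q + 1 := by
    rw [← card_norm_eq_one hF, Nat.card_eq_fintype_card, Fintype.card_subtype]
  set T : Finset F := Finset.univ.filter (fun t => t ^ q = t) with hT
  have hTcard : T.card = q := by
    have := card_fixed hF
    rw [Nat.card_eq_fintype_card, Fintype.card_subtype] at this
    exact this
  have key : ∀ (w ρ : F), w ≠ 0 → ρ ^ q = ρ →
      (S.image (fun t => ρ + (t * w + (t * w) ^ q))) ⊆ T ∧
      q + 1 ≤ 2 * (S.image (fun t => ρ + (t * w + (t * w) ^ q))).card := by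
    intro w ρ hw hρ
    constructor
    · intro x hx
      rw [Finset.mem_image] at hx
      obtain ⟨t, ht, rfl⟩ := hx
      rw [hT, Finset.mem_filter]
      refine ⟨Finset.mem_univ _, ?_⟩
      rw [add_pow_q hF, hρ, trace_pow_q hF]
    · rw [← hScard]
      apply Finset.card_le_mul_card_image
      intro a ha
      -- the fibre consists of roots of a quadratic polynomial
      have hq2 : (Polynomial.C w * Polynomial.X ^ 2 + Polynomial.C (ρ - a) * Polynomial.X +
          Polynomial.C (w ^ q) : Polynomial F) ≠ 0 := by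
        intro h0
        have h1 := Polynomial.degree_quadratic (a := w) (b := ρ - a) (c := w ^ q) hw
        rw [h0, Polynomial.degree_zero] at h1
        exact absurd h1 (by decide)
      have hsub : {x ∈ S | ρ + (x * w + (x * w) ^ q) = a} ⊆ (Polynomial.C w * Polynomial.X ^ 2 +
          Polynomial.C (ρ - a) * Polynomial.X + Polynomial.C (w ^ q) : Polynomial F).roots.toFinset := by
        intro x hx
        rw [Finset.mem_filter, hS, Finset.mem_filter] at hx
        rw [Multiset.mem_toFinset, Polynomial.mem_roots hq2, Polynomial.IsRoot]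
        simp only [Polynomial.eval_add, Polynomial.eval_mul, Polynomial.eval_C,
          Polynomial.eval_pow, Polynomial.eval_X]
        have h1 := hx.2
        rw [mul_pow] at h1
        linear_combination x * h1 - w ^ q * hx.1.2
      refine (Finset.card_le_card hsub).trans ((Multiset.toFinset_card_le _).trans
        ((Polynomial.card_roots' _).trans ?_))
      compute_degree
  obtain ⟨h1, h2⟩ := key w ρ hw hρ
  obtain ⟨h3, h4⟩ := key w' ρ' hw' hρ'
  have h5 : ¬ Disjoint (S.image (fun t => ρ + (t * w + (t * w) ^ q)))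
      (S.image (fun t => ρ' + (t * w' + (t * w') ^ q))) := by
    intro hd
    have h6 := Finset.card_le_card (Finset.union_subset h1 h3)
    rw [Finset.card_union_of_disjoint hd, hTcard] at h6
    omega
  rw [Finset.not_disjoint_iff] at h5
  obtain ⟨x, hx1, hx2⟩ := h5
  rw [Finset.mem_image] at hx1 hx2
  obtain ⟨t, ht, ht'⟩ := hx1
  obtain ⟨s, hs, hs'⟩ := hx2
  rw [hS, Finset.mem_filter] at ht hs
  exact ⟨t, s, ht.2, hs.2, by rw [ht', hs']⟩

variable {X : Subgroup (SU n F q)} (hG : ∀ g : SU n F q, IsMono g → g ∈ X)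
include hG

/-- diagonal elements -/
theorem exists_KIn_diag {i j k : Fin n} (hij : i ≠ j) (hik : i ≠ k) (hjk : j ≠ k) {a b : F}
    (ha : a * a ^ q = 1) (hb : b * b ^ q = 1) :
    ∃ g, KIn X i j g ∧ ∀ x, (∀ l, l ≠ i → l ≠ j → x l = 0) →
      act g x i = a * x i ∧ act g x j = b * x j := by
  classical
  obtain ⟨g, e, hg, he, hk, hxk, hx⟩ := exists_mono_fix hF k 1 rfl
    (fun l => if l = i then a else if l = j then b else 1) (by
      intro l
      by_cases h1 : l = i
      · rw [if_pos h1]; exact ha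
      · rw [if_neg h1]
        by_cases h2 : l = j
        · rw [if_pos h2]; exact hb
        · rw [if_neg h2, one_pow, one_mul])
  refine ⟨g, ⟨hG g hg, fun l hi hj => ?_⟩, fun x _ => ⟨?_, ?_⟩⟩
  · by_cases hlk : l = k
    · subst hlk
      exact ⟨e, he, hk⟩
    · refine ⟨1, by rw [one_pow, one_mul], ?_⟩
      funext m
      rw [one_smul]
      by_cases hmk : m = k
      · subst hmk
        rw [hxk, Pi.single_eq_of_ne (Ne.symm hlk), mul_zero]
      · rw [hx _ m hmk, Equiv.Perm.one_apply]
        by_cases hml : m = l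
        · subst hml
          rw [if_neg hi, if_neg hj, one_mul]
        · rw [Pi.single_eq_of_ne hml, mul_zero]
  · rw [hx _ i hik, if_pos rfl, Equiv.Perm.one_apply]
  · rw [hx _ j hjk, if_neg hij.symm, if_pos rfl, Equiv.Perm.one_apply]

theorem OIn.of_norm {i j k : Fin n} (hij : i ≠ j) (hik : i ≠ k) (hjk : j ≠ k) {v z : Fin n → F}
    (hv : OIn X i j v) (hz : hermForm n F q z z = 1) (hp : ∀ l, l ≠ i → l ≠ j → z l = 0)
    (h : z i * z i ^ q = v i * v i ^ q) : OIn X i j z := by
  have h1 := unit_two hF hij (hv.unit hF) (hv.plane hF)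
  have h2 := unit_two hF hij hz hp
  have h3 : z j * z j ^ q = v j * v j ^ q := by linear_combination h2 - h1 - h
  have key : ∀ x y : F, x * x ^ q = y * y ^ q → ∃ a : F, a * a ^ q = 1 ∧ x = a * y := by
    intro x y hxy
    by_cases hy : y = 0
    · refine ⟨1, by rw [one_pow, one_mul], ?_⟩
      rw [hy, zero_mul] at hxy
      rw [hy, mul_zero]
      exact (norm_eq_zero hF).1 hxy
    · refine ⟨x / y, ?_, by rw [div_mul_cancel₀ _ hy]⟩
      rw [div_pow, div_mul_div_comm, hxy, div_self (mul_ne_zero hy (pow_ne_zero _ hy))]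
  obtain ⟨a, ha, hza⟩ := key _ _ h
  obtain ⟨b, hb, hzb⟩ := key _ _ h3
  obtain ⟨g, hg, hgx⟩ := exists_KIn_diag hF hG hij hik hjk ha hb
  have h4 : act g v = z := by
    funext l
    by_cases hli : l = i
    · rw [hli, (hgx v (hv.plane hF)).1, hza]
    · by_cases hlj : l = j
      · rw [hlj, (hgx v (hv.plane hF)).2, hzb]
      · rw [hg.plane hF (hv.plane hF) l hli hlj, hp l hli hlj]
  rw [← h4]
  exact hv.map hF hg

theorem KIn.of_PIn {i j k : Fin n} (hij : i ≠ j) (hik : i ≠ k) (hjk : j ≠ k) {u : Fin n → F}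
    (hu : PIn X k u) (hp : ∀ l, l ≠ i → l ≠ j → u l = 0) {c : F} (hc : c * c ^ q = 1) :
    ∃ g, KIn X i j g ∧ ∀ x, x k = 0 → act g x = x + ((c - 1) * hermForm n F q x u) • u := by
  obtain ⟨g, hg, hgx⟩ := hu.tor c hc
  refine ⟨g, ⟨hg, fun l hli hlj => ?_⟩, fun x hx => ?_⟩
  · by_cases hlk : l = k
    · subst hlk
      refine ⟨c ^ q, by rw [pow_q_pow_q hF, mul_comm]; exact hc, ?_⟩
      rw [hgx, herm_single_left, hu.zero, zero_pow_q hF, mul_zero, zero_smul, add_zero,
        herm_single_self hF, mul_one, sub_smul, one_smul]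
      abel
    · refine ⟨1, by rw [one_pow, one_mul], ?_⟩
      rw [hgx, herm_single_left, hp l hli hlj, zero_pow_q hF, mul_zero, zero_smul, add_zero,
        herm_single_ne hF hlk, mul_zero, zero_smul, add_zero, one_smul]
  · rw [hgx, herm_single_right hF, hx, mul_zero, zero_smul, add_zero]

/-- **The two dimensional lemma.** -/
theorem pairIn_of_PIn {i j k : Fin n} (hij : i ≠ j) (hik : i ≠ k) (hjk : j ≠ k) {u : Fin n → F}
    (hu : PIn X k u) (hp : ∀ l, l ≠ i → l ≠ j → u l = 0) (hui : u i ≠ 0) (huj : u j ≠ 0) :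
    PairIn X i j := by
  classical
  have hei : OIn X i j (Pi.single i 1) := ⟨1, ⟨X.one_mem, fun l _ _ =>
    ⟨1, by rw [one_pow, one_mul], by rw [act_one, one_smul]⟩⟩, act_one _⟩
  -- a vector of weight two in the orbit
  obtain ⟨v, hv, hvi, hvj⟩ : ∃ v, OIn X i j v ∧ v i ≠ 0 ∧ v j ≠ 0 := by
    obtain ⟨c, hc, hcc⟩ := exists_norm_one_ne_conj hF
    obtain ⟨g, hg, hgx⟩ := KIn.of_PIn hF hG hij hik hjk hu hp hc
    refine ⟨_, hei.map hF hg, ?_, ?_⟩
    · rw [hgx _ (Pi.single_eq_of_ne hik.symm _), herm_single_left, Pi.add_apply, Pi.single_eq_same,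
        Pi.smul_apply, smul_eq_mul]
      intro h0
      have h1 := congrArg (fun x => x ^ q) h0
      simp only [add_pow_q hF, mul_pow, sub_pow_q hF, one_pow, pow_q_pow_q hF, zero_pow_q hF] at h1
      have h2 : (c ^ q - c) * (u i * u i ^ q) = 0 := by linear_combination h1 - h0
      rcases mul_eq_zero.1 h2 with h3 | h3
      · exact hcc (sub_eq_zero.1 h3)
      · exact mul_ne_zero hui (pow_ne_zero _ hui) h3
    · rw [hgx _ (Pi.single_eq_of_ne hik.symm _), herm_single_left, Pi.add_apply,
        Pi.single_eq_of_ne hij.symm, Pi.smul_apply, smul_eq_mul, zero_add]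
      refine mul_ne_zero (mul_ne_zero ?_ (pow_ne_zero _ hui)) huj
      intro h0
      rw [sub_eq_zero] at h0
      rw [h0, one_pow] at hcc
      exact hcc rfl
  intro z hz hzp
  -- `z` of weight one
  by_cases hzj : z j = 0
  · apply hei.of_norm hF hG hij hik hjk hz hzp
    have h1 := unit_two hF hij hz hzp
    rw [hzj, zero_mul, add_zero] at h1
    rw [h1, Pi.single_eq_same, one_pow, one_mul]
  by_cases hzi : z i = 0
  · obtain ⟨g, e, hg, he, hk, hxk, hx⟩ := exists_mono_fix hF k (Equiv.swap i j)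
      (Equiv.swap_apply_of_ne_of_ne hik.symm hjk.symm) (fun _ => (1 : F))
      (fun _ => by rw [one_pow, one_mul])
    have hK : KIn X i j g := by
      refine ⟨hG g hg, fun l hli hlj => ?_⟩
      by_cases hlk : l = k
      · subst hlk
        exact ⟨e, he, hk⟩
      · refine ⟨1, by rw [one_pow, one_mul], ?_⟩
        funext m
        rw [one_smul]
        by_cases hmk : m = k
        · subst hmk
          rw [hxk, Pi.single_eq_of_ne (Ne.symm hlk), mul_zero]
        · rw [hx _ m hmk, one_mul]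
          by_cases hml : m = l
          · subst hml
            rw [Equiv.swap_apply_of_ne_of_ne hli hlj]
          · rw [Pi.single_eq_of_ne hml, Pi.single_eq_of_ne]
            intro h
            apply hml
            have h2 := congrArg (Equiv.swap i j) h
            rwa [Equiv.swap_apply_self, Equiv.swap_apply_of_ne_of_ne hli hlj] at h2
    apply (hei.map hF hK).of_norm hF hG hij hik hjk hz hzp
    rw [hzi, hx _ i hik, Equiv.swap_apply_left, Pi.single_eq_of_ne hij.symm, mul_zero]
  -- `z` of weight two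
  have hvu := unit_two hF hij (hv.unit hF) (hv.plane hF)
  have hzu := unit_two hF hij hz hzp
  obtain ⟨t, s, ht, hs, hts⟩ := exists_common_value hF (w := z j * v j ^ q * (z i ^ q * v i))
    (w' := v j * v j ^ q * (v i ^ q * v i))
    (ρ := z i * z i ^ q * (v i * v i ^ q) + z j * z j ^ q * (v j * v j ^ q))
    (ρ' := v i * v i ^ q * (v i * v i ^ q) + v j * v j ^ q * (v j * v j ^ q))
    (mul_ne_zero (mul_ne_zero hzj (pow_ne_zero _ hvj)) (mul_ne_zero (pow_ne_zero _ hzi) hvi))
    (mul_ne_zero (mul_ne_zero hvj (pow_ne_zero _ hvj)) (mul_ne_zero (pow_ne_zero _ hvi) hvi))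
    (by rw [add_pow_q hF, mul_pow, mul_pow (z j * z j ^ q), norm_pow_q hF, norm_pow_q hF,
      norm_pow_q hF, norm_pow_q hF])
    (by rw [add_pow_q hF, mul_pow, mul_pow (v j * v j ^ q), norm_pow_q hF, norm_pow_q hF])
  obtain ⟨a, ha, hax⟩ := exists_KIn_diag hF hG hij hik hjk (a := 1) (b := t)
    (by rw [one_pow, one_mul]) ht
  obtain ⟨b, hb, hbx⟩ := exists_KIn_diag hF hG hij hik hjk (a := 1) (b := s)
    (by rw [one_pow, one_mul]) hs
  obtain ⟨g, hg, hgv⟩ := id hv
  have hat := hax z hzp
  have hbs := hbx v (hv.plane hF)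
  -- the `i`-th coordinates of `g⁻¹ z_t` and `g⁻¹ v_s`
  have hco : ∀ x : Fin n → F, act g⁻¹ x i = hermForm n F q x v := by
    intro x
    rw [← herm_single_right hF (act g⁻¹ x) i, ← herm_act g, act_act_inv, hgv]
  have hO1 : OIn X i j (act g⁻¹ (act b v)) := (hv.map hF hb).map hF (hg.inv hF)
  have hO2 : OIn X i j (act g⁻¹ (act a z)) := by
    apply hO1.of_norm hF hG hij hik hjk
    · rw [herm_act, herm_act, hz]
    · exact (hg.inv hF).plane hF (ha.plane hF hzp)
    · rw [hco, hco, herm_two hij (ha.plane hF hzp), herm_two hij (hb.plane hF (hv.plane hF)),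
        hat.1, hat.2, hbs.1, hbs.2]
      have e1 : ∀ x y v1 v2 r : F, r * r ^ q = 1 →
          (1 * x * v1 ^ q + r * y * v2 ^ q) * (1 * x * v1 ^ q + r * y * v2 ^ q) ^ q =
          (x * x ^ q * (v1 * v1 ^ q) + y * y ^ q * (v2 * v2 ^ q)) +
          (r * (y * v2 ^ q * (x ^ q * v1)) + (r * (y * v2 ^ q * (x ^ q * v1))) ^ q) := by
        intro x y v1 v2 r hr
        rw [add_pow_q hF]
        simp only [mul_pow, one_pow, pow_q_pow_q hF]
        linear_combination (y * y ^ q * (v2 * v2 ^ q)) * hr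
      rw [e1 _ _ _ _ _ ht, e1 _ _ _ _ _ hs]
      exact hts
  have hO3 : OIn X i j z := by
    have h1 := (hO2.map hF hg).map hF (ha.inv hF)
    rwa [act_act_inv, act_inv_act] at h1
  exact hO3

end Cfsg.Agent.H927
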