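import Mathlib
import Cfsg.Agent.H927.FrameDim2
import Cfsg.Agent.LieClassical.HermPerfect

/-!
# A subgroup containing the monomial elements and a non-monomial one fixing a coordinate line

`eq_top_of_fix`: `X ≤ SU_n(q)`, `q ≥ 3`, `n ≥ 4`, contains all monomial elements and a non-monomial
element fixing a coordinate line; then `X = ⊤`.
-/

set_option autoImplicit false
set_option linter.unusedSectionVars false
set_option linter.unusedVariables false

namespace Cfsg.Agent.H927

open Cfsg Cfsg.Agent.LieClassical.HermBasic Cfsg.Agent.LieClassical.HermSiegel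

variable {F : Type*} [Field F] [Fintype F] {n q : ℕ} (hF : Fintype.card F = q ^ 2)
include hF

theorem exists_fixed_ne_one (hq : 3 ≤ q) : ∃ l : F, l ^ q = l ∧ l ≠ 0 ∧ l ≠ 1 := by
  classical
  by_contra hcon
  push Not at hcon
  have h1 := card_fixed hF
  have h2 : Nat.card {x : F // x ^ q = x} ≤ 2 := by
    have h3 : Function.Injective (fun x : {x : F // x ^ q = x} => (⟨x.1, by
      by_cases h0 : x.1 = 0
      · simp [h0]
      · simp [hcon x.1 x.2 h0]⟩ : ({0, 1} : Finset F))) := by
      intro x y hxy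
      exact Subtype.ext (Subtype.mk.inj hxy)
    have h4 := Nat.card_le_card_of_injective _ h3
    refine h4.trans ?_
    rw [Nat.card_eq_fintype_card, Fintype.card_coe]
    exact Finset.card_le_two
  omega

variable {X : Subgroup (SU n F q)} (hG : ∀ g : SU n F q, IsMono g → g ∈ X)
include hG

/-- Transport to another pair of coordinates. -/
theorem PairIn.transport {i j i' j' : Fin n} (hij : i ≠ j) (hij' : i' ≠ j') (h : PairIn X i j) :
    PairIn X i' j' := by
  classical
  set τ : Equiv.Perm (Fin n) := Equiv.swap i' i with hτ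
  set σ : Equiv.Perm (Fin n) := Equiv.swap (τ j') j * τ with hσ
  have hτi : τ i' = i := Equiv.swap_apply_left _ _
  have hσi : σ i' = i := by
    rw [hσ, Equiv.Perm.mul_apply, hτi]
    apply Equiv.swap_apply_of_ne_of_ne _ hij
    intro h
    rw [← hτi] at h
    exact hij' (τ.injective h)
  have hσj : σ j' = j := by
    rw [hσ, Equiv.Perm.mul_apply, Equiv.swap_apply_left]
  obtain ⟨s, hs, hss⟩ : ∃ s : F, s = ((Equiv.Perm.sign σ : ℤ) : F) ∧ s * s = 1 := by
    refine ⟨_, rfl, ?_⟩
    rcases Int.units_eq_one_or (Equiv.Perm.sign σ) with h | h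
    · rw [h]; simp
    · rw [h]; simp
  have hsq : s ^ q = s := by
    rcases Int.units_eq_one_or (Equiv.Perm.sign σ) with h | h
    · rw [hs, h]; simp
    · rw [hs, h]
      simp only [Units.val_neg, Units.val_one, Int.cast_neg, Int.cast_one]
      rw [neg_pow_q hF, one_pow]
  obtain ⟨m, hm, hmx⟩ := exists_mono hF σ (Function.update (fun _ => (1 : F)) i s) (by
    intro l
    by_cases hl : l = i
    · subst hl
      rw [Function.update_self, hsq, hss]
    · rw [Function.update_of_ne hl, one_pow, one_mul]) (by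
    rw [← hs, Finset.prod_update_of_mem (Finset.mem_univ i)]
    simp [hss])
  have hmX := hG m hm
  intro z hz hzp
  -- the vector `z' = m⁻¹ z`
  obtain ⟨y, hy⟩ : ∃ y, y = act m⁻¹ z := ⟨_, rfl⟩
  have hmy : act m y = z := by rw [hy, act_act_inv]
  have hyp : ∀ l, l ≠ i → l ≠ j → y l = 0 := by
    intro l hli hlj
    have h1 := hmx y (σ.symm l)
    rw [hmy, Equiv.apply_symm_apply, Function.update_of_ne hli, one_mul] at h1
    rw [← h1]
    apply hzp
    · intro h2
      apply hli
      rw [← hσi, ← h2, Equiv.apply_symm_apply]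
    · intro h2
      apply hlj
      rw [← hσj, ← h2, Equiv.apply_symm_apply]
  have hyu : hermForm n F q y y = 1 := by rw [hy, herm_act, hz]
  obtain ⟨g, hg, hgi⟩ := h (s • y) (by
    rw [herm_smul_left, herm_smul_right, hyu, hsq, mul_one, hss]) (fun l hli hlj => by
    rw [Pi.smul_apply, hyp l hli hlj, smul_zero])
  -- images of coordinate vectors
  have hmi : act m⁻¹ (Pi.single i' 1) = s • Pi.single i 1 := by
    have h1 : act m (s • Pi.single i 1) = Pi.single i' 1 := by
      funext l
      rw [hmx, Pi.smul_apply, smul_eq_mul]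
      by_cases hl : l = i'
      · subst hl
        rw [hσi, Function.update_self, Pi.single_eq_same, Pi.single_eq_same, mul_one, hss]
      · have h2 : σ l ≠ i := fun h2 => hl (σ.injective (by rw [h2, hσi]))
        rw [Pi.single_eq_of_ne h2, Pi.single_eq_of_ne hl, mul_zero, mul_zero]
    rw [← h1, act_inv_act]
  refine ⟨m * g * m⁻¹, ⟨X.mul_mem (X.mul_mem hmX hg.1) (X.inv_mem hmX), fun l hli hlj => ?_⟩, ?_⟩
  · have hσl : σ l ≠ i := fun h2 => hli (σ.injective (by rw [h2, hσi]))
    have hσl' : σ l ≠ j := fun h2 => hlj (σ.injective (by rw [h2, hσj]))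
    have h1 : act m (Pi.single (σ l) 1) = Pi.single l 1 := by
      funext t
      rw [hmx]
      by_cases ht : t = l
      · subst ht
        rw [Function.update_of_ne hσl, Pi.single_eq_same, Pi.single_eq_same, one_mul]
      · rw [Pi.single_eq_of_ne ht, Pi.single_eq_of_ne (fun h2 => ht (σ.injective h2)), mul_zero]
    have h2 : act m⁻¹ (Pi.single l 1) = Pi.single (σ l) 1 := by rw [← h1, act_inv_act]
    obtain ⟨c, hc, hgc⟩ := hg.2 (σ l) hσl hσl'
    refine ⟨c, hc, ?_⟩
    rw [act_mul, act_mul, h2, hgc, act_smul, h1]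
  · rw [act_mul, act_mul, hmi, act_smul, hgi, smul_smul, hss, one_smul, hmy]

omit hG in
/-- the effect of a plane element on supports -/
theorem KIn.apply_ne_zero_iff {i j : Fin n} {g : SU n F q} (hg : KIn X i j g) (f : Fin n → F)
    {l : Fin n} (hli : l ≠ i) (hlj : l ≠ j) :
    ∃ c : F, c * c ^ q = 1 ∧ act g⁻¹ f l = c * f l := by
  obtain ⟨c, hc, h1⟩ := hg.2 l hli hlj
  refine ⟨c ^ q, by rw [pow_q_pow_q hF, mul_comm]; exact hc, ?_⟩
  rw [← herm_single_right hF (act g⁻¹ f) l, ← herm_act g, act_act_inv, h1, herm_smul_right,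
    herm_single_right hF]

omit hG in
/-- Case (a): two coordinates with `N(f_i) + N(f_j) ≠ 0` -/
theorem exists_reduce_pair {i j : Fin n} (hij : i ≠ j) (hP : PairIn X i j) {f : Fin n → F}
    (hfi : f i ≠ 0) (hfj : f j ≠ 0) (hne : f i * f i ^ q + f j * f j ^ q ≠ 0) :
    ∃ g, KIn X i j g ∧ supp (act g⁻¹ f) = (supp f).erase j := by
  classical
  obtain ⟨δ, hδ0, hδ⟩ := exists_norm_eq_ne hF (c := f i * f i ^ q + f j * f j ^ q) (by
    rw [add_pow_q hF, norm_pow_q hF, norm_pow_q hF]) hne
  obtain ⟨z, hz⟩ : ∃ z : Fin n → F, z = δ⁻¹ • (f i • Pi.single i 1 + f j • Pi.single j 1) := ⟨_, rfl⟩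
  have hzi : z i = δ⁻¹ * f i := by
    rw [hz]
    simp [Pi.single_eq_of_ne hij]
  have hzj : z j = δ⁻¹ * f j := by
    rw [hz]
    simp [Pi.single_eq_of_ne hij.symm]
  have hzl : ∀ l, l ≠ i → l ≠ j → z l = 0 := by
    intro l hli hlj
    rw [hz]
    simp [Pi.single_eq_of_ne hli, Pi.single_eq_of_ne hlj]
  have hδq : δ ^ q ≠ 0 := pow_ne_zero _ hδ0
  have hzu : hermForm n F q z z = 1 := by
    rw [herm_two hij hzl, hzi, hzj, mul_pow, mul_pow, inv_pow]
    field_simp
    linear_combination -hδ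
  obtain ⟨g, hg, hgi⟩ := hP z hzu hzl
  refine ⟨g, hg, ?_⟩
  have hi : act g⁻¹ f i = δ := by
    rw [← herm_single_right hF (act g⁻¹ f) i, ← herm_act g, act_act_inv, hgi,
      herm_swap hF z f, herm_two hij hzl, hzi, hzj]
    rw [add_pow_q hF, mul_pow, mul_pow, mul_pow, mul_pow, pow_q_pow_q hF, pow_q_pow_q hF, inv_pow]
    field_simp
    linear_combination -hδ
  have hj : act g⁻¹ f j = 0 := by
    obtain ⟨y, hy⟩ : ∃ y, y = act g (Pi.single j 1) := ⟨_, rfl⟩
    have hyp : ∀ l, l ≠ i → l ≠ j → y l = 0 := by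
      rw [hy]
      exact hg.plane hF (fun l _ hlj => Pi.single_eq_of_ne hlj _)
    have h1 : hermForm n F q y z = 0 := by
      rw [hy, ← hgi, herm_act, herm_single_ne hF hij.symm]
    rw [← herm_single_right hF (act g⁻¹ f) j, ← herm_act g, act_act_inv, ← hy]
    apply herm_eq_zero_swap hF
    rw [herm_two hij hyp] at h1 ⊢
    rw [hzi, hzj, mul_pow, mul_pow, inv_pow] at h1
    have h3 : (δ ^ q)⁻¹ * (y i * f i ^ q + y j * f j ^ q) = 0 := by linear_combination h1
    exact (mul_eq_zero.1 h3).resolve_left (inv_ne_zero hδq)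
  ext l
  rw [Finset.mem_erase, mem_supp, mem_supp]
  by_cases hlj : l = j
  · rw [hlj, hj]
    simp
  · by_cases hli : l = i
    · rw [hli, hi]
      simp [hij, hδ0, hfi]
    · obtain ⟨c, hc, h1⟩ := hg.apply_ne_zero_iff hF f hli hlj
      rw [h1]
      simp [n1_ne_zero hc, hlj]

/-- transitivity on unit vectors vanishing on `T` -/
theorem exists_move (hq : 3 ≤ q) (hP : ∀ i j : Fin n, i ≠ j → PairIn X i j) (T : Finset (Fin n))
    (hT : ∀ i, ∃ j, j ≠ i ∧ j ∉ T) (f : Fin n → F) (hf : hermForm n F q f f = 1)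
    (hfT : ∀ l ∈ T, f l = 0) :
    ∃ g ∈ X, (∀ l ∈ T, ∃ c : F, c * c ^ q = 1 ∧ act g (Pi.single l 1) = c • Pi.single l 1) ∧
      ∃ i, i ∉ T ∧ act g (Pi.single i 1) = f := by
  classical
  induction' hN : (supp f).card using Nat.strong_induction_on with N ih generalizing f
  -- combining an element with the induction hypothesis
  have comb : ∀ g : SU n F q, g ∈ X → (∀ l ∈ T, ∃ c : F, c * c ^ q = 1 ∧
      act g (Pi.single l 1) = c • Pi.single l 1) →
      (supp (act g⁻¹ f)).card < N → ∃ g ∈ X, (∀ l ∈ T, ∃ c : F, c * c ^ q = 1 ∧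
        act g (Pi.single l 1) = c • Pi.single l 1) ∧ ∃ i, i ∉ T ∧ act g (Pi.single i 1) = f := by
    intro g hg hgT hlt
    obtain ⟨g', hg', hT', i', hi', hgi'⟩ := ih _ hlt (act g⁻¹ f) (by rw [herm_act, hf]) (by
      intro l hl
      obtain ⟨c, hc, h1⟩ := hgT l hl
      rw [← herm_single_right hF (act g⁻¹ f) l, ← herm_act g, act_act_inv, h1, herm_smul_right,
        herm_single_right hF, hfT l hl, mul_zero]) rfl
    refine ⟨g * g', X.mul_mem hg hg', fun l hl => ?_, i', hi', ?_⟩
    · obtain ⟨c, hc, h1⟩ := hT' l hl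
      obtain ⟨d, hd, h2⟩ := hgT l hl
      refine ⟨c * d, ?_, ?_⟩
      · rw [mul_pow]
        linear_combination d * d ^ q * hc + hd
      · rw [act_mul, h1, act_smul, h2, smul_smul]
    · rw [act_mul, hgi', act_act_inv]
  have combK : ∀ (i j : Fin n) (g : SU n F q), KIn X i j g → i ∉ T → j ∉ T →
      ∀ l ∈ T, ∃ c : F, c * c ^ q = 1 ∧ act g (Pi.single l 1) = c • Pi.single l 1 := by
    intro i j g hg hiT hjT l hl
    exact hg.2 l (by rintro rfl; exact hiT hl) (by rintro rfl; exact hjT hl)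
  have hnT : ∀ i, f i ≠ 0 → i ∉ T := fun i hi hiT => hi (hfT i hiT)
  by_cases ha : ∃ i j, i ≠ j ∧ f i ≠ 0 ∧ f j ≠ 0 ∧ f i * f i ^ q + f j * f j ^ q ≠ 0
  · obtain ⟨i, j, hij, hfi, hfj, hne⟩ := ha
    obtain ⟨g, hg, hs⟩ := exists_reduce_pair hF hij (hP i j hij) hfi hfj hne
    apply comb g hg.1 (combK i j g hg (hnT i hfi) (hnT j hfj))
    rw [hs, ← hN]
    exact Finset.card_erase_lt_of_mem (mem_supp.2 hfj)
  push Not at ha
  -- the support is nonempty
  obtain ⟨i, hfi⟩ : ∃ i, f i ≠ 0 := by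
    by_contra hcon
    push Not at hcon
    rw [show f = 0 from funext hcon, herm_zero_left] at hf
    exact zero_ne_one hf
  by_cases h1 : ∃ j, j ≠ i ∧ f j ≠ 0
  swap
  · -- weight one
    push Not at h1
    obtain ⟨j, hji, hjT⟩ := hT i
    obtain ⟨g, hg, hgi⟩ := hP i j hji.symm f hf (fun l hli _ => h1 l hli)
    refine ⟨g, hg.1, fun l hl => hg.2 l (by rintro rfl; exact hnT _ hfi hl)
      (by rintro rfl; exact hjT hl), i, hnT i hfi, hgi⟩
  obtain ⟨j, hji, hfj⟩ := h1
  have hsum := ha i j hji.symm hfi hfj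
  by_cases h3 : ∃ l, l ≠ i ∧ l ≠ j ∧ f l ≠ 0
  swap
  · exfalso
    push Not at h3
    rw [herm_two hji.symm h3, hsum] at hf
    exact zero_ne_one hf
  obtain ⟨l, hli, hlj, hfl⟩ := h3
  have e2 := ha i l hli.symm hfi hfl
  have e3 := ha j l hlj.symm hfj hfl
  -- a unit vector of the plane with both coordinates nonzero
  obtain ⟨α, hαq, hα0, hα1⟩ := exists_fixed_ne_one hF hq
  obtain ⟨x, hx0, hx⟩ := exists_norm_eq_ne hF hαq hα0
  obtain ⟨y, hy0, hy⟩ := exists_norm_eq_ne hF (c := 1 - α) (by
    rw [sub_pow_q hF, one_pow, hαq]) (sub_ne_zero.2 hα1.symm)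
  obtain ⟨w, hw⟩ : ∃ w, w = f i * f j ^ q * (x ^ q * y) := ⟨_, rfl⟩
  have hw0 : w ≠ 0 := by
    rw [hw]
    exact mul_ne_zero (mul_ne_zero hfi (pow_ne_zero _ hfj)) (mul_ne_zero (pow_ne_zero _ hx0) hy0)
  obtain ⟨t, ht, hne⟩ := exists_norm_one_not_root hF
    (Polynomial.C w * Polynomial.X ^ 2 + Polynomial.C 0 * Polynomial.X + Polynomial.C (w ^ q)) (by
      intro h0
      have h1 := Polynomial.degree_quadratic (a := w) (b := 0) (c := w ^ q) hw0
      rw [h0, Polynomial.degree_zero] at h1
      exact absurd h1 (by decide)) (le_trans (by compute_degree) (two_le hF))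
  simp only [Polynomial.eval_add, Polynomial.eval_mul, Polynomial.eval_C,
    Polynomial.eval_pow, Polynomial.eval_X] at hne
  have hTr : w * t + (w * t) ^ q ≠ 0 := by
    intro h0
    apply hne
    rw [mul_pow] at h0
    linear_combination t * h0 - w ^ q * ht
  obtain ⟨z, hz⟩ : ∃ z : Fin n → F, z = x • Pi.single i 1 + (t * y) • Pi.single j 1 := ⟨_, rfl⟩
  have hzi : z i = x := by
    rw [hz]
    simp [Pi.single_eq_of_ne hji.symm]
  have hzj : z j = t * y := by
    rw [hz]
    simp [Pi.single_eq_of_ne hji]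
  have hzl : ∀ l, l ≠ i → l ≠ j → z l = 0 := by
    intro l hli hlj
    rw [hz]
    simp [Pi.single_eq_of_ne hli, Pi.single_eq_of_ne hlj]
  have hzu : hermForm n F q z z = 1 := by
    rw [herm_two hji.symm hzl, hzi, hzj, mul_pow]
    linear_combination hx + t * t ^ q * hy + (1 - α) * ht
  obtain ⟨g, hg, hgi⟩ := hP i j hji.symm z hzu hzl
  obtain ⟨f', hf'⟩ : ∃ f', f' = act g⁻¹ f := ⟨_, rfl⟩
  have hf'i : f' i = (z i * f i ^ q + z j * f j ^ q) ^ q := by
    rw [hf', ← herm_single_right hF (act g⁻¹ f) i, ← herm_act g, act_act_inv, hgi,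
      herm_swap hF z f, herm_two hji.symm hzl]
  have hsub : supp f' ⊆ supp f := by
    intro m hm
    rw [mem_supp] at hm ⊢
    by_cases hmi : m = i
    · rw [hmi]; exact hfi
    · by_cases hmj : m = j
      · rw [hmj]; exact hfj
      · obtain ⟨c, hc, h1⟩ := hg.apply_ne_zero_iff hF f hmi hmj
        rw [hf', h1] at hm
        exact right_ne_zero_of_mul hm
  by_cases hf'i0 : f' i = 0
  · apply comb g hg.1 (combK i j g hg (hnT i hfi) (hnT j hfj))
    rw [← hN, ← hf']
    apply Finset.card_lt_card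
    refine Finset.ssubset_iff_subset_ne.2 ⟨hsub, fun h => ?_⟩
    have : i ∈ supp f' := by rw [h, mem_supp]; exact hfi
    rw [mem_supp] at this
    exact this hf'i0
  · -- now `N(f'_i) + N(f'_l) ≠ 0`
    obtain ⟨c, hc, hcl⟩ := hg.apply_ne_zero_iff hF f hli hlj
    have hf'l : f' l = c * f l := by rw [hf', hcl]
    have hf'l0 : f' l ≠ 0 := by rw [hf'l]; exact mul_ne_zero (n1_ne_zero hc) hfl
    have hne' : f' i * f' i ^ q + f' l * f' l ^ q ≠ 0 := by
      have h2 : f' i * f' i ^ q = f i * f i ^ q + (w * t + (w * t) ^ q) := by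
        rw [hf'i, hzi, hzj, hw, pow_q_pow_q hF]
        simp only [mul_pow, add_pow_q hF, pow_q_pow_q hF]
        have h4 : f j * f j ^ q = f i * f i ^ q := by linear_combination e3 - e2
        linear_combination f i * f i ^ q * hx + f j * f j ^ q * (y * y ^ q) * ht +
          f j * f j ^ q * hy + (1 - α) * h4
      have h3 : f' l * f' l ^ q = f l * f l ^ q := by
        rw [hf'l, mul_pow]
        linear_combination (f l * f l ^ q) * hc
      rw [h2, h3]
      intro h0
      exact hTr (by linear_combination h0 - e2)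
    obtain ⟨g', hg', hs⟩ := exists_reduce_pair hF hli.symm (hP i l hli.symm) hf'i0 hf'l0 hne'
    have hlt : (supp (act g'⁻¹ f')).card < N := by
      rw [hs, ← hN]
      exact lt_of_lt_of_le (Finset.card_erase_lt_of_mem (mem_supp.2 hf'l0))
        (Finset.card_le_card hsub)
    apply comb (g * g') (X.mul_mem hg.1 hg'.1)
    · intro m hm
      obtain ⟨c, hc, h1⟩ := combK i l g' hg' (hnT i hfi) (hnT l hfl) m hm
      obtain ⟨d, hd, h2⟩ := combK i j g hg (hnT i hfi) (hnT j hfj) m hm
      refine ⟨c * d, ?_, ?_⟩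
      · rw [mul_pow]
        linear_combination d * d ^ q * hc + hd
      · rw [act_mul, h1, act_smul, h2, smul_smul]
    · rw [mul_inv_rev, act_mul, ← hf']
      exact hlt

/-- all orthonormal pairs have their torus in `X` -/
theorem torIn_all (hn : 3 ≤ n) (hq : 3 ≤ q) (hP : ∀ i j : Fin n, i ≠ j → PairIn X i j)
    {u w : Fin n → F} (hu : hermForm n F q u u = 1) (hw : hermForm n F q w w = 1)
    (huw : hermForm n F q u w = 0) : TorIn X u w := by
  classical
  obtain ⟨g, hg, -, i, -, hgi⟩ := exists_move hF hG hq hP ∅ (fun i => by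
    have : Nontrivial (Fin n) := Fin.nontrivial_iff_two_le.2 (by omega)
    obtain ⟨j, hj⟩ := exists_ne i
    exact ⟨j, hj, by simp⟩) u hu (by simp)
  have hwi : act g⁻¹ w i = 0 := by
    rw [← herm_single_right hF (act g⁻¹ w) i, ← herm_act g, act_act_inv, hgi]
    exact herm_eq_zero_swap hF huw
  obtain ⟨g', hg', hT', j, hj, hgj⟩ := exists_move hF hG hq hP {i} (fun a => by
    have h1 : ({i, a} : Finset (Fin n)).card < Fintype.card (Fin n) := by
      rw [Fintype.card_fin]
      exact lt_of_le_of_lt Finset.card_le_two (by omega)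
    obtain ⟨b, hb⟩ := Finset.exists_mem_notMem_of_card_lt_card (s := {i, a})
      (t := (Finset.univ : Finset (Fin n))) (by rwa [Finset.card_univ])
    simp only [Finset.mem_insert, Finset.mem_singleton, not_or] at hb
    exact ⟨b, hb.2.2, by simp [hb.2.1]⟩) (act g⁻¹ w) (by rw [herm_act, hw]) (by simpa using hwi)
  obtain ⟨c, hc, hgc⟩ := hT' i (by simp)
  have hij : i ≠ j := fun h => hj (by simp [h])
  have h1 := (torIn_single hF hG hij).map hF (X.mul_mem hg hg')
  rw [act_mul, act_mul, hgc, hgj, act_smul, hgi, act_act_inv] at h1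
  have h2 : TorIn X (c • u) ((1 : F) • w) := by rwa [one_smul]
  exact h2.of_smul hF hc (by rw [one_pow, one_mul])

theorem eq_top_of_pairIn (hn : 3 ≤ n) (hq : 3 ≤ q) (hP : ∀ i j : Fin n, i ≠ j → PairIn X i j) :
    X = ⊤ := by
  classical
  have hi0 : (⟨0, by omega⟩ : Fin n) ≠ ⟨1, by omega⟩ := by
    intro h
    exact absurd (Fin.mk.inj h) (by norm_num)
  have hi1 : (⟨2, by omega⟩ : Fin n) ≠ ⟨0, by omega⟩ := by
    intro h
    exact absurd (Fin.mk.inj h) (by norm_num)
  have hi2 : (⟨2, by omega⟩ : Fin n) ≠ ⟨1, by omega⟩ := by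
    intro h
    exact absurd (Fin.mk.inj h) (by norm_num)
  obtain ⟨c, hc, hcc⟩ := exists_norm_one_ne_conj hF
  obtain ⟨g, hg⟩ := exists_tor hF (herm_single_self hF _) (herm_single_self hF _)
    (herm_single_ne hF hi0) hc
  have hcore : g ∈ X.normalCore := by
    intro h
    have h1 := torIn_all hF hG hn hq hP (u := act h (Pi.single ⟨0, by omega⟩ 1))
      (w := act h (Pi.single ⟨1, by omega⟩ 1)) (by rw [herm_act, herm_single_self hF])
      (by rw [herm_act, herm_single_self hF]) (by rw [herm_act, herm_single_ne hF hi0])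
    obtain ⟨t, ht, hact⟩ := h1 c hc
    have h2 : h * g * h⁻¹ = t := by
      apply ext_act
      intro x
      have h3 : ∀ y, hermForm n F q (act h⁻¹ x) y = hermForm n F q x (act h y) := by
        intro y
        rw [← herm_act h, act_act_inv]
      rw [act_mul, act_mul, hg, hact, act_add, act_add, act_smul, act_smul, act_act_inv, h3, h3]
    rw [h2]
    exact ht
  have hnc : ¬ X.normalCore ≤ Subgroup.center (SU n F q) := by
    intro hle
    have h1 := hle hcore
    rw [Subgroup.mem_center_iff] at h1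
    obtain ⟨m, e, hm, he, hk, hxk, hx⟩ := exists_mono_fix hF (⟨1, by omega⟩ : Fin n)
      (Equiv.swap ⟨2, by omega⟩ ⟨0, by omega⟩)
      (Equiv.swap_apply_of_ne_of_ne hi2.symm hi0.symm) (fun _ => (1 : F))
      (fun _ => by rw [one_pow, one_mul])
    have h2 := congrArg (fun y => act y (Pi.single ⟨2, by omega⟩ 1)) (h1 m)
    simp only [act_mul] at h2
    have h3 : act g (Pi.single ⟨2, by omega⟩ 1) = Pi.single ⟨2, by omega⟩ 1 := by
      rw [hg, herm_single_ne hF hi1, herm_single_ne hF hi2]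
      simp
    have h4 : act m (Pi.single ⟨2, by omega⟩ 1) = Pi.single (⟨0, by omega⟩ : Fin n) 1 := by
      funext l
      by_cases hl : l = ⟨1, by omega⟩
      · rw [hl, hxk, Pi.single_eq_of_ne hi2.symm, Pi.single_eq_of_ne hi0.symm, mul_zero]
      · rw [hx _ l hl, one_mul]
        by_cases hl0 : l = ⟨0, by omega⟩
        · rw [hl0, Equiv.swap_apply_right, Pi.single_eq_same, Pi.single_eq_same]
        · rw [Pi.single_eq_of_ne hl0, Pi.single_eq_of_ne]
          intro h
          apply hl0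
          have h5 := congrArg (Equiv.swap (⟨2, by omega⟩ : Fin n) ⟨0, by omega⟩) h
          rwa [Equiv.swap_apply_self, Equiv.swap_apply_left] at h5
    rw [h3, h4, hg, herm_single_self hF, herm_single_ne hF hi0] at h2
    have h5 := congrFun h2 ⟨0, by omega⟩
    simp at h5
    rw [← h5, one_pow] at hcc
    exact hcc rfl
  have h3 := Cfsg.Agent.LieClassical.HermPerfect.normal_eq_top hF hn (by omega) hnc
  rw [eq_top_iff, ← h3]
  exact Subgroup.normalCore_le X

/-- **Steps 2 and 3**: a subgroup containing all monomial elements and a non-monomial element fixing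
a coordinate line is everything. -/
theorem eq_top_of_fix (hn : 3 ≤ n) (hq : 3 ≤ q) {y : SU n F q} (hy : y ∈ X) (hny : ¬ IsMono y)
    {k : Fin n} {c : F} (hk : act y (Pi.single k 1) = c • Pi.single k 1) : X = ⊤ := by
  classical
  have hc : c * c ^ q = 1 := by
    have h1 := herm_act y (Pi.single k 1) (Pi.single k 1)
    rw [hk, herm_smul_left, herm_smul_right, herm_single_self hF, mul_one] at h1
    exact h1
  -- a column of weight at least two
  obtain ⟨i, hi⟩ : ∃ i, ∀ (l : Fin n) (a : F), act y (Pi.single i 1) ≠ a • Pi.single l 1 := by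
    unfold IsMono at hny
    push Not at hny
    exact hny
  have hik : i ≠ k := by
    rintro rfl
    exact hi _ _ hk
  obtain ⟨u, hu⟩ : ∃ u, u = act y (Pi.single i 1) := ⟨_, rfl⟩
  have huP : PIn X k u := by
    rw [hu]
    exact (PIn.single hF hG hik).map hF hy hc hk
  have hw : 2 ≤ (supp u).card := by
    by_contra hlt
    have h1 : (supp u).card ≤ 1 := by omega
    rw [Finset.card_le_one] at h1
    obtain ⟨l, hl⟩ : ∃ l, u l ≠ 0 := by
      by_contra hcon
      push Not at hcon
      have h2 := huP.unit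
      rw [show u = 0 from funext hcon, herm_zero_left] at h2
      exact zero_ne_one h2
    apply hi l (u l)
    rw [← hu]
    funext m
    rw [Pi.smul_apply, smul_eq_mul]
    by_cases hm : m = l
    · subst hm
      rw [Pi.single_eq_same, mul_one]
    · rw [Pi.single_eq_of_ne hm, mul_zero]
      by_contra h0
      exact hm (h1 m (mem_supp.2 h0) l (mem_supp.2 hl))
  obtain ⟨v, hv, hv2⟩ := huP.exists_weight_two hF hG hq hw
  obtain ⟨a, b, hab, hs⟩ := Finset.card_eq_two.1 hv2
  have hva : v a ≠ 0 := mem_supp.1 (by rw [hs]; simp)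
  have hvb : v b ≠ 0 := mem_supp.1 (by rw [hs]; simp)
  have hvp : ∀ l, l ≠ a → l ≠ b → v l = 0 := by
    intro l hla hlb
    by_contra h0
    have h1 := mem_supp.2 h0
    rw [hs] at h1
    simp only [Finset.mem_insert, Finset.mem_singleton] at h1
    rcases h1 with h1 | h1
    · exact hla h1
    · exact hlb h1
  have hak : a ≠ k := by
    rintro rfl
    exact hva hv.zero
  have hbk : b ≠ k := by
    rintro rfl
    exact hvb hv.zero
  have hpair := pairIn_of_PIn hF hG hab hak hbk hv hvp hva hvb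
  exact eq_top_of_pairIn hF hG hn hq (fun i' j' hij' => hpair.transport hF hG hab hij')

end Cfsg.Agent.H927
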