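import Cfsg.Agent.H887.DS.Minor

/-!
# The coefficient of a simple module in its own characteristic (helper927)

* `master` : `φ (ρ g v) = Ξ g` for every function `Ξ` with the right invariance (any root group datum);
* `le_finrank_of` : lower bounds for the dimension from "vertices" and "extras".
-/

set_option autoImplicit false
set_option linter.unusedSectionVars false
set_option linter.style.haveILetI false

namespace Cfsg.Agent.H927.LD

open CoxeterSystem Cfsg.Agent.ChevalleyStructure.CoxeterGeom Cfsg.Agent.Tits.Roots Cfsg.Agent.Tits.Core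
  Cfsg.Agent.Tits.Exchange Cfsg.Agent.Nodes.Reps Cfsg.Agent.Nodes.BNOf Cfsg.Agent.Nodes.StabComb
  Cfsg.Agent.Nodes.Bruhat Cfsg.Agent.Nodes.OppDec Cfsg.Agent.Nodes.LeviDec Cfsg.Agent.KFacts.RgdOpp
  Cfsg.Agent.Omega.CR Cfsg.Agent.Omega.FOne.Lift.Sd Cfsg.Agent.Nodes.RGDLib
open Cfsg.Agent.H905.Md Module
open Cfsg.Agent.H887.DS (rSt lSt)

section gen

variable {I W Y : Type*} [Fintype I] [DecidableEq I] [Group W] [Group Y] {M : CoxeterMatrix I}
  {cs : CoxeterSystem M W} {A : I → I → ℤ} {h : IsCartan M A} {p : ℕ} {T : Subgroup Y} {n : I → Y}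
  {X : (I → ℤ) → Subgroup Y} {k V : Type*} [Field k] [AddCommGroup V] [Module k V]

/-- **The master formula.** -/
theorem master (R : RGD cs h p T n X) [Finite Y] [Finite W] [Fact p.Prime] [CharP k p] [IsAlgClosed k]
    [FiniteDimensional k V] [Nontrivial V] {ρ : Y →* Module.End k V}
    (hirr : ∀ L : Submodule k V, Ivt ρ (GG cs h T X) L → L = ⊥ ∨ L = ⊤)
    (hT : ∀ s ∈ T, ∀ t ∈ T, s * t = t * s) (hG : G1 cs h X = ⊤)
    {Ξ : Y → k} (hΞ : Ξ 1 = 1)
    (hU : ∀ x, RGD.Pos cs h x → ∀ u ∈ X x, ∀ g, Ξ (g * u) = Ξ g)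
    (hN : ∀ x, RGD.Pos cs h x → ∀ u ∈ X (-x), ∀ g, Ξ (u * g) = Ξ g)
    (hTl : ∀ t ∈ T, ∀ g, Ξ (t * g) = Ξ t * Ξ g) (hTr : ∀ t ∈ T, ∀ g, Ξ (g * t) = Ξ g * Ξ t)
    (hns : ∀ i ∈ Jx cs h X ρ, ∀ g, Ξ (n i * g) = Ξ g)
    {v : V} (hv : v ∈ D cs h X ρ) (hnv : ∀ i ∈ Jx cs h X ρ, ρ (n i) v = v)
    (hz : ∀ w g, Rp cs R.nsys w g → Ξ g ≠ 0 → w ∈ WJ cs (Jx cs h X ρ))
    (hχ : ∀ t ∈ T, ρ t v = Ξ t • v)
    {φ : Module.Dual k V} (hφ : φ ∈ fx (dualRep ρ) (UN cs h X)) (h1 : φ v = 1)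
    (g : Y) : φ (ρ g v) = Ξ g := by
  have hT0 : ∀ t ∈ T, Ξ t ≠ 0 := by
    intro t ht h0
    have h2 := hTl t ht t⁻¹
    rw [mul_inv_cancel, hΞ, h0, zero_mul] at h2
    exact one_ne_zero h2
  -- the torus on `φ`
  have hφT : ∀ t ∈ T, ∀ x, φ (ρ t x) = Ξ t * φ x := by
    intro t ht
    have e1 : Module.finrank k (D cs h (fun x => X (-x)) (dualRep ρ)) = 1 :=
      finrank_D (opp R) (H905.Md.hirr_opp R hirr) hT
    have e2 : φ ∈ D cs h (fun x => X (-x)) (dualRep ρ) := by rw [D_opp]; exact hφ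
    have e3 : dualRep ρ t⁻¹ φ ∈ D cs h (fun x => X (-x)) (dualRep ρ) := by
      haveI : Nontrivial (Module.Dual k V) := inferInstance
      exact D_ivt (opp R) (H905.Md.hirr_opp R hirr) t⁻¹ (inv_mem ht) φ e2
    have hφ0 : φ ≠ 0 := by rintro rfl; exact one_ne_zero h1.symm
    obtain ⟨c, hc⟩ := (finrank_eq_one_iff_of_nonzero' (⟨φ, e2⟩ : D cs h (fun x => X (-x)) (dualRep ρ))
      (by intro e; exact hφ0 (congrArg Subtype.val e))).1 e1 ⟨_, e3⟩
    have hc' : c • φ = dualRep ρ t⁻¹ φ := congrArg Subtype.val hc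
    have h2 : c = Ξ t := by
      have h3 := congrArg (fun ψ : Module.Dual k V => ψ v) hc'
      simp only [LinearMap.smul_apply, h1, smul_eq_mul, mul_one] at h3
      rw [dualRep_apply, inv_inv, hχ t ht, map_smul, h1, smul_eq_mul, mul_one] at h3
      exact h3
    intro x
    have h3 := congrArg (fun ψ : Module.Dual k V => ψ x) hc'
    simp only [LinearMap.smul_apply, smul_eq_mul] at h3
    rw [dualRep_apply, inv_inv, h2] at h3
    exact h3.symm
  -- representatives of `W_J`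
  have hWJ : ∀ w ∈ WJ cs (Jx cs h X ρ), ∀ g, Rp cs R.nsys w g → ρ g v = Ξ g • v := by
    intro w hw g hg
    obtain ⟨ω, hω, rfl⟩ := exists_word_of_mem_WJ cs hw
    clear hw
    induction ω generalizing g with
    | nil =>
      rw [wordProd_nil] at hg
      exact hχ g hg.mem_of_one
    | cons i ω ih =>
      rw [wordProd_cons] at hg
      have hi : i ∈ Jx cs h X ρ := hω i List.mem_cons_self
      have h1 := (rp_simple cs R.nsys i).inv.mul hg
      rw [inv_mul_cancel_left] at h1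
      have h2 := ih _ (fun j hj => hω j (List.mem_cons_of_mem _ hj)) h1
      have e : g = n i * ((n i)⁻¹ * g) := by rw [mul_inv_cancel_left]
      rw [e, rho_mul, h2, map_smul, hnv i hi, hns i hi]
  -- the monomial elements
  have hmono : ∀ w m, Rp cs R.nsys w m → φ (ρ m v) = Ξ m := by
    intro w m hm
    by_cases hw : w ∈ WJ cs (Jx cs h X ρ)
    · rw [hWJ w hw m hm, map_smul, h1, smul_eq_mul, mul_one]
    · have h2 : Ξ m = 0 := by
        by_contra hne
        exact hw (hz w m hm hne)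
      rw [h2]
      by_contra hne
      exact hw (mem_WJ_of_pair R hirr hφ hm hv hne)
  -- unipotent elements
  have hUU : ∀ u ∈ RGD.Sup X (RGD.Pos cs h), ∀ g, Ξ (g * u) = Ξ g := by
    have h2 : RGD.Sup X (RGD.Pos cs h) ≤ rSt Ξ := RGD.Sup_le fun z hz x hx g => hU z hz x hx g
    exact fun u hu g => h2 hu g
  have hNN : ∀ u ∈ UN cs h X, ∀ g, Ξ (u * g) = Ξ g := by
    have h2 : UN cs h X ≤ lSt Ξ := by
      refine RGD.Sup_le fun z hz x hx g => ?_
      have := hN (-z) ⟨hz.1.neg, neg_nonneg.2 hz.2⟩ x (by rwa [neg_neg]) g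
      exact this
    exact fun u hu g => h2 hu g
  -- stabilisers
  have hL : BN cs h T X ≤ lSt (fun g => (φ (ρ g v) = Ξ g : Prop)) := by
    refine sup_le ?_ ?_
    · intro t ht g
      apply propext
      change φ (ρ (t * g) v) = Ξ (t * g) ↔ φ (ρ g v) = Ξ g
      rw [rho_mul, hφT t ht, hTl t ht]
      exact mul_right_inj' (hT0 t ht)
    · intro u hu g
      apply propext
      change φ (ρ (u * g) v) = Ξ (u * g) ↔ φ (ρ g v) = Ξ g
      rw [rho_mul, dual_fx_pair R hφ hu, hNN u hu]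
  have hR : RGD.B cs h T X ≤ rSt (fun g => (φ (ρ g v) = Ξ g : Prop)) := by
    refine sup_le ?_ ?_
    · intro t ht g
      apply propext
      change φ (ρ (g * t) v) = Ξ (g * t) ↔ φ (ρ g v) = Ξ g
      rw [rho_mul, hχ t ht, map_smul, map_smul, smul_eq_mul, mul_comm, hTr t ht]
      exact mul_left_inj' (hT0 t ht)
    · intro u hu g
      apply propext
      change φ (ρ (g * u) v) = Ξ (g * u) ↔ φ (ρ g v) = Ξ g
      rw [rho_mul, hv u hu, hUU u hu]
  obtain ⟨k0, hk0⟩ := exists_rp cs R.nsys (w0 cs)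
  have hg : k0 * g ∈ GG cs h T X := by rw [gg_eq_top hG]; trivial
  obtain ⟨w, b₁, hb₁, m, hm, b₂, hb₂, e⟩ := (mem_GG R).1 hg
  have h2 : k0⁻¹ * b₁ * k0 ∈ BN cs h T X := by
    rw [← cj_BN R hk0, mem_cj] at hb₁
    exact hb₁
  have h3 : g = (k0⁻¹ * b₁ * k0) * (k0⁻¹ * m * b₂) := by
    rw [← mul_right_inj k0, e]
    group
  have h4 := hmono _ _ (hk0.inv.mul hm)
  have h5 : (φ (ρ (k0⁻¹ * m * b₂) v) = Ξ (k0⁻¹ * m * b₂)) :=
    (iff_of_eq (hR hb₂ (k0⁻¹ * m))).2 h4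
  rw [h3]
  exact (iff_of_eq (hL h2 _)).2 h5

end gen

end Cfsg.Agent.H927.LD
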