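import Cfsg.Agent.H927.G2Th
import Cfsg.Agent.H927.LDMaster
import Cfsg.Agent.ChevalleyStructure.G2Mono

/-!
# The coefficient of a simple module of `G₂(K)` in its own characteristic (helper927)

`exists_coef` : `φ (ρ g v) = Fa (θ(g)₆₆) * Fb (g₁₁,₁₁)`.
-/

set_option autoImplicit false
set_option linter.unusedSectionVars false
set_option linter.style.haveILetI false

namespace Cfsg.Agent.H927.G2

open Cfsg.Lie Matrix Cfsg.Agent.H638.G2Rep Cfsg.Agent.H638.G2Mem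
open Cfsg.Agent.H638
open CoxeterSystem Cfsg.Agent.ChevalleyStructure.CoxeterGeom Cfsg.Agent.Tits.Roots Cfsg.Agent.Tits.Core
  Cfsg.Agent.Tits.Exchange Cfsg.Agent.Nodes.Reps Cfsg.Agent.Nodes.BNOf Cfsg.Agent.Nodes.StabComb
  Cfsg.Agent.Nodes.Bruhat Cfsg.Agent.Nodes.OppDec Cfsg.Agent.Nodes.LeviDec Cfsg.Agent.KFacts.RgdOpp
  Cfsg.Agent.Omega.CR Cfsg.Agent.Omega.FOne.Lift.Sd Cfsg.Agent.Nodes.RGDLib
open Cfsg.Agent.H905.Md Cfsg.Agent.H64.CrossChev Cfsg.Agent.Nodes.RGDChev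

variable {K : Type} [Field K]

/-! ### the root group datum -/

/-- the Coxeter system -/
abbrev cs2 : CoxeterSystem CoxeterMatrix.G₂ CoxeterMatrix.G₂.Group := CoxeterMatrix.G₂.toCoxeterSystem

theorem ht : IsType chevG2 2 CoxeterMatrix.G₂ := isType_G2

theorem hc2 : IsCartan CoxeterMatrix.G₂ (Cfsg.Agent.ChevalleyStructure.CoxeterGeomTypes.cartanOf chevG2 2) := ht.isCartan

/-- the torus -/
abbrev T2 (K : Type) [Field K] : Subgroup (GK K) := (chevG2.diagonalSubgroup K).subgroupOf (chevG2.group K)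
/-- the reflections -/
abbrev n2 (K : Type) [Field K] (i : Fin 2) : GK K := ⟨nn ht K i, nn_mem_group ht i⟩
/-- the root groups -/
abbrev X2 (K : Type) [Field K] (x : Fin 2 → ℤ) : Subgroup (GK K) := (XV chevG2 2 K x).subgroupOf (chevG2.group K)

instance instFiniteG2W : Finite CoxeterMatrix.G₂.Group := finite_W ht cs2

theorem rgd2 [Finite K] (p : ℕ) [Fact p.Prime] [CharP K p] : RGD cs2 hc2 p (T2 K) (n2 K) (X2 K) := rgd ht cs2 p

theorem gen2 : G1 cs2 hc2 (X2 K) = ⊤ := G1_eq_top ht cs2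

theorem simple0 : chevG2.simple 0 = 7 := by decide +kernel
theorem simple1 : chevG2.simple 1 = 6 := by decide +kernel
theorem neg_lt {r : ℕ} (hr : r < 12) : chevG2.neg r = 11 - r := Cfsg.Agent.ChevalleyStructure.G2N.neg_eq hr

theorem n2_0 : n2 K 0 = xg 7 1 * (xg 4 (-1) * xg 7 1) := by
  apply Subtype.ext
  change Cfsg.Agent.ChevalleyStructure.Elts.nG ht.inList (chevG2.simple ((0 : Fin 2) : ℕ)) 1 = _
  rw [Cfsg.Agent.ChevalleyStructure.Elts.nG_def, show chevG2.simple ((0 : Fin 2) : ℕ) = 7 from simple0,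
    show chevG2.neg 7 = 4 from neg_lt (by norm_num), inv_one]
  rfl

theorem n2_1 : n2 K 1 = xg 6 1 * (xg 5 (-1) * xg 6 1) := by
  apply Subtype.ext
  change Cfsg.Agent.ChevalleyStructure.Elts.nG ht.inList (chevG2.simple ((1 : Fin 2) : ℕ)) 1 = _
  rw [Cfsg.Agent.ChevalleyStructure.Elts.nG_def, show chevG2.simple ((1 : Fin 2) : ℕ) = 6 from simple1,
    show chevG2.neg 6 = 5 from neg_lt (by norm_num), inv_one]
  rfl

/-- the torus elements -/
noncomputable def hh (K : Type) [Field K] (i : Fin 2) (c : K) : GK K :=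
  Cfsg.Agent.KFacts.MulOdd.InstChev.psiG ht K i (Cfsg.Agent.Nodes.RGDFoldSL.hS c)

theorem coe_hh (i : Fin 2) (c : K) : ((hh K i c : GK K) : GL chevG2.Idx K) =
    Cfsg.Agent.ChevalleyStructure.Elts.hG ht.inList (chevG2.simple i) c :=
  Cfsg.Agent.Nodes.RGDFoldSL.psi_hS ht.inList (Cfsg.Agent.ChevalleyStructure.NPerm.simple_lt ht.inList (lt_rank ht i)) c

theorem hh_0 (c : K) : hh K 0 c = xg 7 c * (xg 4 (-c⁻¹) * xg 7 c) * (xg 7 (-1) * (xg 4 1 * xg 7 (-1))) := by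
  apply Subtype.ext
  rw [coe_hh, Cfsg.Agent.ChevalleyStructure.Elts.hG_def, Cfsg.Agent.ChevalleyStructure.Elts.nG_def,
    Cfsg.Agent.ChevalleyStructure.Elts.nG_def, show chevG2.simple ((0 : Fin 2) : ℕ) = 7 from simple0,
    show chevG2.neg 7 = 4 from neg_lt (by norm_num), show -(-1 : K)⁻¹ = 1 by rw [inv_neg, inv_one, neg_neg]]
  rfl

theorem hh_1 (c : K) : hh K 1 c = xg 6 c * (xg 5 (-c⁻¹) * xg 6 c) * (xg 6 (-1) * (xg 5 1 * xg 6 (-1))) := by
  apply Subtype.ext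
  rw [coe_hh, Cfsg.Agent.ChevalleyStructure.Elts.hG_def, Cfsg.Agent.ChevalleyStructure.Elts.nG_def,
    Cfsg.Agent.ChevalleyStructure.Elts.nG_def, show chevG2.simple ((1 : Fin 2) : ℕ) = 6 from simple1,
    show chevG2.neg 6 = 5 from neg_lt (by norm_num), show -(-1 : K)⁻¹ = 1 by rw [inv_neg, inv_one, neg_neg]]
  rfl

/-- induction on the torus -/
theorem T_induction [Finite K] {P : GK K → Prop} (h1 : P 1) (hm : ∀ a b, P a → P b → P (a * b))
    (hi : ∀ (i : Fin 2) (c : K), c ≠ 0 → P (hh K i c)) {t : GK K} (htt : t ∈ T2 K) : P t := by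
  obtain ⟨p, hp⟩ := CharP.exists K
  haveI : Fact p.Prime := ⟨CharP.char_is_prime K p⟩
  have R := rgd2 (K := K) p
  have h2 := Cfsg.Agent.KFacts.MulOdd.Shrink.torus_le R gen2 htt
  unfold Cfsg.Agent.KFacts.MulOdd.Shrink.TT at h2
  refine Subgroup.iSup_induction _ (C := P) h2 (fun i x hx => ?_) h1 (fun a b => hm a b)
  obtain ⟨c, hc, e⟩ := (nd ht Cfsg.Agent.KFacts.MulOdd.InstChev.parity_G2 K i).exists_hS R (Subgroup.mem_inf.1 hx).1
    (Subgroup.mem_inf.1 hx).2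
  rw [e]
  exact hi i c hc

section a8

variable [Finite K]

theorem a8_mul (g h : GK K) (x : Fin 8 → K) : a8 K (g * h) x = a8 K g (a8 K h x) := by rw [map_mul]; rfl

theorem a8_n0 (x : Fin 8 → K) : a8 K (n2 K 0) x = ![x 7, -x 4, x 6, -x 5, -x 1, x 3, -x 2, x 0] := by
  rw [n2_0, a8_mul, a8_mul, a8_7, a8_4, a8_7]
  ext i
  fin_cases i <;> simp <;> ring

theorem a8_n1 (x : Fin 8 → K) : a8 K (n2 K 1) x = ![x 0, -x 2, x 1, x 3, -x 5, x 4, x 6, x 7] := by
  rw [n2_1, a8_mul, a8_mul, a8_6, a8_5, a8_6]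
  ext i
  fin_cases i <;> simp

theorem a8_na {c d : K} (hc : c ≠ 0) (hd : d = -c⁻¹) (x : Fin 8 → K) : a8 K (xg 7 c * (xg 4 d * xg 7 c)) x =
    ![x 7, -c ^ 2 * x 4, c⁻¹ * x 6, -c⁻¹ * x 5, -(c ^ 2)⁻¹ * x 1, c * x 3, -c * x 2, x 0] := by
  rw [a8_mul, a8_mul, a8_7, a8_4, a8_7, hd]
  ext i
  fin_cases i
  · simp; field_simp; ring
  · simp; field_simp; ring
  · simp; field_simp; ring
  · simp; field_simp; ring
  · simp; field_simp; ring
  · simp; field_simp; ring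
  · simp; field_simp; ring
  · simp; field_simp; ring

theorem a8_nb {c d : K} (hc : c ≠ 0) (hd : d = -c⁻¹) (x : Fin 8 → K) : a8 K (xg 6 c * (xg 5 d * xg 6 c)) x =
    ![x 0, -c⁻¹ * x 2, c * x 1, x 3, -c * x 5, c⁻¹ * x 4, x 6, x 7] := by
  rw [a8_mul, a8_mul, a8_6, a8_5, a8_6, hd]
  ext i
  fin_cases i
  · simp
  · simp; field_simp; ring
  · simp; field_simp; ring
  · simp
  · simp; field_simp; ring
  · simp; field_simp; ring
  · simp
  · simp

theorem a8_h0 {c : K} (hc : c ≠ 0) (x : Fin 8 → K) : a8 K (hh K 0 c) x =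
    ![x 0, c ^ 2 * x 1, c⁻¹ * x 2, c⁻¹ * x 3, (c ^ 2)⁻¹ * x 4, c * x 5, c * x 6, x 7] := by
  rw [hh_0, a8_mul, a8_na hc rfl, a8_na (neg_ne_zero.2 one_ne_zero) (by rw [inv_neg, inv_one, neg_neg])]
  ext i
  fin_cases i <;> simp

theorem a8_h1 {c : K} (hc : c ≠ 0) (x : Fin 8 → K) : a8 K (hh K 1 c) x =
    ![x 0, c⁻¹ * x 1, c * x 2, x 3, c * x 4, c⁻¹ * x 5, x 6, x 7] := by
  rw [hh_1, a8_mul, a8_nb hc rfl, a8_nb (neg_ne_zero.2 one_ne_zero) (by rw [inv_neg, inv_one, neg_neg])]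
  ext i
  fin_cases i <;> simp

end a8

/-! ### the coordinates `x1`, `x2` -/

/-- the highest vector in degree 8 -/
def e8 (K : Type) [Field K] : Fin 8 → K := Pi.single 6 1
/-- the top coordinate in degree 8 -/
def l8 (K : Type) [Field K] : (Fin 8 → K) →ₗ[K] K := LinearMap.proj 6
/-- the highest vector in degree 14 -/
def e14 (K : Type) [Field K] : chevG2.Idx → K := e (rv 11)
/-- the top coordinate in degree 14 -/
def l14 (K : Type) [Field K] : (chevG2.Idx → K) →ₗ[K] K := l (rv 11)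

theorem a14_mul (g h : GK K) (x : chevG2.Idx → K) : a14 K (g * h) x = a14 K g (a14 K h x) := by rw [map_mul]; rfl

theorem col_11 : ∀ r : Fin 12, (6 ≤ r.val ∨ r.val = 4) → col r (rv 11) = [(rv 11, 0, 1)] := by decide +kernel
theorem row_11 : ∀ r : Fin 12, (r.val < 6 ∨ r.val = 7) → row r (rv 11) = [(rv 11, 0, 1)] := by decide +kernel

theorem a14_pos {r : ℕ} (hr : r < 12) (h : 6 ≤ r ∨ r = 4) (t : K) : a14 K (xg r t) (e14 K) = e14 K := by
  have := a14_e (K := K) ⟨r, hr⟩ (rv 11) t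
  rw [col_11 ⟨r, hr⟩ h] at this
  unfold e14
  simpa using this

theorem a14_neg {r : ℕ} (hr : r < 12) (h : r < 6 ∨ r = 7) (t : K) (x : chevG2.Idx → K) :
    l14 K (a14 K (xg r t) x) = l14 K x := by
  have := a14_row (K := K) ⟨r, hr⟩ (rv 11) t
  rw [row_11 ⟨r, hr⟩ h] at this
  have h2 := LinearMap.congr_fun this x
  unfold l14
  simpa using h2

section a8

variable [Finite K]

theorem a8_pos {r : ℕ} (hr : r < 12) (h : 5 ≤ r) (t : K) : a8 K (xg r t) (e8 K) = e8 K := by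
  interval_cases r
  · rw [a8_5]; ext i; fin_cases i <;> simp [e8]
  · rw [a8_6]; ext i; fin_cases i <;> simp [e8]
  · rw [a8_7]; ext i; fin_cases i <;> simp [e8]
  · rw [a8_8]; ext i; fin_cases i <;> simp [e8]
  · rw [a8_9]; ext i; fin_cases i <;> simp [e8]
  · rw [a8_10]; ext i; fin_cases i <;> simp [e8]
  · rw [a8_11]; ext i; fin_cases i <;> simp [e8]

theorem a8_neg {r : ℕ} (h : r < 7) (t : K) (x : Fin 8 → K) : l8 K (a8 K (xg r t) x) = l8 K x := by
  interval_cases r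
  · rw [a8_0]; simp [l8]
  · rw [a8_1]; simp [l8]
  · rw [a8_2]; simp [l8]
  · rw [a8_3]; simp [l8]
  · rw [a8_4]; simp [l8]
  · rw [a8_5]; simp [l8]
  · rw [a8_6]; simp [l8]

/-- `θ(g)₆₆` -/
noncomputable def x1 (g : GK K) : K := l8 K (a8 K g (e8 K))

end a8

/-- `g₁₁,₁₁` -/
noncomputable def x2 (g : GK K) : K := l14 K (a14 K g (e14 K))

theorem x2_mul_pos {r : ℕ} (hr : r < 12) (h : 6 ≤ r) (t : K) (g : GK K) : x2 (g * xg r t) = x2 g := by
  unfold x2
  rw [a14_mul, a14_pos hr (Or.inl h)]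

theorem x2_neg_mul {r : ℕ} (h : r < 6) (t : K) (g : GK K) : x2 (xg r t * g) = x2 g := by
  unfold x2
  rw [a14_mul, a14_neg (by omega) (Or.inl h)]

theorem x2_n0_mul (g : GK K) : x2 (n2 K 0 * g) = x2 g := by
  unfold x2
  rw [n2_0, a14_mul, a14_mul, a14_mul, a14_neg (by norm_num) (Or.inr rfl), a14_neg (by norm_num) (Or.inl (by norm_num)),
    a14_neg (by norm_num) (Or.inr rfl)]

section a8

variable [Finite K]

theorem x1_mul_pos {r : ℕ} (hr : r < 12) (h : 6 ≤ r) (t : K) (g : GK K) : x1 (g * xg r t) = x1 g := by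
  unfold x1
  rw [a8_mul, a8_pos hr (by omega)]

theorem x1_neg_mul {r : ℕ} (h : r < 6) (t : K) (g : GK K) : x1 (xg r t * g) = x1 g := by
  unfold x1
  rw [a8_mul, a8_neg (by omega)]

theorem x1_n1_mul (g : GK K) : x1 (n2 K 1 * g) = x1 g := by
  unfold x1
  rw [n2_1, a8_mul, a8_mul, a8_mul, a8_neg (by norm_num), a8_neg (by norm_num), a8_neg (by norm_num)]

end a8

/-! ### the torus -/

/-- diagonal elements -/
theorem a14_hh (i : Fin 2) {c : K} (hc : c ≠ 0) (x : chevG2.Idx → K) : a14 K (hh K i c) x = fun s =>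
    (Sum.elim (fun _ => (1 : K)) (fun s : Fin chevG2.nroots =>
      c ^ Cfsg.Agent.ChevalleyStructure.HMatDiagAll.expo chevG2 (chevG2.simple i) s.val)) s * x s := by
  rw [a14_apply, coe_hh, Cfsg.Agent.ChevalleyStructure.Elts.coe_hG,
    Cfsg.Agent.ChevalleyStructure.HMatDiagAll.hMat_eq_diagonal ht.inList
      (Cfsg.Agent.ChevalleyStructure.NPerm.simple_lt ht.inList (lt_rank ht i)) hc]
  funext s
  exact Matrix.mulVec_diagonal _ _ _

theorem expo_0 : Cfsg.Agent.ChevalleyStructure.HMatDiagAll.expo chevG2 (chevG2.simple 0) 11 = 0 := by decide +kernel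
theorem expo_1 : Cfsg.Agent.ChevalleyStructure.HMatDiagAll.expo chevG2 (chevG2.simple 1) 11 = 1 := by decide +kernel

/-- the torus in degree 14 -/
theorem T14 [Finite K] {t : GK K} (htt : t ∈ T2 K) : ∃ c : K, c ≠ 0 ∧ a14 K t (e14 K) = c • e14 K ∧
    ∀ x, l14 K (a14 K t x) = c * l14 K x := by
  refine T_induction (P := fun t => ∃ c : K, c ≠ 0 ∧ a14 K t (e14 K) = c • e14 K ∧
    ∀ x, l14 K (a14 K t x) = c * l14 K x) ⟨1, one_ne_zero, ?_, fun x => ?_⟩ ?_ ?_ htt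
  · rw [map_one, one_smul]; rfl
  · rw [map_one, one_mul]; rfl
  · rintro a b ⟨c, hc, h1, h2⟩ ⟨d, hd, h3, h4⟩
    refine ⟨c * d, mul_ne_zero hc hd, ?_, fun x => ?_⟩
    · rw [a14_mul, h3, map_smul, h1, smul_smul, mul_comm]
    · rw [a14_mul, h2, h4, mul_assoc]
  · intro i c hc
    refine ⟨c ^ Cfsg.Agent.ChevalleyStructure.HMatDiagAll.expo chevG2 (chevG2.simple i) 11, zpow_ne_zero _ hc, ?_, fun x => ?_⟩
    · rw [a14_hh i hc]
      funext s
      by_cases hs : s = rv 11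
      · subst hs
        simp [e14, e, rv]
        rfl
      · simp [e14, e, Pi.single_eq_of_ne hs]
    · rw [a14_hh i hc]
      rfl

theorem x2_hh (i : Fin 2) {c : K} (hc : c ≠ 0) : x2 (hh K i c) = if i = 1 then c else 1 := by
  have h1 : x2 (hh K i c) = c ^ Cfsg.Agent.ChevalleyStructure.HMatDiagAll.expo chevG2 (chevG2.simple i) 11 := by
    unfold x2
    rw [a14_hh i hc]
    change _ * (e14 K) (rv 11) = _
    simp [e14, e]
    rfl
  rw [h1]
  fin_cases i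
  · change c ^ Cfsg.Agent.ChevalleyStructure.HMatDiagAll.expo chevG2 (chevG2.simple 0) 11 = _
    rw [expo_0]
    simp
  · change c ^ Cfsg.Agent.ChevalleyStructure.HMatDiagAll.expo chevG2 (chevG2.simple 1) 11 = _
    rw [expo_1]
    simp

section a8

variable [Finite K]

/-- the torus in degree 8 -/
theorem T8 {t : GK K} (htt : t ∈ T2 K) : ∃ d : Fin 8 → K, (∀ j, d j ≠ 0) ∧ ∀ x, a8 K t x = fun j => d j * x j := by
  refine T_induction (P := fun t => ∃ d : Fin 8 → K, (∀ j, d j ≠ 0) ∧ ∀ x, a8 K t x = fun j => d j * x j)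
    ⟨1, fun _ => one_ne_zero, fun x => ?_⟩ ?_ ?_ htt
  · rw [map_one]
    funext j
    rw [Pi.one_apply, one_mul]
    rfl
  · rintro a b ⟨c, hc, h1⟩ ⟨d, hd, h2⟩
    refine ⟨c * d, fun j => mul_ne_zero (hc j) (hd j), fun x => ?_⟩
    rw [a8_mul, h2, h1]
    funext j
    rw [Pi.mul_apply, mul_assoc]
  · intro i c hc
    fin_cases i
    · refine ⟨![1, c ^ 2, c⁻¹, c⁻¹, (c ^ 2)⁻¹, c, c, 1], fun j => ?_, fun x => ?_⟩
      · fin_cases j <;> simp [hc]
      · change a8 K (hh K 0 c) x = _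
        rw [a8_h0 hc]
        funext j
        fin_cases j <;> simp
    · refine ⟨![1, c⁻¹, c, 1, c, c⁻¹, 1, 1], fun j => ?_, fun x => ?_⟩
      · fin_cases j <;> simp [hc]
      · change a8 K (hh K 1 c) x = _
        rw [a8_h1 hc]
        funext j
        fin_cases j <;> simp

theorem T8' {t : GK K} (htt : t ∈ T2 K) : ∃ c : K, c ≠ 0 ∧ a8 K t (e8 K) = c • e8 K ∧
    ∀ x, l8 K (a8 K t x) = c * l8 K x := by
  obtain ⟨d, hd, h⟩ := T8 htt
  refine ⟨d 6, hd 6, ?_, fun x => ?_⟩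
  · rw [h]
    funext j
    by_cases hj : j = 6
    · subst hj; simp [e8]
    · simp [e8, Pi.single_eq_of_ne hj]
  · rw [h]; rfl

theorem x1_hh (i : Fin 2) {c : K} (hc : c ≠ 0) : x1 (hh K i c) = if i = 0 then c else 1 := by
  unfold x1
  fin_cases i
  · change l8 K (a8 K (hh K 0 c) (e8 K)) = _
    rw [a8_h0 hc]
    simp [l8, e8]
  · change l8 K (a8 K (hh K 1 c) (e8 K)) = _
    rw [a8_h1 hc]
    simp [l8, e8]

theorem x1_one : x1 (1 : GK K) = 1 := by
  unfold x1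
  rw [map_one]
  simp [l8, e8]

theorem x1_T_mul {t : GK K} (htt : t ∈ T2 K) (g : GK K) : x1 (t * g) = x1 t * x1 g := by
  obtain ⟨c, -, h1, h2⟩ := T8' htt
  unfold x1
  rw [a8_mul, h2, h1, map_smul, smul_eq_mul]
  simp [l8, e8]

theorem x1_mul_T {t : GK K} (htt : t ∈ T2 K) (g : GK K) : x1 (g * t) = x1 g * x1 t := by
  obtain ⟨c, -, h1, h2⟩ := T8' htt
  unfold x1
  rw [a8_mul, h1, map_smul, map_smul, map_smul, smul_eq_mul, smul_eq_mul]
  simp [l8, e8, mul_comm]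

theorem x2_one : x2 (1 : GK K) = 1 := by
  unfold x2
  rw [map_one]
  simp [l14, e14, l_e]

theorem x2_T_mul {t : GK K} (htt : t ∈ T2 K) (g : GK K) : x2 (t * g) = x2 t * x2 g := by
  obtain ⟨c, -, h1, h2⟩ := T14 htt
  unfold x2
  rw [a14_mul, h2, h1, map_smul, smul_eq_mul]
  simp [l14, e14, l_e]

theorem x2_mul_T {t : GK K} (htt : t ∈ T2 K) (g : GK K) : x2 (g * t) = x2 g * x2 t := by
  obtain ⟨c, -, h1, h2⟩ := T14 htt
  unfold x2
  rw [a14_mul, h1, map_smul, map_smul, map_smul, smul_eq_mul, smul_eq_mul]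
  simp [l14, e14, l_e, mul_comm]

end a8

end Cfsg.Agent.H927.G2
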