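import Cfsg.Agent.H927.G2Co

/-!
# The coefficient of a simple module of `G₂(K)`: the Weyl group (helper927)
-/

set_option autoImplicit false
set_option linter.unusedSectionVars false
set_option linter.style.haveILetI false

namespace Cfsg.Agent.H927.G2

open Cfsg.Lie Matrix Cfsg.Agent.H638.G2Rep Cfsg.Agent.H638.G2Mem
open Cfsg.Agent.H638
open CoxeterSystem Cfsg.Agent.ChevalleyStructure.CoxeterGeom Cfsg.Agent.Tits.Roots Cfsg.Agent.Tits.Core
  Cfsg.Agent.Tits.Exchange Cfsg.Agent.Nodes.Reps Cfsg.Agent.Nodes.BNOf Cfsg.Agent.Nodes.StabComb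
  Cfsg.Agent.Nodes.Bruhat Cfsg.Agent.Nodes.OppDec Cfsg.Agent.Nodes.LeviDec Cfsg.Agent.KFacts.RgdOpp
  Cfsg.Agent.Omega.CR Cfsg.Agent.Omega.FOne.Lift.Sd Cfsg.Agent.Nodes.RGDLib
open Cfsg.Agent.H905.Md Cfsg.Agent.H64.CrossChev Cfsg.Agent.Nodes.RGDChev
open Cfsg.Agent.ChevalleyStructure.G2Perm (HasPerm wP hasPerm_n_one)

variable {K : Type} [Field K]

/-! ### the Weyl group on `ℤ²` -/

/-- the Cartan matrix -/
theorem cartan_val : ∀ i j : Fin 2, Cfsg.Agent.ChevalleyStructure.CoxeterGeomTypes.cartanOf chevG2 2 i j =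
    ((![![2, -3], ![-1, 2]] : Fin 2 → Fin 2 → ℤ) i j) := by decide +kernel

/-- the invariant form -/
def bf (x y : Fin 2 → ℤ) : ℤ := 2 * x 0 * y 0 - 3 * x 0 * y 1 - 3 * x 1 * y 0 + 6 * x 1 * y 1

theorem rep0 (x : Fin 2 → ℤ) : rep cs2 hc2 (cs2.simple 0) x = ![-x 0 + 3 * x 1, x 1] := by
  rw [rep_simple_eq]
  funext j
  unfold pairing
  rw [Fin.sum_univ_two, cartan_val, cartan_val]
  fin_cases j
  · simp [sr]; ring
  · simp [sr]

theorem rep1 (x : Fin 2 → ℤ) : rep cs2 hc2 (cs2.simple 1) x = ![x 0, x 0 - x 1] := by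
  rw [rep_simple_eq]
  funext j
  unfold pairing
  rw [Fin.sum_univ_two, cartan_val, cartan_val]
  fin_cases j
  · simp [sr]
  · simp [sr]; ring

theorem bf_rep (w : CoxeterMatrix.G₂.Group) (x y : Fin 2 → ℤ) : bf (rep cs2 hc2 w x) (rep cs2 hc2 w y) = bf x y := by
  obtain ⟨ω, rfl⟩ := cs2.wordProd_surjective w
  induction ω generalizing x y with
  | nil => rw [wordProd_nil, map_one]; rfl
  | cons i ω ih =>
    rw [wordProd_cons, rep_mul_apply, rep_mul_apply]
    refine Eq.trans ?_ (ih x y)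
    generalize rep cs2 hc2 (cs2.wordProd ω) x = x'
    generalize rep cs2 hc2 (cs2.wordProd ω) y = y'
    fin_cases i
    · change bf (rep cs2 hc2 (cs2.simple 0) x') (rep cs2 hc2 (cs2.simple 0) y') = _
      rw [rep0, rep0]
      simp [bf]
      ring
    · change bf (rep cs2 hc2 (cs2.simple 1) x') (rep cs2 hc2 (cs2.simple 1) y') = _
      rw [rep1, rep1]
      simp [bf]
      ring

theorem coord0_of_fix {w : CoxeterMatrix.G₂.Group} (h : rep cs2 hc2 w ![2, 1] = ![2, 1]) (x : Fin 2 → ℤ) :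
    rep cs2 hc2 w x 0 = x 0 := by
  have h1 := bf_rep w x ![2, 1]
  rw [h] at h1
  simp [bf] at h1
  linarith

theorem coord1_of_fix {w : CoxeterMatrix.G₂.Group} (h : rep cs2 hc2 w ![3, 2] = ![3, 2]) (x : Fin 2 → ℤ) :
    rep cs2 hc2 w x 1 = x 1 := by
  have h1 := bf_rep w x ![3, 2]
  rw [h] at h1
  simp [bf] at h1
  linarith

/-! ### the monomial elements in degree 14 -/

theorem nG_eq (r : ℕ) : Cfsg.Agent.ChevalleyStructure.Elts.nG ht.inList r (1 : K) =
    Cfsg.Agent.ChevalleyStructure.G2N.nG r (1 : K) := by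
  apply Units.ext
  rw [Cfsg.Agent.ChevalleyStructure.Elts.coe_nG, Cfsg.Agent.ChevalleyStructure.G2N.coe_nG]

/-- the vector of a root index -/
abbrev rt2 (s : Fin 12) : Fin 2 → ℤ := vec chevG2 2 s.val

theorem rt_tab : ∀ s : Fin 12, ∀ i : Fin 2, rt2 s i = ((![![-3, -2], ![-3, -1], ![-2, -1], ![-1, -1], ![-1, 0], ![0, -1],
    ![0, 1], ![1, 0], ![1, 1], ![2, 1], ![3, 1], ![3, 2]] : Fin 12 → Fin 2 → ℤ) s i) := by decide +kernel

theorem wP_tab0 : ∀ s : Fin 12, ∀ i : Fin 2, rt2 (wP 7 s) i = (![-(rt2 s 0) + 3 * rt2 s 1, rt2 s 1] : Fin 2 → ℤ) i := by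
  decide +kernel

theorem wP_tab1 : ∀ s : Fin 12, ∀ i : Fin 2, rt2 (wP 6 s) i = (![rt2 s 0, rt2 s 0 - rt2 s 1] : Fin 2 → ℤ) i := by
  decide +kernel

theorem hasPerm_n2 (i : Fin 2) : ∃ π : Equiv.Perm (Fin 12), HasPerm ((n2 K i : GK K) : GL chevG2.Idx K) π ∧
    ∀ s, rt2 (π s) = rep cs2 hc2 (cs2.simple i) (rt2 s) := by
  fin_cases i
  · refine ⟨wP 7, ?_, fun s => ?_⟩
    · have := hasPerm_n_one (F := K) 7
      change HasPerm (Cfsg.Agent.ChevalleyStructure.Elts.nG ht.inList (chevG2.simple 0) 1) _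
      rw [simple0, nG_eq]
      exact this
    · change _ = rep cs2 hc2 (cs2.simple 0) (rt2 s)
      rw [rep0]
      exact funext (wP_tab0 s)
  · refine ⟨wP 6, ?_, fun s => ?_⟩
    · have := hasPerm_n_one (F := K) 6
      change HasPerm (Cfsg.Agent.ChevalleyStructure.Elts.nG ht.inList (chevG2.simple 1) 1) _
      rw [simple1, nG_eq]
      exact this
    · change _ = rep cs2 hc2 (cs2.simple 1) (rt2 s)
      rw [rep1]
      exact funext (wP_tab1 s)

section fin

variable [Finite K] {p : ℕ} [Fact p.Prime] [CharP K p]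

theorem exists_perm {w : CoxeterMatrix.G₂.Group} {g : GK K} (hg : Rp cs2 (rgd2 (K := K) p).nsys w g) :
    ∃ π : Equiv.Perm (Fin 12), HasPerm (g : GL chevG2.Idx K) π ∧ ∀ s, rt2 (π s) = rep cs2 hc2 w (rt2 s) := by
  obtain ⟨ω, rfl⟩ := cs2.wordProd_surjective w
  induction ω generalizing g with
  | nil =>
    rw [wordProd_nil] at hg
    have h1 : g ∈ T2 K := hg.mem_of_one
    exact ⟨1, Cfsg.Agent.ChevalleyStructure.G2Mono.hasPerm_of_mem_diagonal (Subgroup.mem_subgroupOf.1 h1), fun s => by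
      rw [wordProd_nil, map_one]; rfl⟩
  | cons i ω ih =>
    rw [wordProd_cons] at hg
    have h1 := (rp_simple cs2 (rgd2 (K := K) p).nsys i).inv.mul hg
    rw [inv_mul_cancel_left] at h1
    obtain ⟨π, h2, h3⟩ := ih h1
    obtain ⟨π', h4, h5⟩ := hasPerm_n2 (K := K) i
    refine ⟨π' * π, ?_, fun s => ?_⟩
    · have h6 := h4.mul h2
      have e : ((n2 K i : GK K) : GL chevG2.Idx K) * (((n2 K i)⁻¹ * g : GK K) : GL chevG2.Idx K) = g := by
        rw [← Subgroup.coe_mul, mul_inv_cancel_left]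
      rwa [e] at h6
    · rw [Equiv.Perm.mul_apply, h5, h3, wordProd_cons, rep_mul_apply]

theorem fix_of_x2 {w : CoxeterMatrix.G₂.Group} {g : GK K} (hg : Rp cs2 (rgd2 (K := K) p).nsys w g) (hne : x2 g ≠ 0)
    (x : Fin 2 → ℤ) : rep cs2 hc2 w x 1 = x 1 := by
  obtain ⟨π, h1, h2⟩ := exists_perm hg
  obtain ⟨c, hc, h3⟩ := h1 11
  have h4 : x2 g = if rv 11 = rv (π 11) then c else 0 := by
    have h5 : x2 g = ((g : GL chevG2.Idx K) : Matrix chevG2.Idx chevG2.Idx K) (rv 11) (rv 11) := by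
      unfold x2 l14 e14
      rw [l_apply, a14_apply, e, Matrix.mulVec_single_one]
      rfl
    rw [h5]
    exact h3 (rv 11)
  have h5 : (11 : Fin 12) = π 11 := by
    by_contra h6
    apply hne
    rw [h4, if_neg]
    intro h7
    exact h6 (Sum.inr_injective h7)
  refine coord1_of_fix ?_ x
  have h6 := h2 11
  rw [← h5] at h6
  have h7 : rt2 11 = ![3, 2] := funext fun i => by rw [rt_tab]; rfl
  rw [h7] at h6
  exact h6.symm

/-- the weights in degree 8 -/
def w8 : Fin 8 → Fin 2 → ℤ := ![![0, 0], ![1, 0], ![1, 1], ![-2, -1], ![-1, 0], ![-1, -1], ![2, 1], ![0, 0]]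

theorem exists_w8 {w : CoxeterMatrix.G₂.Group} {g : GK K} (hg : Rp cs2 (rgd2 (K := K) p).nsys w g) {j : Fin 8}
    (hj : j ≠ 0 ∧ j ≠ 7) : ∃ j' : Fin 8, (j' ≠ 0 ∧ j' ≠ 7) ∧ w8 j' = rep cs2 hc2 w (w8 j) ∧ ∃ c : K,
      a8 K g (Pi.single j 1) = c • Pi.single j' 1 := by
  obtain ⟨ω, rfl⟩ := cs2.wordProd_surjective w
  induction ω generalizing g with
  | nil =>
    rw [wordProd_nil] at hg
    obtain ⟨d, -, h⟩ := T8 (K := K) (t := g) hg.mem_of_one
    refine ⟨j, hj, ?_, d j, ?_⟩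
    · rw [wordProd_nil, map_one]; rfl
    · rw [h]
      funext i
      by_cases hi : i = j
      · subst hi; simp
      · simp [Pi.single_eq_of_ne hi]
  | cons i ω ih =>
    rw [wordProd_cons] at hg
    have h1 := (rp_simple cs2 (rgd2 (K := K) p).nsys i).inv.mul hg
    rw [inv_mul_cancel_left] at h1
    obtain ⟨j', hj', h2, c, h3⟩ := ih h1
    have e : g = n2 K i * ((n2 K i)⁻¹ * g) := by rw [mul_inv_cancel_left]
    have key : ∃ j'' : Fin 8, (j'' ≠ 0 ∧ j'' ≠ 7) ∧ w8 j'' = rep cs2 hc2 (cs2.simple i) (w8 j') ∧ ∃ c : K,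
        a8 K (n2 K i) (Pi.single j' 1) = c • Pi.single j'' 1 := by
      clear h2 h3 h1 hg ih e
      fin_cases i
      · change ∃ j'' : Fin 8, (j'' ≠ 0 ∧ j'' ≠ 7) ∧ w8 j'' = rep cs2 hc2 (cs2.simple 0) (w8 j') ∧ ∃ c : K,
          a8 K (n2 K 0) (Pi.single j' 1) = c • Pi.single j'' 1
        rw [rep0, a8_n0]
        fin_cases j'
        · exact absurd rfl hj'.1
        · exact ⟨4, by decide, by decide, -1, by funext i; fin_cases i <;> simp⟩
        · exact ⟨6, by decide, by decide, -1, by funext i; fin_cases i <;> simp⟩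
        · exact ⟨5, by decide, by decide, 1, by funext i; fin_cases i <;> simp⟩
        · exact ⟨1, by decide, by decide, -1, by funext i; fin_cases i <;> simp⟩
        · exact ⟨3, by decide, by decide, -1, by funext i; fin_cases i <;> simp⟩
        · exact ⟨2, by decide, by decide, 1, by funext i; fin_cases i <;> simp⟩
        · exact absurd rfl hj'.2
      · change ∃ j'' : Fin 8, (j'' ≠ 0 ∧ j'' ≠ 7) ∧ w8 j'' = rep cs2 hc2 (cs2.simple 1) (w8 j') ∧ ∃ c : K,
          a8 K (n2 K 1) (Pi.single j' 1) = c • Pi.single j'' 1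
        rw [rep1, a8_n1]
        fin_cases j'
        · exact absurd rfl hj'.1
        · exact ⟨2, by decide, by decide, 1, by funext i; fin_cases i <;> simp⟩
        · exact ⟨1, by decide, by decide, -1, by funext i; fin_cases i <;> simp⟩
        · exact ⟨3, by decide, by decide, 1, by funext i; fin_cases i <;> simp⟩
        · exact ⟨5, by decide, by decide, 1, by funext i; fin_cases i <;> simp⟩
        · exact ⟨4, by decide, by decide, -1, by funext i; fin_cases i <;> simp⟩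
        · exact ⟨6, by decide, by decide, 1, by funext i; fin_cases i <;> simp⟩
        · exact absurd rfl hj'.2
    obtain ⟨j'', hj'', h4, c', h5⟩ := key
    refine ⟨j'', hj'', ?_, c * c', ?_⟩
    · rw [wordProd_cons, rep_mul_apply, ← h2, h4]
    · rw [e, a8_mul, h3, map_smul, h5, smul_smul]

theorem fix_of_x1 {w : CoxeterMatrix.G₂.Group} {g : GK K} (hg : Rp cs2 (rgd2 (K := K) p).nsys w g) (hne : x1 g ≠ 0)
    (x : Fin 2 → ℤ) : rep cs2 hc2 w x 0 = x 0 := by
  obtain ⟨j', hj', h1, c, h2⟩ := exists_w8 hg (j := 6) (by decide)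
  have h3 : j' = 6 := by
    by_contra h4
    apply hne
    unfold x1 e8 l8
    rw [h2, map_smul, LinearMap.proj_apply, Pi.single_eq_of_ne (Ne.symm h4), smul_zero]
  subst h3
  exact coord0_of_fix h1.symm x

end fin

end Cfsg.Agent.H927.G2
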