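import Cfsg.Agent.H927.G2Co2

/-!
# The coefficient of a simple module of `G₂(K)` (helper927)

`exists_coef` : `φ (ρ g v) = Fa (x1 g) * Fb (x2 g)`.
-/

set_option autoImplicit false
set_option linter.unusedSectionVars false
set_option linter.style.haveILetI false

namespace Cfsg.Agent.H927.G2

open Cfsg.Lie Matrix Cfsg.Agent.H638.G2Rep Cfsg.Agent.H638.G2Mem
open Cfsg.Agent.H638
open CoxeterSystem Cfsg.Agent.ChevalleyStructure.CoxeterGeom Cfsg.Agent.Tits.Roots Cfsg.Agent.Tits.Core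
  Cfsg.Agent.Tits.Exchange Cfsg.Agent.Nodes.Reps Cfsg.Agent.Nodes.BNOf Cfsg.Agent.Nodes.StabComb
  Cfsg.Agent.Nodes.Bruhat Cfsg.Agent.Nodes.OppDec Cfsg.Agent.Nodes.LeviDec Cfsg.Agent.KFacts.RgdOpp
  Cfsg.Agent.Omega.CR Cfsg.Agent.Omega.FOne.Lift.Sd Cfsg.Agent.Nodes.RGDLib
open Cfsg.Agent.H905.Md Cfsg.Agent.H64.CrossChev Cfsg.Agent.Nodes.RGDChev
open Module

variable {K : Type} [Field K]

theorem T2_comm : ∀ s ∈ T2 K, ∀ t ∈ T2 K, s * t = t * s := by
  intro s hs t htt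
  obtain ⟨χ, h1⟩ := Cfsg.Agent.ChevalleyStructure.HMatDiagAll.mem_torus.1
    (Cfsg.Agent.ChevalleyStructure.HMatDiagAll.diagonalSubgroup_le_torus ht.inList (Subgroup.mem_subgroupOf.1 hs))
  obtain ⟨ψ, h2⟩ := Cfsg.Agent.ChevalleyStructure.HMatDiagAll.mem_torus.1
    (Cfsg.Agent.ChevalleyStructure.HMatDiagAll.diagonalSubgroup_le_torus ht.inList (Subgroup.mem_subgroupOf.1 htt))
  apply Subtype.ext
  apply Units.ext
  rw [Subgroup.coe_mul, Subgroup.coe_mul, Units.val_mul, Units.val_mul, h1, h2, Matrix.diagonal_mul_diagonal,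
    Matrix.diagonal_mul_diagonal]
  congr 1
  funext i
  exact mul_comm _ _

theorem hS_mul {a b : K} (ha : a ≠ 0) (hb : b ≠ 0) : Cfsg.Agent.Nodes.RGDFoldSL.hS (a * b) =
    Cfsg.Agent.Nodes.RGDFoldSL.hS a * Cfsg.Agent.Nodes.RGDFoldSL.hS b := by
  apply Subtype.ext
  rw [Matrix.SpecialLinearGroup.coe_mul, Cfsg.Agent.Nodes.RGDFoldSL.coe_hS ha, Cfsg.Agent.Nodes.RGDFoldSL.coe_hS hb,
    Cfsg.Agent.Nodes.RGDFoldSL.coe_hS (mul_ne_zero ha hb)]
  ext i j
  fin_cases i <;> fin_cases j <;> simp [Matrix.mul_apply, Fin.sum_univ_two, mul_comm]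

theorem hh_mul (i : Fin 2) {a b : K} (ha : a ≠ 0) (hb : b ≠ 0) : hh K i (a * b) = hh K i a * hh K i b := by
  unfold hh
  rw [hS_mul ha hb, map_mul]

theorem hh_mem (i : Fin 2) {c : K} (hc : c ≠ 0) : hh K i c ∈ T2 K :=
  (nd ht Cfsg.Agent.KFacts.MulOdd.InstChev.parity_G2 K i).dia c hc

theorem hh_mem' [Finite K] {p : ℕ} [Fact p.Prime] [CharP K p] (i : Fin 2) (c : K) :
    hh K i c ∈ X2 K (sr i) ⊔ X2 K (-sr i) := by
  rw [← (nd ht Cfsg.Agent.KFacts.MulOdd.InstChev.parity_G2 K i).range (rgd2 (K := K) p)]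
  exact ⟨_, rfl⟩

theorem mem_X2 {r : ℕ} (hr : r < 12) {u : GK K} : u ∈ X2 K (vec chevG2 2 r) ↔ ∃ t, u = xg r t := by
  rw [Subgroup.mem_subgroupOf, XV_vec ht K hr, Cfsg.Agent.ChevalleyStructure.Elts.mem_rootSubgroup_iff ht.inList]
  constructor
  · rintro ⟨t, h⟩
    exact ⟨t, Subtype.ext h⟩
  · rintro ⟨t, rfl⟩
    exact ⟨t, rfl⟩

theorem pos_tab : ∀ s : Fin 12, (0 ≤ rt2 s 0 ∧ 0 ≤ rt2 s 1) → 6 ≤ s.val := by decide +kernel

theorem exists_of_pos {x : Fin 2 → ℤ} (hx : RGD.Pos cs2 hc2 x) : ∃ r, 6 ≤ r ∧ r < 12 ∧ vec chevG2 2 r = x ∧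
    vec chevG2 2 (11 - r) = -x := by
  obtain ⟨r, hr, e⟩ := (isRoot_iff ht cs2 x).1 hx.1
  have hr' : r < 12 := hr
  refine ⟨r, ?_, hr', e, ?_⟩
  · refine pos_tab ⟨r, hr'⟩ ⟨?_, ?_⟩
    · change 0 ≤ vec chevG2 2 r 0
      rw [e]; exact hx.2 0
    · change 0 ≤ vec chevG2 2 r 1
      rw [e]; exact hx.2 1
  · rw [← e, ← vec_neg ht hr, neg_lt hr']

section coef

variable [Finite K] {p : ℕ} [hp : Fact p.Prime] [CharP K p]
  {k V : Type*} [Field k] [IsAlgClosed k] [CharP k p] [AddCommGroup V] [Module k V] [FiniteDimensional k V] [Nontrivial V]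
  {ρ : GK K →* Module.End k V}
  (hirr : ∀ L : Submodule k V, Ivt ρ (GG cs2 hc2 (T2 K) (X2 K)) L → L = ⊥ ∨ L = ⊤)

include hirr in
/-- **The coefficient.** -/
theorem exists_coef (p : ℕ) [hp : Fact p.Prime] [CharP K p] [CharP k p] :
    ∃ v ∈ D cs2 hc2 (X2 K) ρ, ∃ φ ∈ fx (dualRep ρ) (UN cs2 hc2 (X2 K)), φ v = 1 ∧
    ∃ F : Fin 2 → K →* k, (∀ i, i ∈ Jx cs2 hc2 (X2 K) ρ → F i = 1) ∧ (∀ i, i ∉ Jx cs2 hc2 (X2 K) ρ → F i 0 = 0) ∧
      (∀ g, φ (ρ g v) = F 0 (x1 g) * F 1 (x2 g)) ∧ ∀ t ∈ T2 K, ρ t v = φ (ρ t v) • v := by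
  classical
  have R := rgd2 (K := K) p
  obtain ⟨v, hv, hv0, χ, hχ⟩ := exists_chi R hirr T2_comm
  obtain ⟨φ, hφ, hφ0⟩ := exists_pair_D R hirr hv hv0
  have h4 : ((φ v)⁻¹ • φ) v = 1 := by rw [LinearMap.smul_apply, smul_eq_mul, inv_mul_cancel₀ hφ0]
  have hval : ∀ {a b : k}, a • v = b • v → a = b := fun {a b} h => smul_left_injective k hv0 h
  have hχm : ∀ s ∈ T2 K, ∀ t ∈ T2 K, χ (s * t) = χ s * χ t := by
    intro s hs t htt
    apply hval
    rw [← hχ _ (mul_mem hs htt), rho_mul, hχ t htt, map_smul, hχ s hs, smul_smul, mul_comm]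
  have hχ1 : χ 1 = 1 := by
    apply hval
    rw [← hχ _ (one_mem _), map_one, one_smul]; rfl
  -- elements of the rank one groups of `J` fix `v`
  have hJfix : ∀ i ∈ Jx cs2 hc2 (X2 K) ρ, ∀ g ∈ X2 K (sr i) ⊔ X2 K (-sr i), ρ g v = v := by
    intro i hi g hg
    have h5 : X2 K (sr i) ⊔ X2 K (-sr i) ≤
        { carrier := {g | ρ g v = v}
          mul_mem' := fun {a b} ha hb => by
            change ρ (a * b) v = v
            rw [rho_mul, hb, ha]
          one_mem' := by change ρ 1 v = v; rw [map_one]; rfl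
          inv_mem' := fun {a} ha => by
            change ρ a⁻¹ v = v
            have ha' : ρ a v = v := ha
            conv_lhs => rw [← ha']
            rw [← rho_mul, inv_mul_cancel, map_one]; rfl : Subgroup (GK K)} := by
      refine sup_le (fun g hg => ?_) (fun g hg => ?_)
      · have h0 : sr i ∈ RGD.Pos cs2 hc2 := ⟨isRoot_sr cs2 hc2 i, by
          intro j
          by_cases hj : j = i
          · subst hj; rw [sr_self]; norm_num
          · rw [sr_ne hj]; exact le_refl _⟩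
        exact hv g ((show X2 K (sr i) ≤ RGD.Sup (X2 K) (RGD.Pos cs2 hc2) from RGD.le_Sup h0) hg)
      · exact hi g hg v hv
    exact h5 hg
  let F : Fin 2 → K →* k := fun i => if hi : i ∈ Jx cs2 hc2 (X2 K) ρ then 1 else
    { toFun := fun c => if c = 0 then 0 else χ (hh K i c)
      map_one' := by
        rw [if_neg one_ne_zero]
        have h5 : hh K i (1 : K) = 1 := by
          have h6 := hh_mul i (one_ne_zero (α := K)) one_ne_zero
          rw [mul_one] at h6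
          exact (mul_eq_left.1 h6.symm)
        rw [h5, hχ1]
      map_mul' := fun a b => by
        by_cases ha : a = 0
        · rw [if_pos ha, ha, zero_mul, if_pos rfl, zero_mul]
        · by_cases hb : b = 0
          · rw [if_pos hb, hb, mul_zero, if_pos rfl, mul_zero]
          · rw [if_neg ha, if_neg hb, if_neg (mul_ne_zero ha hb), hh_mul i ha hb,
              hχm _ (hh_mem i ha) _ (hh_mem i hb)] }
  have hF1 : ∀ i, i ∈ Jx cs2 hc2 (X2 K) ρ → F i = 1 := fun i hi => by simp only [F]; rw [dif_pos hi]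
  have hF0 : ∀ i, i ∉ Jx cs2 hc2 (X2 K) ρ → ∀ c, F i c = if c = 0 then 0 else χ (hh K i c) := fun i hi c => by
    simp only [F]; rw [dif_neg hi]; rfl
  have hF : ∀ i, ∀ c, c ≠ 0 → F i c = χ (hh K i c) := by
    intro i c hc
    by_cases hi : i ∈ Jx cs2 hc2 (X2 K) ρ
    · rw [hF1 i hi]
      apply hval
      rw [← hχ _ (hh_mem i hc), hJfix i hi _ (hh_mem' (p := p) i c), MonoidHom.one_apply, one_smul]
    · rw [hF0 i hi, if_neg hc]
  let Ξ : GK K → k := fun g => F 0 (x1 g) * F 1 (x2 g)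
  have hTl : ∀ t ∈ T2 K, ∀ g, Ξ (t * g) = Ξ t * Ξ g := by
    intro t htt g
    simp only [Ξ]
    rw [x1_T_mul htt, x2_T_mul htt, map_mul, map_mul]
    ring
  have hTr : ∀ t ∈ T2 K, ∀ g, Ξ (g * t) = Ξ g * Ξ t := by
    intro t htt g
    simp only [Ξ]
    rw [x1_mul_T htt, x2_mul_T htt, map_mul, map_mul]
    ring
  have hΞ1 : Ξ 1 = 1 := by
    simp only [Ξ]
    rw [x1_one, x2_one, map_one, map_one, one_mul]
  have hχ' : ∀ t ∈ T2 K, ρ t v = Ξ t • v := by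
    intro t htt
    refine (T_induction (P := fun t => t ∈ T2 K ∧ ρ t v = Ξ t • v) ⟨one_mem _, ?_⟩ ?_ ?_ htt).2
    · rw [hΞ1, one_smul, map_one]; rfl
    · rintro a b ⟨ha, ha'⟩ ⟨hb, hb'⟩
      refine ⟨mul_mem ha hb, ?_⟩
      rw [rho_mul, hb', map_smul, ha', smul_smul, hTl a ha, mul_comm]
    · intro i c hc
      refine ⟨hh_mem i hc, ?_⟩
      rw [hχ _ (hh_mem i hc), ← hF i c hc]
      congr 1
      simp only [Ξ]
      rw [x1_hh i hc, x2_hh i hc]
      fin_cases i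
      · simp
      · simp
  refine ⟨v, hv, (φ v)⁻¹ • φ, Submodule.smul_mem _ _ hφ, h4, F, hF1, fun i hi => by rw [hF0 i hi, if_pos rfl], ?_,
    fun t htt => by
      have h5 := hχ' t htt
      have h6 : ((φ v)⁻¹ • φ) (ρ t v) = Ξ t := by rw [h5, map_smul, h4, smul_eq_mul, mul_one]
      rw [h6]
      exact h5⟩
  refine Cfsg.Agent.H927.LD.master R hirr T2_comm gen2 hΞ1 ?_ ?_ hTl hTr ?_ hv ?_ ?_ hχ' (Submodule.smul_mem _ _ hφ) h4
  · intro x hx u hu g
    obtain ⟨r, h6, hr, e, -⟩ := exists_of_pos hx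
    rw [← e] at hu
    obtain ⟨t, rfl⟩ := (mem_X2 hr).1 hu
    simp only [Ξ]
    rw [x1_mul_pos hr h6, x2_mul_pos hr h6]
  · intro x hx u hu g
    obtain ⟨r, h6, hr, -, e⟩ := exists_of_pos hx
    rw [← e] at hu
    obtain ⟨t, rfl⟩ := (mem_X2 (show 11 - r < 12 by omega)).1 hu
    simp only [Ξ]
    rw [x1_neg_mul (by omega), x2_neg_mul (by omega)]
  · intro i hi g
    simp only [Ξ]
    fin_cases i
    · have h5 : F 0 = 1 := hF1 0 hi
      change F 0 (x1 (n2 K 0 * g)) * F 1 (x2 (n2 K 0 * g)) = _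
      rw [h5, x2_n0_mul]
      rfl
    · have h5 : F 1 = 1 := hF1 1 hi
      change F 0 (x1 (n2 K 1 * g)) * F 1 (x2 (n2 K 1 * g)) = _
      rw [h5, x1_n1_mul]
      rfl
  · intro i hi
    refine hJfix i hi _ ?_
    rw [← (nd ht Cfsg.Agent.KFacts.MulOdd.InstChev.parity_G2 K i).range R]
    exact ⟨_, (nd ht Cfsg.Agent.KFacts.MulOdd.InstChev.parity_G2 K i).w⟩
  · intro w g hg hne
    rw [mem_WJ_iff (h := hc2)]
    intro x i hi
    simp only [Ξ] at hne
    have h5 := left_ne_zero_of_mul hne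
    have h6 := right_ne_zero_of_mul hne
    fin_cases i
    · refine fix_of_x1 hg ?_ x
      intro h7
      rw [h7] at h5
      exact h5 (by rw [hF0 0 hi, if_pos rfl])
    · refine fix_of_x2 hg ?_ x
      intro h7
      rw [h7] at h6
      exact h6 (by rw [hF0 1 hi, if_pos rfl])

end coef

end Cfsg.Agent.H927.G2
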