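import Mathlib

/-!
# Lower bounds for modules with a known coefficient (helper927)

`φ₀ (ρ g v₀) = F (top (act g e₀))`: `Col x v` : `v` corresponds to the vector `x`; `Row ℓ ψ` : `ψ` corresponds to the
functional `ℓ`. `schur_le`, `dual_le` : the lower bounds.
-/

set_option autoImplicit false
set_option linter.unusedSectionVars false

namespace Cfsg.Agent.H927.LD

open Module

section lin

variable {k V : Type*} [Field k] [AddCommGroup V] [Module k V] [FiniteDimensional k V]

/-- vertices and extras -/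
theorem schur_le {α β : Type*} [Fintype α] [Fintype β] [DecidableEq α] (v : α → V) (u : β → V)
    (φ : α → Dual k V) (ψ : β → Dual k V) (h1 : ∀ a b, φ a (v b) = if a = b then 1 else 0)
    (h2 : ∀ m m', m ≠ m' → ψ m (u m') = ∑ a, ψ m (v a) * φ a (u m'))
    (h3 : ∀ m, ψ m (u m) ≠ ∑ a, ψ m (v a) * φ a (u m)) :
    Fintype.card α + Fintype.card β ≤ finrank k V := by
  classical
  have hli : LinearIndependent k (Sum.elim v u) := by
    rw [Fintype.linearIndependent_iff]
    intro c hc
    rw [Fintype.sum_sum_type] at hc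
    simp only [Sum.elim_inl, Sum.elim_inr] at hc
    have hb : ∀ m, c (Sum.inr m) = 0 := by
      intro m
      have e1 := congrArg (fun z => ψ m z - ∑ a, ψ m (v a) * φ a z) hc
      simp only [map_add, map_sum, map_smul, smul_eq_mul, map_zero, mul_zero, Finset.sum_const_zero, sub_zero] at e1
      have e2 : ∑ a, ψ m (v a) * (∑ b, c (Sum.inl b) * φ a (v b) + ∑ m', c (Sum.inr m') * φ a (u m')) =
          ∑ a, c (Sum.inl a) * ψ m (v a) + ∑ m', c (Sum.inr m') * ∑ a, ψ m (v a) * φ a (u m') := by
        simp only [mul_add, Finset.sum_add_distrib]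
        congr 1
        · refine Finset.sum_congr rfl fun a _ => ?_
          rw [Finset.sum_eq_single a]
          · rw [h1, if_pos rfl]; ring
          · intro b _ hb
            rw [h1, if_neg (Ne.symm hb), mul_zero]
          · intro ha
            exact absurd (Finset.mem_univ a) ha
        · simp only [Finset.mul_sum]
          rw [Finset.sum_comm]
          refine Finset.sum_congr rfl fun m' _ => Finset.sum_congr rfl fun a _ => ?_
          ring
      rw [e2] at e1
      have e3 : ∑ m', c (Sum.inr m') * (ψ m (u m') - ∑ a, ψ m (v a) * φ a (u m')) = 0 := by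
        simp only [mul_sub, Finset.sum_sub_distrib]
        linear_combination e1
      rw [Finset.sum_eq_single m] at e3
      · exact (mul_eq_zero.1 e3).resolve_right (sub_ne_zero.2 (h3 m))
      · intro m' _ hm
        rw [h2 m m' (Ne.symm hm), sub_self, mul_zero]
      · intro hm
        exact absurd (Finset.mem_univ m) hm
    have ha : ∀ a, c (Sum.inl a) = 0 := by
      intro a
      have e1 := congrArg (fun z => φ a z) hc
      simp only [map_add, map_sum, map_smul, smul_eq_mul, map_zero, hb, zero_mul, Finset.sum_const_zero, add_zero] at e1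
      rw [Finset.sum_eq_single a] at e1
      · rw [h1, if_pos rfl, mul_one] at e1
        exact e1
      · intro b _ hb
        rw [h1, if_neg (Ne.symm hb), mul_zero]
      · intro ha
        exact absurd (Finset.mem_univ a) ha
    rintro (a | m)
    · exact ha a
    · exact hb m
  have := hli.fintype_card_le_finrank
  rwa [Fintype.card_sum] at this

/-- dual families -/
theorem dual_le {α : Type*} [Fintype α] [DecidableEq α] (v : α → V) (φ : α → Dual k V)
    (h1 : ∀ a, φ a (v a) ≠ 0) (h2 : ∀ a b, a ≠ b → φ a (v b) = 0) : Fintype.card α ≤ finrank k V := by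
  have hli : LinearIndependent k v := by
    rw [Fintype.linearIndependent_iff]
    intro c hc a
    have e1 := congrArg (fun z => φ a z) hc
    simp only [map_sum, map_smul, smul_eq_mul, map_zero] at e1
    rw [Finset.sum_eq_single a] at e1
    · exact (mul_eq_zero.1 e1).resolve_right (h1 a)
    · intro b _ hb
      rw [h2 a b (Ne.symm hb), mul_zero]
    · intro ha
      exact absurd (Finset.mem_univ a) ha
  exact hli.fintype_card_le_finrank

end lin

section match_

variable {G K E k V : Type*} [Group G] [Field K] [AddCommGroup E] [Module K E] [Field k] [AddCommGroup V] [Module k V]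
  {act : G →* Module.End K E} {top : E →ₗ[K] K} {e₀ : E} {F : K →*₀ k} {ρ : G →* Module.End k V} {φ₀ : Dual k V} {v₀ : V}

/-- `v` corresponds to `x` -/
def Col (act : G →* Module.End K E) (top : E →ₗ[K] K) (F : K →*₀ k) (ρ : G →* Module.End k V) (φ₀ : Dual k V)
    (x : E) (v : V) : Prop := ∀ g, φ₀ (ρ g v) = F (top (act g x))

/-- `ψ` corresponds to `ℓ` -/
def Row (act : G →* Module.End K E) (top : E →ₗ[K] K) (F : K →*₀ k) (ρ : G →* Module.End k V) (φ₀ : Dual k V)
    (ℓ : E →ₗ[K] K) (ψ : Dual k V) : Prop := ∀ x v, Col act top F ρ φ₀ x v → ψ v = F (ℓ x)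

theorem Col.move {x : E} {v : V} (h : Col act top F ρ φ₀ x v) (a : G) : Col act top F ρ φ₀ (act a x) (ρ a v) := by
  intro g
  have := h (g * a)
  rw [map_mul, map_mul] at this
  exact this

theorem Row.base : Row act top F ρ φ₀ top φ₀ := by
  intro x v h
  have := h 1
  rw [map_one, map_one] at this
  exact this

theorem Row.comp {ℓ : E →ₗ[K] K} {ψ : Dual k V} (h : Row act top F ρ φ₀ ℓ ψ) (a : G) :
    Row act top F ρ φ₀ (ℓ ∘ₗ act a) (ψ ∘ₗ ρ a) := fun _ _ hx => h _ _ (hx.move a)

theorem Col.smul {x : E} {v : V} (h : Col act top F ρ φ₀ x v) (c : K) : Col act top F ρ φ₀ (c • x) (F c • v) := by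
  intro g
  rw [map_smul, map_smul, map_smul, map_smul, h g, smul_eq_mul, smul_eq_mul, map_mul]

theorem Row.smul {ℓ : E →ₗ[K] K} {ψ : Dual k V} (h : Row act top F ρ φ₀ ℓ ψ) (c : K) :
    Row act top F ρ φ₀ (c • ℓ) (F c • ψ) := fun x v hx => by
  rw [LinearMap.smul_apply, LinearMap.smul_apply, h x v hx, smul_eq_mul, smul_eq_mul, map_mul]

section additive

variable (hadd : ∀ x y, F (x + y) = F x + F y)
include hadd

theorem Col.add {x x' : E} {v v' : V} (h : Col act top F ρ φ₀ x v) (h' : Col act top F ρ φ₀ x' v') :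
    Col act top F ρ φ₀ (x + x') (v + v') := by
  intro g
  rw [map_add, map_add, map_add, map_add, h g, h' g, hadd]

theorem Row.add {ℓ ℓ' : E →ₗ[K] K} {ψ ψ' : Dual k V} (h : Row act top F ρ φ₀ ℓ ψ) (h' : Row act top F ρ φ₀ ℓ' ψ') :
    Row act top F ρ φ₀ (ℓ + ℓ') (ψ + ψ') := fun x v hx => by
  rw [LinearMap.add_apply, LinearMap.add_apply, h x v hx, h' x v hx, hadd]

end additive

/-- the matched vectors -/
def colSub (hadd : ∀ x y, F (x + y) = F x + F y) (act : G →* Module.End K E) (top : E →ₗ[K] K)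
    (ρ : G →* Module.End k V) (φ₀ : Dual k V) : Submodule K E where
  carrier := {x | ∃ v, Col act top F ρ φ₀ x v}
  add_mem' := by
    rintro x x' ⟨v, h⟩ ⟨v', h'⟩
    exact ⟨_, h.add hadd h'⟩
  zero_mem' := ⟨0, fun g => by simp⟩
  smul_mem' := by
    rintro c x ⟨v, h⟩
    exact ⟨_, h.smul c⟩

/-- the matched functionals -/
def rowSub (hadd : ∀ x y, F (x + y) = F x + F y) (act : G →* Module.End K E) (top : E →ₗ[K] K)
    (ρ : G →* Module.End k V) (φ₀ : Dual k V) : Submodule K (E →ₗ[K] K) where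
  carrier := {ℓ | ∃ ψ, Row act top F ρ φ₀ ℓ ψ}
  add_mem' := by
    rintro x x' ⟨v, h⟩ ⟨v', h'⟩
    exact ⟨_, h.add hadd h'⟩
  zero_mem' := ⟨0, fun x v _ => by simp⟩
  smul_mem' := by
    rintro c x ⟨v, h⟩
    exact ⟨_, h.smul c⟩

theorem act_mem_colSub {hadd : ∀ x y, F (x + y) = F x + F y} {x : E} (h : x ∈ colSub hadd act top ρ φ₀) (a : G) :
    act a x ∈ colSub hadd act top ρ φ₀ := by
  obtain ⟨v, h⟩ := h
  exact ⟨_, h.move a⟩

theorem comp_mem_rowSub {hadd : ∀ x y, F (x + y) = F x + F y} {ℓ : E →ₗ[K] K} (h : ℓ ∈ rowSub hadd act top ρ φ₀) (a : G) :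
    ℓ ∘ₗ act a ∈ rowSub hadd act top ρ φ₀ := by
  obtain ⟨v, h⟩ := h
  exact ⟨_, h.comp a⟩

/-- the lower bound, `F` additive -/
theorem le_finrank_of_sub [FiniteDimensional k V] (hadd : ∀ x y, F (x + y) = F x + F y) {α : Type*} [Fintype α] [DecidableEq α] (x : α → E)
    (ℓ : α → E →ₗ[K] K) (hx : ∀ a, x a ∈ colSub hadd act top ρ φ₀) (hℓ : ∀ a, ℓ a ∈ rowSub hadd act top ρ φ₀)
    (h1 : ∀ a, ℓ a (x a) ≠ 0) (h2 : ∀ a b, a ≠ b → ℓ a (x b) = 0) : Fintype.card α ≤ finrank k V := by
  choose v hv using hx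
  choose ψ hψ using hℓ
  refine dual_le v ψ (fun a => ?_) (fun a b hab => ?_)
  · rw [hψ a _ _ (hv a)]
    exact (map_ne_zero F).2 (h1 a)
  · rw [hψ a _ _ (hv b), h2 a b hab, map_zero]

/-- `F` is additive if `F (1 + c) = 1 + F c` -/
theorem additive_of {F : K →*₀ k} (h : ∀ c, F (1 + c) = 1 + F c) (x y : K) : F (x + y) = F x + F y := by
  by_cases hx : x = 0
  · rw [hx, zero_add, map_zero, zero_add]
  · have h1 : x + y = x * (1 + x⁻¹ * y) := by field_simp
    rw [h1, map_mul, h, mul_add, mul_one, ← map_mul, mul_inv_cancel_left₀ hx]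

/-- the lower bound with vertices and pairs, `F` not additive -/
theorem pairs_le [FiniteDimensional k V] {c : K} (hc : F (1 + c) ≠ 1 + F c) {α β : Type*} [Fintype α] [Fintype β] [DecidableEq α]
    (e : α → E) (ℓ : α → E →ₗ[K] K) (hd : ∀ a b, ℓ a (e b) = if a = b then 1 else 0)
    (v : α → V) (hv : ∀ a, Col act top F ρ φ₀ (e a) (v a)) (φ : α → Dual k V) (hφ : ∀ a, Row act top F ρ φ₀ (ℓ a) (φ a))
    (i j : β → α) (u : β → V) (hu : ∀ m, Col act top F ρ φ₀ (e (i m) + c • e (j m)) (u m))
    (ψ : β → Dual k V) (hψ : ∀ m, Row act top F ρ φ₀ (ℓ (i m) + ℓ (j m)) (ψ m))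
    (hij : ∀ m, i m ≠ j m)
    (hne : ∀ m m', m ≠ m' → (i m ≠ i m' ∧ i m ≠ j m') ∨ (j m ≠ i m' ∧ j m ≠ j m'))
    {γ : Type*} [Fintype γ] [DecidableEq γ] [DecidableEq β] [Subsingleton γ] (w : γ → E) (uw : γ → V) (hw : ∀ a, Col act top F ρ φ₀ (w a) (uw a))
    (ω : γ → E →ₗ[K] K) (ψw : γ → Dual k V) (hω : ∀ a, Row act top F ρ φ₀ (ω a) (ψw a))
    (h1 : ∀ a, ω a (w a) ≠ 0) (h2 : ∀ a b, ω a (e b) = 0 ∨ ℓ b (w a) = 0)
    (h3 : ∀ a m, ω a (e (i m)) = 0 ∨ ω a (e (j m)) = 0) (h4 : ∀ a m, ℓ (i m) (w a) = 0 ∨ ℓ (j m) (w a) = 0) :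
    Fintype.card α + (Fintype.card β + Fintype.card γ) ≤ finrank k V := by
  rw [← Fintype.card_sum]
  have hcol : ∀ a m, φ a (u m) = F ((if a = i m then 1 else 0) + c * (if a = j m then 1 else 0)) := by
    intro a m
    rw [hφ a _ _ (hu m), map_add, map_smul, hd, hd, smul_eq_mul]
  have hrow : ∀ m a, ψ m (v a) = F ((if i m = a then 1 else 0) + (if j m = a then 1 else 0)) := by
    intro m a
    rw [hψ m _ _ (hv a), LinearMap.add_apply, hd, hd]
  -- the sum over the vertices
  have hsum : ∀ m (z : E) (y : V), Col act top F ρ φ₀ z y →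
      ∑ a, ψ m (v a) * φ a y = F (ℓ (i m) z) + F (ℓ (j m) z) := by
    intro m z y hy
    have e1 : ∀ a, ψ m (v a) * φ a y = (if a = i m then F (ℓ (i m) z) else 0) + (if a = j m then F (ℓ (j m) z) else 0) := by
      intro a
      rw [hrow, hφ a _ _ hy]
      by_cases ha : a = i m
      · subst ha
        rw [if_pos rfl, if_neg (hij m).symm, if_pos rfl, if_neg (hij m), add_zero, map_one, one_mul, add_zero]
      · by_cases hb : a = j m
        · subst hb
          rw [if_neg (hij m), if_pos rfl, if_neg ha, if_pos rfl, zero_add, map_one, one_mul, zero_add]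
        · rw [if_neg (Ne.symm ha), if_neg (Ne.symm hb), if_neg ha, if_neg hb, add_zero, map_zero, zero_mul, add_zero]
    rw [Finset.sum_congr rfl fun a _ => e1 a, Finset.sum_add_distrib, Finset.sum_ite_eq', Finset.sum_ite_eq',
      if_pos (Finset.mem_univ _), if_pos (Finset.mem_univ _)]
  have hsumw : ∀ a (z : E) (y : V), Col act top F ρ φ₀ z y →
      ∑ b, ψw a (v b) * φ b y = ∑ b, F (ω a (e b) * ℓ b z) := by
    intro a z y hy
    refine Finset.sum_congr rfl fun b _ => ?_
    rw [hω a _ _ (hv b), hφ b _ _ hy, map_mul]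
  refine schur_le v (Sum.elim u uw) φ (Sum.elim ψ ψw) (fun a b => ?_) ?_ ?_
  · rw [hφ a _ _ (hv b), hd]
    split_ifs
    · exact map_one F
    · exact map_zero F
  · rintro (m | a) (m' | a') hmm
    · have hmm' : m ≠ m' := fun h => hmm (by rw [h])
      simp only [Sum.elim_inl]
      rw [hsum m _ _ (hu m'), hψ m _ _ (hu m')]
      simp only [LinearMap.add_apply, map_add, map_smul, hd, smul_eq_mul]
      rcases hne m m' hmm' with ⟨h5, h6⟩ | ⟨h5, h6⟩
      · simp [h5, h6]
      · simp [h5, h6]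
    · simp only [Sum.elim_inl, Sum.elim_inr]
      rw [hsum m _ _ (hw a'), hψ m _ _ (hw a'), LinearMap.add_apply]
      rcases h4 a' m with h5 | h5
      · rw [h5, map_zero, zero_add, zero_add]
      · rw [h5, map_zero, add_zero, add_zero]
    · simp only [Sum.elim_inl, Sum.elim_inr]
      rw [hsumw a _ _ (hu m'), hω a _ _ (hu m'), map_add, map_smul, smul_eq_mul]
      have e1 : ∀ b, F (ω a (e b) * ℓ b (e (i m') + c • e (j m'))) =
          (if b = i m' then F (ω a (e (i m'))) else 0) + (if b = j m' then F (c * ω a (e (j m'))) else 0) := by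
        intro b
        rw [map_add, map_smul, hd, hd, smul_eq_mul]
        by_cases ha : b = i m'
        · subst ha
          rw [if_pos rfl, if_neg (hij m'), if_pos rfl, if_neg (hij m'), mul_zero, add_zero, mul_one, add_zero]
        · by_cases hb : b = j m'
          · subst hb
            rw [if_neg ha, if_pos rfl, if_neg ha, if_pos rfl, zero_add, mul_one, zero_add, mul_comm]
          · rw [if_neg ha, if_neg hb, if_neg ha, if_neg hb, mul_zero, add_zero, mul_zero, map_zero, add_zero]
      rw [Finset.sum_congr rfl fun b _ => e1 b, Finset.sum_add_distrib, Finset.sum_ite_eq', Finset.sum_ite_eq',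
        if_pos (Finset.mem_univ _), if_pos (Finset.mem_univ _)]
      rcases h3 a m' with h5 | h5
      · rw [h5, map_zero, zero_add, zero_add]
      · rw [h5, mul_zero, map_zero, add_zero, add_zero]
    · exact absurd (congrArg Sum.inr (Subsingleton.elim a a')) hmm
  · rintro (m | a)
    · simp only [Sum.elim_inl]
      rw [hsum m _ _ (hu m), hψ m _ _ (hu m)]
      simp only [LinearMap.add_apply, map_add, map_smul, hd, smul_eq_mul, if_pos, if_neg (hij m), if_neg (hij m).symm,
        mul_zero, mul_one, add_zero, zero_add, map_one]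
      exact hc
    · simp only [Sum.elim_inr]
      rw [hsumw a _ _ (hw a), hω a _ _ (hw a)]
      have e1 : ∀ b, F (ω a (e b) * ℓ b (w a)) = 0 := by
        intro b
        rcases h2 a b with h5 | h5
        · rw [h5, zero_mul, map_zero]
        · rw [h5, mul_zero, map_zero]
      rw [Finset.sum_congr rfl fun b _ => e1 b, Finset.sum_const_zero]
      exact (map_ne_zero F).2 (h1 a)

end match_

end Cfsg.Agent.H927.LD
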