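import Cfsg.Agent.H927.G2Co3
import Cfsg.Agent.H927.LDMatch
import Cfsg.Agent.H887.DS.Lin

/-!
# Simple modules of `G₂(K)` with highest weight a multiple of the first fundamental weight (helper927)
-/

set_option autoImplicit false
set_option linter.unusedSectionVars false
set_option linter.style.haveILetI false

namespace Cfsg.Agent.H927.LD

open Module

section match_

variable {G K E k V : Type*} [Group G] [Field K] [AddCommGroup E] [Module K E] [Field k] [AddCommGroup V] [Module k V]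
  {act : G →* Module.End K E} {top : E →ₗ[K] K} {e₀ : E} {F : K →*₀ k} {ρ : G →* Module.End k V} {φ₀ : Dual k V} {v₀ : V}

theorem col_of (hb : Col act top F ρ φ₀ e₀ v₀) (g : G) {x : E} (h : act g e₀ = x) :
    Col act top F ρ φ₀ x (ρ g v₀) := h ▸ hb.move g

theorem row_of (g : G) {ℓ : E →ₗ[K] K} (h : top ∘ₗ act g = ℓ) :
    Row act top F ρ φ₀ ℓ (φ₀ ∘ₗ ρ g) := h ▸ Row.base.comp g

end match_

end Cfsg.Agent.H927.LD

namespace Cfsg.Agent.H927.G2

open Cfsg.Agent.H927.LD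
open Module

variable {K : Type} [Field K]

/-- basis vectors -/
def E8 (K : Type) [Field K] (i : Fin 8) : Fin 8 → K := Pi.single i 1
/-- coordinates -/
def L8 (K : Type) [Field K] (i : Fin 8) : (Fin 8 → K) →ₗ[K] K := LinearMap.proj i

theorem L8_E8 (i j : Fin 8) : L8 K i (E8 K j) = if i = j then 1 else 0 := by
  change (Pi.single j 1 : Fin 8 → K) i = _
  rw [Pi.single_apply]

variable [Finite K]

section words

/-- the positions -/
def ix : Fin 6 → Fin 8 := ![1, 2, 3, 4, 5, 6]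
/-- the first elements of the pairs -/
def pi8 : Fin 7 → Fin 6 := ![5, 5, 5, 5, 4, 4, 4]
/-- the second elements of the pairs -/
def pj8 : Fin 7 → Fin 6 := ![1, 0, 3, 4, 3, 0, 2]

/-- the elements for the vertices -/
def gv8 (K : Type) [Field K] : Fin 6 → GK K := ![xg 8 (-1) * xg 3 1, xg 7 1 * xg 4 (-1),
  xg 7 (-1) * (xg 4 1 * (xg 11 (-1) * xg 0 1)), xg 10 (-1) * xg 1 1, xg 11 (-1) * xg 0 1, 1]

/-- the elements for the pairs -/
def gp8 (s : K) : Fin 7 → GK K := ![xg 4 (-s), xg 3 s, xg 1 s, xg 0 s, xg 6 (-s) * (xg 11 (-1) * xg 0 1),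
  xg 9 s * (xg 11 (-1) * xg 0 1), xg 4 s * (xg 11 (-1) * xg 0 1)]

/-- the elements for the row vertices -/
def rv8 (K : Type) [Field K] : Fin 6 → GK K := ![xg 8 1 * xg 3 (-1), xg 7 (-1) * xg 4 1,
  (xg 11 1 * xg 0 (-1)) * (xg 7 1 * xg 4 (-1)), xg 10 1 * xg 1 (-1), xg 11 1 * xg 0 (-1), 1]

/-- the elements for the row pairs -/
def rp8 (K : Type) [Field K] : Fin 7 → GK K := ![xg 7 (-1), xg 8 1, xg 10 1, xg 11 1, (xg 11 1 * xg 0 (-1)) * xg 5 (-1),
  (xg 11 1 * xg 0 (-1)) * xg 2 1, (xg 11 1 * xg 0 (-1)) * xg 7 1]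

theorem a8_11_0 (x : Fin 8 → K) (hx : x = e8 K) : a8 K (xg 11 (-1) * xg 0 1) x = E8 K 5 := by
  subst hx
  rw [a8_mul, a8_0, a8_11]; ext i; fin_cases i <;> simp [e8, E8]

theorem gv8_e (a : Fin 6) : a8 K (gv8 K a) (e8 K) = E8 K (ix a) := by
  fin_cases a
  · change a8 K (xg 8 (-1) * xg 3 1) _ = E8 K 1
    rw [a8_mul, a8_3, a8_8]; ext i; fin_cases i <;> simp [e8, E8]
  · change a8 K (xg 7 1 * xg 4 (-1)) _ = E8 K 2
    rw [a8_mul, a8_4, a8_7]; ext i; fin_cases i <;> simp [e8, E8]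
  · change a8 K (xg 7 (-1) * (xg 4 1 * (xg 11 (-1) * xg 0 1))) _ = E8 K 3
    rw [a8_mul, a8_mul, a8_11_0 _ rfl, a8_4, a8_7]; ext i; fin_cases i <;> simp [E8]
  · change a8 K (xg 10 (-1) * xg 1 1) _ = E8 K 4
    rw [a8_mul, a8_1, a8_10]; ext i; fin_cases i <;> simp [e8, E8]
  · exact a8_11_0 _ rfl
  · change a8 K 1 _ = E8 K 6
    rw [map_one]; rfl

theorem gp8_e (s : K) (m : Fin 7) : a8 K (gp8 s m) (e8 K) = E8 K (ix (pi8 m)) + s • E8 K (ix (pj8 m)) := by
  fin_cases m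
  · change a8 K (xg 4 (-s)) _ = E8 K 6 + s • E8 K 2
    rw [a8_4]; ext i; fin_cases i <;> simp [e8, E8]
  · change a8 K (xg 3 s) _ = E8 K 6 + s • E8 K 1
    rw [a8_3]; ext i; fin_cases i <;> simp [e8, E8]
  · change a8 K (xg 1 s) _ = E8 K 6 + s • E8 K 4
    rw [a8_1]; ext i; fin_cases i <;> simp [e8, E8]
  · change a8 K (xg 0 s) _ = E8 K 6 + s • E8 K 5
    rw [a8_0]; ext i; fin_cases i <;> simp [e8, E8]
  · change a8 K (xg 6 (-s) * (xg 11 (-1) * xg 0 1)) _ = E8 K 5 + s • E8 K 4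
    rw [a8_mul, a8_11_0 _ rfl, a8_6]; ext i; fin_cases i <;> simp [E8]
  · change a8 K (xg 9 s * (xg 11 (-1) * xg 0 1)) _ = E8 K 5 + s • E8 K 1
    rw [a8_mul, a8_11_0 _ rfl, a8_9]; ext i; fin_cases i <;> simp [E8]
  · change a8 K (xg 4 s * (xg 11 (-1) * xg 0 1)) _ = E8 K 5 + s • E8 K 3
    rw [a8_mul, a8_11_0 _ rfl, a8_4]; ext i; fin_cases i <;> simp [E8]

theorem l8_11_0 (x : Fin 8 → K) : l8 K (a8 K (xg 11 1 * xg 0 (-1)) x) = x 5 := by
  rw [a8_mul, a8_0, a8_11]; simp [l8]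

theorem rv8_l (a : Fin 6) : l8 K ∘ₗ a8 K (rv8 K a) = L8 K (ix a) := by
  refine LinearMap.ext fun x => ?_
  rw [LinearMap.comp_apply]
  fin_cases a
  · change l8 K (a8 K (xg 8 1 * xg 3 (-1)) x) = x 1
    rw [a8_mul, a8_3, a8_8]; simp [l8]
  · change l8 K (a8 K (xg 7 (-1) * xg 4 1) x) = x 2
    rw [a8_mul, a8_4, a8_7]; simp [l8]
  · change l8 K (a8 K ((xg 11 1 * xg 0 (-1)) * (xg 7 1 * xg 4 (-1))) x) = x 3
    rw [a8_mul, l8_11_0, a8_mul, a8_4, a8_7]; simp
  · change l8 K (a8 K (xg 10 1 * xg 1 (-1)) x) = x 4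
    rw [a8_mul, a8_1, a8_10]; simp [l8]
  · exact l8_11_0 x
  · change l8 K (a8 K 1 x) = x 6
    rw [map_one]; rfl

theorem rp8_l (m : Fin 7) : l8 K ∘ₗ a8 K (rp8 K m) = L8 K (ix (pi8 m)) + L8 K (ix (pj8 m)) := by
  refine LinearMap.ext fun x => ?_
  rw [LinearMap.comp_apply]
  fin_cases m
  · change l8 K (a8 K (xg 7 (-1)) x) = x 6 + x 2
    rw [a8_7]; simp [l8]
  · change l8 K (a8 K (xg 8 1) x) = x 6 + x 1
    rw [a8_8]; simp [l8]
  · change l8 K (a8 K (xg 10 1) x) = x 6 + x 4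
    rw [a8_10]; simp [l8]
  · change l8 K (a8 K (xg 11 1) x) = x 6 + x 5
    rw [a8_11]; simp [l8]
  · change l8 K (a8 K ((xg 11 1 * xg 0 (-1)) * xg 5 (-1)) x) = x 5 + x 4
    rw [a8_mul, l8_11_0, a8_5]; simp
  · change l8 K (a8 K ((xg 11 1 * xg 0 (-1)) * xg 2 1) x) = x 5 + x 1
    rw [a8_mul, l8_11_0, a8_2]; simp
  · change l8 K (a8 K ((xg 11 1 * xg 0 (-1)) * xg 7 1) x) = x 5 + x 3
    rw [a8_mul, l8_11_0, a8_7]; simp

end words

section low

variable {k V : Type*} [Field k] [AddCommGroup V] [Module k V] [FiniteDimensional k V]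
  {F : K →*₀ k} {ρ : GK K →* Module.End k V} {φ₀ : Dual k V} {v₀ : V}

/-- `F` not additive : dimension at least 13 -/
theorem thirteen8 (hb : Col (a8 K) (l8 K) F ρ φ₀ (e8 K) v₀) {c : K} (hc : F (1 + c) ≠ 1 + F c) :
    13 ≤ finrank k V := by
  have h := pairs_le (α := Fin 6) (β := Fin 7) (γ := Fin 0) hc (fun a => E8 K (ix a)) (fun a => L8 K (ix a))
    (fun a b => by
      rw [L8_E8]
      have : ∀ a b : Fin 6, (ix a = ix b) ↔ a = b := by decide
      simp only [this]) _ (fun a => col_of hb (gv8 K a) (gv8_e a)) _ (fun a => row_of (rv8 K a) (rv8_l a)) pi8 pj8 _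
    (fun m => col_of hb (gp8 c m) (gp8_e c m)) _ (fun m => row_of (rp8 K m) (rp8_l m)) (by decide) (by decide)
    (fun a => a.elim0) (fun a => a.elim0) (fun a => a.elim0) (fun a => a.elim0) (fun a => a.elim0) (fun a => a.elim0)
    (fun a => a.elim0) (fun a => a.elim0) (fun a => a.elim0) (fun a => a.elim0)
  simpa using h

/-- induction on the group -/
theorem g_induction {P : GK K → Prop} (h1 : P 1) (hm : ∀ a b, P a → P b → P (a * b))
    (hx : ∀ r, r < 12 → ∀ t, P (xg r t)) (g : GK K) : P g := by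
  obtain ⟨g, hg⟩ := g
  refine Subgroup.closure_induction (p := fun g hg => P ⟨g, hg⟩) ?_ h1 (fun x y hx hy => hm ⟨x, hx⟩ ⟨y, hy⟩) ?_ hg
  · rintro x ⟨r, t, e⟩
    have h2 := hx r.1 r.2 t
    have h3 : xg r.1 t = ⟨x, Subgroup.subset_closure ⟨r, t, e⟩⟩ := by
      apply Subtype.ext
      apply Units.ext
      rw [coe_xg r.1 r.2]
      exact e.symm
    rw [h3] at h2
    exact h2
  · intro x hx hP
    have h2 : ∀ n : ℕ, P ((⟨x, hx⟩ : GK K) ^ n) := by
      intro n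
      induction n with
      | zero => rw [pow_zero]; exact h1
      | succ n ih => rw [pow_succ]; exact hm _ _ ih hP
    obtain ⟨n, hn⟩ : ∃ n : ℕ, (⟨x, hx⟩ : GK K) ^ n = (⟨x, hx⟩ : GK K)⁻¹ :=
      (Submonoid.mem_powers_iff _ _).1 (((isOfFinOrder_of_finite (⟨x, hx⟩ : GK K)).mem_powers_iff_mem_zpowers).2
        (inv_mem (Subgroup.mem_zpowers _)))
    have h3 := h2 n
    rw [hn] at h3
    exact h3

/-- the trace coordinate -/
theorem a8_tr (g : GK K) : ∀ x : Fin 8 → K, a8 K g x 0 + a8 K g x 7 = x 0 + x 7 := by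
  refine g_induction (P := fun g => ∀ x : Fin 8 → K, a8 K g x 0 + a8 K g x 7 = x 0 + x 7) ?_ ?_ ?_ g
  · intro x
    rw [map_one]; rfl
  · intro a b ha hb x
    rw [a8_mul, ha, hb]
  · intro r hr t x
    interval_cases r
    · rw [a8_0]; simp
    · rw [a8_1]; simp
    · rw [a8_2]; simp
    · rw [a8_3]; simp
    · rw [a8_4]; simp
    · rw [a8_5]; simp
    · rw [a8_6]; simp
    · rw [a8_7]; simp
    · rw [a8_8]; simp
    · rw [a8_9]; simp
    · rw [a8_10]; simp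
    · rw [a8_11]; simp

/-- the identity -/
theorem a8_one8 (g : GK K) : a8 K g (E8 K 0 + E8 K 7) = E8 K 0 + E8 K 7 := by
  refine g_induction (P := fun g => a8 K g (E8 K 0 + E8 K 7) = E8 K 0 + E8 K 7) ?_ ?_ ?_ g
  · rw [map_one]; rfl
  · intro a b ha hb
    rw [a8_mul, hb, ha]
  · intro r hr t
    interval_cases r
    · rw [a8_0]; ext i; fin_cases i <;> simp [E8]
    · rw [a8_1]; ext i; fin_cases i <;> simp [E8]
    · rw [a8_2]; ext i; fin_cases i <;> simp [E8]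
    · rw [a8_3]; ext i; fin_cases i <;> simp [E8]
    · rw [a8_4]; ext i; fin_cases i <;> simp [E8]
    · rw [a8_5]; ext i; fin_cases i <;> simp [E8]
    · rw [a8_6]; ext i; fin_cases i <;> simp [E8]
    · rw [a8_7]; ext i; fin_cases i <;> simp [E8]
    · rw [a8_8]; ext i; fin_cases i <;> simp [E8]
    · rw [a8_9]; ext i; fin_cases i <;> simp [E8]
    · rw [a8_10]; ext i; fin_cases i <;> simp [E8]
    · rw [a8_11]; ext i; fin_cases i <;> simp [E8]

/-- the rows and columns -/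
theorem l8_mul (g h : GK K) : l8 K (a8 K (g * h) (e8 K)) = ∑ a : Fin 6, l8 K (a8 K g (E8 K (ix a))) * L8 K (ix a) (a8 K h (e8 K)) +
    2 * (l8 K (a8 K g (E8 K 0)) * L8 K 0 (a8 K h (e8 K))) := by
  have h1 := a8_tr h (e8 K)
  have h2 : l8 K (a8 K g (E8 K 0)) + l8 K (a8 K g (E8 K 7)) = 0 := by
    rw [← map_add, ← map_add, a8_one8]
    simp [l8, E8]
  have h3 : a8 K h (e8 K) = ∑ i, a8 K h (e8 K) i • E8 K i := pi_eq_sum_univ' _
  rw [a8_mul]
  conv_lhs => rw [h3]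
  rw [map_sum, map_sum]
  simp only [map_smul, smul_eq_mul]
  have h4 : a8 K h (e8 K) 7 = - a8 K h (e8 K) 0 := by
    have h5 : e8 K 0 + e8 K 7 = 0 := by simp [e8]
    rw [h5] at h1
    linear_combination h1
  have h6 : l8 K (a8 K g (E8 K 7)) = - l8 K (a8 K g (E8 K 0)) := by linear_combination h2
  rw [Fin.sum_univ_eight, Fin.sum_univ_six, h4, h6]
  simp only [L8, LinearMap.proj_apply, ix]
  simp
  ring

section add

variable (hadd : ∀ x y, F (x + y) = F x + F y)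
include hadd

theorem six8 (hb : Col (a8 K) (l8 K) F ρ φ₀ (e8 K) v₀) : 6 ≤ finrank k V := by
  have h := le_finrank_of_sub hadd (α := Fin 6) (fun a => E8 K (ix a)) (fun a => L8 K (ix a))
    (fun a => ⟨_, col_of hb (gv8 K a) (gv8_e a)⟩) (fun a => ⟨_, row_of (rv8 K a) (rv8_l a)⟩)
    (fun a => by rw [L8_E8, if_pos rfl]; exact one_ne_zero)
    (fun a b hab => by
      rw [L8_E8, if_neg]
      have : ∀ a b : Fin 6, (ix a = ix b) → a = b := by decide
      exact fun h => hab (this a b h))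
  simpa using h

theorem seven8 (hb : Col (a8 K) (l8 K) F ρ φ₀ (e8 K) v₀) (h2 : (2 : K) ≠ 0) : 7 ≤ finrank k V := by
  have hcol : ∀ a, E8 K (ix a) ∈ colSub hadd (a8 K) (l8 K) ρ φ₀ := fun a => ⟨_, col_of hb (gv8 K a) (gv8_e a)⟩
  have hrow : ∀ a, L8 K (ix a) ∈ rowSub hadd (a8 K) (l8 K) ρ φ₀ := fun a => ⟨_, row_of (rv8 K a) (rv8_l a)⟩
  have hc : E8 K 0 - E8 K 7 ∈ colSub hadd (a8 K) (l8 K) ρ φ₀ := by
    have h3 : a8 K (xg 2 1) (e8 K) ∈ colSub hadd (a8 K) (l8 K) ρ φ₀ := ⟨_, col_of hb _ rfl⟩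
    have h4 : E8 K 0 - E8 K 7 = E8 K (ix 5) - E8 K (ix 2) - a8 K (xg 2 1) (e8 K) := by
      rw [a8_2]; ext i; fin_cases i <;> simp [E8, e8, ix]
    rw [h4]
    exact Submodule.sub_mem _ (Submodule.sub_mem _ (hcol 5) (hcol 2)) h3
  have hr : L8 K 0 - L8 K 7 ∈ rowSub hadd (a8 K) (l8 K) ρ φ₀ := by
    have h3 : l8 K ∘ₗ a8 K (xg 9 1) ∈ rowSub hadd (a8 K) (l8 K) ρ φ₀ := ⟨_, row_of _ rfl⟩
    have h4 : L8 K 0 - L8 K 7 = L8 K (ix 5) - L8 K (ix 2) - l8 K ∘ₗ a8 K (xg 9 1) := by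
      refine LinearMap.ext fun x => ?_
      rw [LinearMap.sub_apply, LinearMap.sub_apply, LinearMap.sub_apply, LinearMap.comp_apply, a8_9]
      simp [L8, l8, ix]
      ring
    rw [h4]
    exact Submodule.sub_mem _ (Submodule.sub_mem _ (hrow 5) (hrow 2)) h3
  have h := le_finrank_of_sub hadd (α := Option (Fin 6)) (fun a => a.elim (E8 K 0 - E8 K 7) fun a => E8 K (ix a))
    (fun a => a.elim (L8 K 0 - L8 K 7) fun a => L8 K (ix a))
    (by
      rintro (_ | a)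
      · exact hc
      · exact hcol a)
    (by
      rintro (_ | a)
      · exact hr
      · exact hrow a)
    (by
      rintro (_ | a)
      · simp only [Option.elim, LinearMap.sub_apply, map_sub, L8_E8]
        simp only [Fin.isValue, if_true, show ((0 : Fin 8) = 7) = False by decide, show ((7 : Fin 8) = 0) = False by decide,
          if_false]
        intro h5
        apply h2
        linear_combination h5
      · simp only [Option.elim, L8_E8, if_true]
        exact one_ne_zero)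
    (by
      have hi0 : ∀ a, ix a ≠ 0 := by decide
      have hi7 : ∀ a, ix a ≠ 7 := by decide
      rintro (_ | a) (_ | b) hab
      · exact absurd rfl hab
      · simp only [Option.elim, LinearMap.sub_apply, L8_E8, if_neg (hi0 b).symm, if_neg (hi7 b).symm, sub_zero]
      · simp only [Option.elim, map_sub, L8_E8, if_neg (hi0 a), if_neg (hi7 a), sub_zero]
      · simp only [Option.elim, L8_E8]
        rw [if_neg]
        have : ∀ a b : Fin 6, (ix a = ix b) → a = b := by decide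
        exact fun h => hab (congrArg some (this a b h)))
  simpa using h

theorem le_seven8 (hirr : ∀ L : Submodule k V, (∀ g, ∀ w ∈ L, ρ g w ∈ L) → L = ⊥ ∨ L = ⊤) (hφ : φ₀ ≠ 0) (hv : v₀ ≠ 0)
    (hb : Col (a8 K) (l8 K) F ρ φ₀ (e8 K) v₀) : finrank k V ≤ 7 := by
  have hs : ∀ (s : Finset (Fin 6)) (f : Fin 6 → K), F (∑ a ∈ s, f a) = ∑ a ∈ s, F (f a) := by
    intro s f
    induction s using Finset.induction_on with
    | empty => simp
    | insert a s ha ih => rw [Finset.sum_insert ha, Finset.sum_insert ha, hadd, ih]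
  have h := Cfsg.Agent.H887.DS.finrank_le hirr (M := Option (Fin 6)) (φ := φ₀) (v := v₀)
    (c := fun a => a.elim (F 2) fun _ => 1)
    (F := fun a g => a.elim (F (l8 K (a8 K g (E8 K 0)))) fun a => F (l8 K (a8 K g (E8 K (ix a)))))
    (Gf := fun a h => a.elim (F (L8 K 0 (a8 K h (e8 K)))) fun a => F (L8 K (ix a) (a8 K h (e8 K)))) hφ hv (fun g h => by
      rw [hb (g * h), l8_mul, hadd, hs, Fintype.sum_option]
      simp only [Option.elim, map_mul, one_mul]
      ring)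
  simpa using h

theorem le_six8 (hirr : ∀ L : Submodule k V, (∀ g, ∀ w ∈ L, ρ g w ∈ L) → L = ⊥ ∨ L = ⊤) (hφ : φ₀ ≠ 0) (hv : v₀ ≠ 0)
    (hb : Col (a8 K) (l8 K) F ρ φ₀ (e8 K) v₀) (h2 : (2 : K) = 0) : finrank k V ≤ 6 := by
  have hs : ∀ (s : Finset (Fin 6)) (f : Fin 6 → K), F (∑ a ∈ s, f a) = ∑ a ∈ s, F (f a) := by
    intro s f
    induction s using Finset.induction_on with
    | empty => simp
    | insert a s ha ih => rw [Finset.sum_insert ha, Finset.sum_insert ha, hadd, ih]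
  have h := Cfsg.Agent.H887.DS.finrank_le hirr (M := Fin 6) (φ := φ₀) (v := v₀)
    (c := fun _ => 1)
    (F := fun a g => F (l8 K (a8 K g (E8 K (ix a)))))
    (Gf := fun a h => F (L8 K (ix a) (a8 K h (e8 K)))) hφ hv (fun g h => by
      rw [hb (g * h), l8_mul, h2, zero_mul, add_zero, hs]
      simp only [map_mul, one_mul])
  simpa using h

end add

end low

end Cfsg.Agent.H927.G2
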