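import Cfsg.Agent.H927.G2Tab
import Cfsg.Agent.H927.G2Lo8

/-!
# Simple modules of `G₂(K)` with highest weight a multiple of the second fundamental weight (helper927)
-/

set_option autoImplicit false
set_option linter.unusedSectionVars false
set_option linter.style.haveILetI false
set_option linter.unusedSimpArgs false

namespace Cfsg.Agent.H927.G2

open Cfsg.Agent.H927.LD
open Module Cfsg.Lie

variable {K : Type} [Field K]

section words

/-- the long roots -/
def lx : Fin 6 → chevG2.Idx := ![rv 11, rv 10, rv 5, rv 0, rv 1, rv 6]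
/-- the pairs -/
def pj14 : Fin 6 → Fin 6 := ![1, 2, 3, 4, 5, 0]

theorem lx_inj (a b : Fin 6) : lx a = lx b ↔ a = b := by revert a b; decide +kernel

/-- words -/
def w10 (K : Type) [Field K] : GK K := xg 6 (-1) * xg 5 1
def w5 (K : Type) [Field K] : GK K := xg 11 1 * (xg 0 (-1) * w10 K)
def w0 (K : Type) [Field K] : GK K := xg 10 (-1) * (xg 1 1 * w5 K)
def w1 (K : Type) [Field K] : GK K := xg 5 1 * (xg 6 (-1) * w0 K)
def w6 (K : Type) [Field K] : GK K := xg 0 (-1) * (xg 11 1 * w1 K)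
def r10 (K : Type) [Field K] : GK K := xg 6 1 * xg 5 (-1)
def r5 (K : Type) [Field K] : GK K := r10 K * (xg 11 (-1) * xg 0 1)
def r0 (K : Type) [Field K] : GK K := r5 K * (xg 10 1 * xg 1 (-1))
def r1 (K : Type) [Field K] : GK K := r0 K * (xg 5 (-1) * xg 6 1)
def r6 (K : Type) [Field K] : GK K := r1 K * (xg 0 1 * xg 11 (-1))

theorem w10_e : a14 K (w10 K) (e14 K) = e (rv 10) := by
  unfold w10 e14
  simp only [a14_mul, map_add, map_smul, C_5_11, C_6_10, C_6_11]
  module
theorem w5_e : a14 K (w5 K) (e14 K) = e (rv 5) := by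
  unfold w5
  rw [a14_mul, a14_mul, w10_e]
  simp only [a14_mul, map_add, map_smul, C_0_10, C_11_10, C_11_5]
  module
theorem w0_e : a14 K (w0 K) (e14 K) = e (rv 0) := by
  unfold w0
  rw [a14_mul, a14_mul, w5_e]
  simp only [a14_mul, map_add, map_smul, C_1_5, C_10_5, C_10_0]
  module
theorem w1_e : a14 K (w1 K) (e14 K) = e (rv 1) := by
  unfold w1
  rw [a14_mul, a14_mul, w0_e]
  simp only [a14_mul, map_add, map_smul, C_6_0, C_5_0, C_5_1]
  module
theorem w6_e : a14 K (w6 K) (e14 K) = e (rv 6) := by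
  unfold w6
  rw [a14_mul, a14_mul, w1_e]
  simp only [a14_mul, map_add, map_smul, C_11_1, C_0_1, C_0_6]
  module

theorem r10_l (x : chevG2.Idx → K) : l14 K (a14 K (r10 K) x) = l (rv 10) x := by
  unfold r10 l14
  simp only [a14_mul, R_6_11, R_5_10, R_5_11]
  ring
theorem r5_l (x : chevG2.Idx → K) : l14 K (a14 K (r5 K) x) = l (rv 5) x := by
  unfold r5
  rw [a14_mul, r10_l]
  simp only [a14_mul, R_11_10, R_0_5, R_0_10]
  ring
theorem r0_l (x : chevG2.Idx → K) : l14 K (a14 K (r0 K) x) = l (rv 0) x := by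
  unfold r0
  rw [a14_mul, r5_l]
  simp only [a14_mul, R_10_5, R_1_0, R_1_5]
  ring
theorem r1_l (x : chevG2.Idx → K) : l14 K (a14 K (r1 K) x) = l (rv 1) x := by
  unfold r1
  rw [a14_mul, r0_l]
  simp only [a14_mul, R_5_0, R_6_1, R_6_0]
  ring
theorem r6_l (x : chevG2.Idx → K) : l14 K (a14 K (r6 K) x) = l (rv 6) x := by
  unfold r6
  rw [a14_mul, r1_l]
  simp only [a14_mul, R_0_1, R_11_6, R_11_1]
  ring

/-- the elements for the vertices -/
def gv14 (K : Type) [Field K] : Fin 6 → GK K := ![1, w10 K, w5 K, w0 K, w1 K, w6 K]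

/-- the elements for the pairs -/
def gp14 (c : K) : Fin 6 → GK K := ![xg 5 c, xg 0 (-c) * w10 K, xg 1 c * w5 K, xg 6 (-c) * w0 K, xg 11 c * w1 K,
  xg 10 (-c) * w6 K]

/-- the elements for the row vertices -/
def rv14 (K : Type) [Field K] : Fin 6 → GK K := ![1, r10 K, r5 K, r0 K, r1 K, r6 K]

/-- the elements for the row pairs -/
def rp14 (K : Type) [Field K] : Fin 6 → GK K := ![xg 6 1, r10 K * xg 11 (-1), r5 K * xg 10 1, r0 K * xg 5 (-1),
  r1 K * xg 0 1, r6 K * xg 1 (-1)]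

theorem gv14_e (a : Fin 6) : a14 K (gv14 K a) (e14 K) = e (lx a) := by
  fin_cases a
  · change a14 K 1 _ = e (rv 11)
    rw [map_one]; rfl
  · exact w10_e
  · exact w5_e
  · exact w0_e
  · exact w1_e
  · exact w6_e

theorem gp14_e (c : K) (m : Fin 6) : a14 K (gp14 c m) (e14 K) = e (lx m) + c • e (lx (pj14 m)) := by
  fin_cases m
  · change a14 K (xg 5 c) (e (rv 11)) = e (rv 11) + c • e (rv 10)
    rw [C_5_11]; module
  · change a14 K (xg 0 (-c) * w10 K) (e14 K) = e (rv 10) + c • e (rv 5)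
    rw [a14_mul, w10_e, C_0_10]; module
  · change a14 K (xg 1 c * w5 K) (e14 K) = e (rv 5) + c • e (rv 0)
    rw [a14_mul, w5_e, C_1_5]; module
  · change a14 K (xg 6 (-c) * w0 K) (e14 K) = e (rv 0) + c • e (rv 1)
    rw [a14_mul, w0_e, C_6_0]; module
  · change a14 K (xg 11 c * w1 K) (e14 K) = e (rv 1) + c • e (rv 6)
    rw [a14_mul, w1_e, C_11_1]
  · change a14 K (xg 10 (-c) * w6 K) (e14 K) = e (rv 6) + c • e (rv 11)
    rw [a14_mul, w6_e, C_10_6]; module

theorem rv14_l (a : Fin 6) : l14 K ∘ₗ a14 K (rv14 K a) = l (lx a) := by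
  refine LinearMap.ext fun x => ?_
  rw [LinearMap.comp_apply]
  fin_cases a
  · change l14 K (a14 K 1 x) = l (rv 11) x
    rw [map_one]; rfl
  · exact r10_l x
  · exact r5_l x
  · exact r0_l x
  · exact r1_l x
  · exact r6_l x

theorem rp14_l (m : Fin 6) : l14 K ∘ₗ a14 K (rp14 K m) = l (lx m) + l (lx (pj14 m)) := by
  refine LinearMap.ext fun x => ?_
  rw [LinearMap.comp_apply]
  fin_cases m
  · change l (rv 11) (a14 K (xg 6 1) x) = l (rv 11) x + l (rv 10) x
    rw [R_6_11]; ring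
  · change l14 K (a14 K (r10 K * xg 11 (-1)) x) = l (rv 10) x + l (rv 5) x
    rw [a14_mul, r10_l, R_11_10]; ring
  · change l14 K (a14 K (r5 K * xg 10 1) x) = l (rv 5) x + l (rv 0) x
    rw [a14_mul, r5_l, R_10_5]; ring
  · change l14 K (a14 K (r0 K * xg 5 (-1)) x) = l (rv 0) x + l (rv 1) x
    rw [a14_mul, r0_l, R_5_0]; ring
  · change l14 K (a14 K (r1 K * xg 0 1) x) = l (rv 1) x + l (rv 6) x
    rw [a14_mul, r1_l, R_0_1]; ring
  · change l14 K (a14 K (r6 K * xg 1 (-1)) x) = l (rv 6) x + l (rv 11) x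
    rw [a14_mul, r6_l, R_1_6]; ring

end words

section low

variable {k V : Type*} [Field k] [AddCommGroup V] [Module k V] [FiniteDimensional k V]
  {F : K →*₀ k} {ρ : GK K →* Module.End k V} {φ₀ : Dual k V} {v₀ : V}

/-- the extra vector -/
def we (K : Type) [Field K] : chevG2.Idx → K := e (rv 6) - e (hv 1) - e (rv 5)
/-- the extra functional -/
def oe (K : Type) [Field K] : (chevG2.Idx → K) →ₗ[K] K := l (rv 11) - l (hv 1) - l (rv 0)

theorem l_we (s : chevG2.Idx) : l s (we K) = (if s = rv 6 then 1 else 0) - (if s = hv 1 then 1 else 0) -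
    (if s = rv 5 then 1 else 0) := by
  unfold we
  rw [map_sub, map_sub, l_e, l_e, l_e]

theorem oe_e (s : chevG2.Idx) : oe K (e s) = (if rv 11 = s then 1 else 0) - (if hv 1 = s then 1 else 0) -
    (if rv 0 = s then 1 else 0) := by
  unfold oe
  rw [LinearMap.sub_apply, LinearMap.sub_apply, l_e, l_e, l_e]

theorem oe_we : oe K (we K) = 1 := by
  unfold oe
  rw [LinearMap.sub_apply, LinearMap.sub_apply, l_we, l_we, l_we]
  rw [if_neg (by decide +kernel), if_neg (by decide +kernel), if_neg (by decide +kernel), if_neg (by decide +kernel),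
    if_pos rfl, if_neg (by decide +kernel), if_neg (by decide +kernel), if_neg (by decide +kernel), if_neg (by decide +kernel)]
  ring

theorem we_e : a14 K (xg 5 1 * w6 K) (e14 K) = we K := by
  rw [a14_mul, w6_e, C_5_6]
  unfold we
  module

theorem oe_l : l14 K ∘ₗ a14 K (xg 11 1) = oe K := by
  refine LinearMap.ext fun x => ?_
  rw [LinearMap.comp_apply]
  change l (rv 11) _ = l (rv 11) x - l (hv 1) x - l (rv 0) x
  rw [R_11_11]; ring

/-- `F` not additive : dimension at least 13 -/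
theorem thirteen14 (hb : Col (a14 K) (l14 K) F ρ φ₀ (e14 K) v₀) {c : K} (hc : F (1 + c) ≠ 1 + F c) :
    13 ≤ finrank k V := by
  have h := pairs_le (α := Fin 6) (β := Fin 6) (γ := Unit) hc (fun a => e (lx a)) (fun a => l (lx a))
    (fun a b => by rw [l_e]; simp only [lx_inj]) _ (fun a => col_of hb (gv14 K a) (gv14_e a)) _
    (fun a => row_of (rv14 K a) (rv14_l a)) id pj14 _
    (fun m => col_of hb (gp14 c m) (gp14_e c m)) _ (fun m => row_of (rp14 K m) (rp14_l m)) (by decide) (by decide)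
    (fun _ => we K) _ (fun _ => col_of hb (xg 5 1 * w6 K) we_e)
    (fun _ => oe K) _ (fun _ => row_of (xg 11 1) oe_l) (fun _ => by rw [oe_we]; exact one_ne_zero)
    (by
      intro _ b
      have h1 : ∀ b, (rv 11 ≠ lx b ∧ hv 1 ≠ lx b ∧ rv 0 ≠ lx b) ∨ (lx b ≠ rv 6 ∧ lx b ≠ hv 1 ∧ lx b ≠ rv 5) := by
        decide +kernel
      rcases h1 b with ⟨h1, h2, h3⟩ | ⟨h1, h2, h3⟩
      · left; rw [oe_e, if_neg h1, if_neg h2, if_neg h3]; ring
      · right; rw [l_we, if_neg h1, if_neg h2, if_neg h3]; ring)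
    (by
      intro _ b
      have h1 : ∀ b, (rv 11 ≠ lx b ∧ hv 1 ≠ lx b ∧ rv 0 ≠ lx b) ∨
          (rv 11 ≠ lx (pj14 b) ∧ hv 1 ≠ lx (pj14 b) ∧ rv 0 ≠ lx (pj14 b)) := by
        decide +kernel
      rcases h1 b with ⟨h1, h2, h3⟩ | ⟨h1, h2, h3⟩
      · left; rw [id, oe_e, if_neg h1, if_neg h2, if_neg h3]; ring
      · right; rw [oe_e, if_neg h1, if_neg h2, if_neg h3]; ring)
    (by
      intro _ b
      have h1 : ∀ b, (lx b ≠ rv 6 ∧ lx b ≠ hv 1 ∧ lx b ≠ rv 5) ∨
          (lx (pj14 b) ≠ rv 6 ∧ lx (pj14 b) ≠ hv 1 ∧ lx (pj14 b) ≠ rv 5) := by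
        decide +kernel
      rcases h1 b with ⟨h1, h2, h3⟩ | ⟨h1, h2, h3⟩
      · left; rw [id, l_we, if_neg h1, if_neg h2, if_neg h3]; ring
      · right; rw [l_we, if_neg h1, if_neg h2, if_neg h3]; ring)
  simpa using h

/-- the positions -/
def lx7 : Fin 7 → chevG2.Idx := ![hv 1, rv 11, rv 10, rv 5, rv 0, rv 1, rv 6]

theorem lx7_inj : Function.Injective lx7 := by
  have : ∀ a b, lx7 a = lx7 b → a = b := by decide +kernel
  exact this

/-- the positions -/
def lx13 : Fin 13 → chevG2.Idx := ![hv 1, rv 0, rv 1, rv 2, rv 3, rv 4, rv 5, rv 6, rv 7, rv 8, rv 9, rv 10, rv 11]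

theorem lx13_inj : Function.Injective lx13 := by
  have : ∀ a b, lx13 a = lx13 b → a = b := by decide +kernel
  exact this

omit [FiniteDimensional k V] in
theorem two_mem {E : Type*} [AddCommGroup E] [Module K E] (S : Submodule K E) {a b : E}
    (h : ∀ t : K, t • a + t ^ 2 • b ∈ S) {c : K} (h0 : c ≠ 0) (h1 : c ≠ 1) : a ∈ S ∧ b ∈ S := by
  have e1 := h 1
  have e2 := h c
  have e3 : (c - c ^ 2) • b ∈ S := by
    have e4 : (c - c ^ 2) • b = c • ((1 : K) • a + (1 : K) ^ 2 • b) - (c • a + c ^ 2 • b) := by module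
    rw [e4]
    exact Submodule.sub_mem _ (Submodule.smul_mem _ _ e1) e2
  have e5 : c - c ^ 2 ≠ 0 := by
    have : c - c ^ 2 = c * (1 - c) := by ring
    rw [this]
    exact mul_ne_zero h0 (sub_ne_zero.2 (Ne.symm h1))
  have e6 : b ∈ S := (Submodule.smul_mem_iff _ e5).1 e3
  refine ⟨?_, e6⟩
  have e7 : a = ((1 : K) • a + (1 : K) ^ 2 • b) - b := by module
  rw [e7]
  exact Submodule.sub_mem _ e1 e6

section add

variable (hadd : ∀ x y, F (x + y) = F x + F y)
include hadd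

theorem col14 (hb : Col (a14 K) (l14 K) F ρ φ₀ (e14 K) v₀) (a : Fin 6) : e (lx a) ∈ colSub hadd (a14 K) (l14 K) ρ φ₀ :=
  ⟨_, col_of hb (gv14 K a) (gv14_e a)⟩

theorem row14 (a : Fin 6) : l (lx a) ∈ rowSub hadd (a14 K) (l14 K) ρ φ₀ := ⟨_, row_of (rv14 K a) (rv14_l a)⟩

theorem colh (hb : Col (a14 K) (l14 K) F ρ φ₀ (e14 K) v₀) : e (hv 1) ∈ colSub hadd (a14 K) (l14 K) ρ φ₀ := by
  have h3 : we K ∈ colSub hadd (a14 K) (l14 K) ρ φ₀ := ⟨_, col_of hb _ we_e⟩
  have h4 : e (hv 1) = e (lx 5) - e (lx 2) - we K := by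
    unfold we
    change e (hv 1) = e (rv 6) - e (rv 5) - (e (rv 6) - e (hv 1) - e (rv 5))
    module
  rw [h4]
  exact Submodule.sub_mem _ (Submodule.sub_mem _ (col14 hadd hb 5) (col14 hadd hb 2)) h3

theorem rowh : l (hv 1) ∈ rowSub hadd (a14 K) (l14 K) ρ φ₀ := by
  have h3 : oe K ∈ rowSub hadd (a14 K) (l14 K) ρ φ₀ := ⟨_, row_of _ oe_l⟩
  have h4 : l (hv 1) = l (lx 0) - l (lx 3) - oe K := by
    unfold oe
    change l (hv 1) = l (rv 11) - l (rv 0) - (l (rv 11) - l (hv 1) - l (rv 0))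
    module
  rw [h4]
  exact Submodule.sub_mem _ (Submodule.sub_mem _ (row14 hadd 0) (row14 hadd 3)) h3

theorem seven14 (hb : Col (a14 K) (l14 K) F ρ φ₀ (e14 K) v₀) : 7 ≤ finrank k V := by
  have h := le_finrank_of_sub hadd (α := Fin 7) (fun a => e (lx7 a)) (fun a => l (lx7 a))
    (by
      intro a
      fin_cases a
      · exact colh hadd hb
      · exact col14 hadd hb 0
      · exact col14 hadd hb 1
      · exact col14 hadd hb 2
      · exact col14 hadd hb 3
      · exact col14 hadd hb 4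
      · exact col14 hadd hb 5)
    (by
      intro a
      fin_cases a
      · exact rowh hadd
      · exact row14 hadd 0
      · exact row14 hadd 1
      · exact row14 hadd 2
      · exact row14 hadd 3
      · exact row14 hadd 4
      · exact row14 hadd 5)
    (fun a => by rw [l_e, if_pos rfl]; exact one_ne_zero)
    (fun a b hab => by rw [l_e, if_neg (fun h => hab (lx7_inj h))])
  simpa using h

theorem thirteen14' (hb : Col (a14 K) (l14 K) F ρ φ₀ (e14 K) v₀) (h3 : (3 : K) ≠ 0) {c : K} (h0 : c ≠ 0) (h1 : c ≠ 1) :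
    13 ≤ finrank k V := by
  have c11 : e (rv 11) ∈ colSub hadd (a14 K) (l14 K) ρ φ₀ := col14 hadd hb 0
  have c10 : e (rv 10) ∈ colSub hadd (a14 K) (l14 K) ρ φ₀ := col14 hadd hb 1
  have c5 : e (rv 5) ∈ colSub hadd (a14 K) (l14 K) ρ φ₀ := col14 hadd hb 2
  have c0 : e (rv 0) ∈ colSub hadd (a14 K) (l14 K) ρ φ₀ := col14 hadd hb 3
  have c1 : e (rv 1) ∈ colSub hadd (a14 K) (l14 K) ρ φ₀ := col14 hadd hb 4
  have c6 : e (rv 6) ∈ colSub hadd (a14 K) (l14 K) ρ φ₀ := col14 hadd hb 5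
  have l11 : l (rv 11) ∈ rowSub hadd (a14 K) (l14 K) ρ φ₀ := row14 hadd 0
  have l10 : l (rv 10) ∈ rowSub hadd (a14 K) (l14 K) ρ φ₀ := row14 hadd 1
  have l5 : l (rv 5) ∈ rowSub hadd (a14 K) (l14 K) ρ φ₀ := row14 hadd 2
  have l0 : l (rv 0) ∈ rowSub hadd (a14 K) (l14 K) ρ φ₀ := row14 hadd 3
  have l1 : l (rv 1) ∈ rowSub hadd (a14 K) (l14 K) ρ φ₀ := row14 hadd 4
  have l6 : l (rv 6) ∈ rowSub hadd (a14 K) (l14 K) ρ φ₀ := row14 hadd 5
  have q1 := two_mem (colSub hadd (a14 K) (l14 K) ρ φ₀) (a := e (rv 4)) (b := -e (rv 2)) (fun t => by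
    have h5 : t • e (rv 4) + t ^ 2 • -e (rv 2) = a14 K (xg 3 t) (e (rv 6)) - e (rv 6) - t ^ 3 • e (rv 0) := by
      rw [C_3_6]; module
    rw [h5]
    exact Submodule.sub_mem _ (Submodule.sub_mem _ (act_mem_colSub c6 _) c6) (Submodule.smul_mem _ _ c0)) h0 h1
  have c4 := q1.1
  have c2 := (Submodule.neg_mem_iff _).1 q1.2
  have q2 := two_mem (colSub hadd (a14 K) (l14 K) ρ φ₀) (a := e (rv 9)) (b := e (rv 7)) (fun t => by
    have h5 : t • e (rv 9) + t ^ 2 • e (rv 7) = a14 K (xg 3 t) (e (rv 11)) - e (rv 11) + t ^ 3 • e (rv 5) := by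
      rw [C_3_11]; module
    rw [h5]
    exact Submodule.add_mem _ (Submodule.sub_mem _ (act_mem_colSub c11 _) c11) (Submodule.smul_mem _ _ c5)) h0 h1
  have c9 := q2.1
  have c7 := q2.2
  have q3 := two_mem (colSub hadd (a14 K) (l14 K) ρ φ₀) (a := -e (rv 7)) (b := e (rv 3)) (fun t => by
    have h5 : t • -e (rv 7) + t ^ 2 • e (rv 3) = a14 K (xg 2 t) (e (rv 10)) - e (rv 10) - t ^ 3 • e (rv 0) := by
      rw [C_2_10]; module
    rw [h5]
    exact Submodule.sub_mem _ (Submodule.sub_mem _ (act_mem_colSub c10 _) c10) (Submodule.smul_mem _ _ c0)) h0 h1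
  have c3 := q3.2
  have q4 := two_mem (colSub hadd (a14 K) (l14 K) ρ φ₀) (a := -e (rv 8)) (b := -e (rv 4)) (fun t => by
    have h5 : t • -e (rv 8) + t ^ 2 • -e (rv 4) = a14 K (xg 2 t) (e (rv 11)) - e (rv 11) + t ^ 3 • e (rv 1) := by
      rw [C_2_11]; module
    rw [h5]
    exact Submodule.add_mem _ (Submodule.sub_mem _ (act_mem_colSub c11 _) c11) (Submodule.smul_mem _ _ c1)) h0 h1
  have c8 := (Submodule.neg_mem_iff _).1 q4.1
  have z1 := two_mem (rowSub hadd (a14 K) (l14 K) ρ φ₀) (a := (3 : K) • l (rv 9)) (b := (3 : K) • l (rv 7)) (fun t => by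
    have h5 : t • (3 : K) • l (rv 9) + t ^ 2 • (3 : K) • l (rv 7) =
        l (rv 11) ∘ₗ a14 K (xg 8 t) - l (rv 11) + t ^ 3 • l (rv 5) := by
      refine LinearMap.ext fun x => ?_
      simp only [LinearMap.add_apply, LinearMap.sub_apply, LinearMap.smul_apply, LinearMap.comp_apply, R_8_11, smul_eq_mul]
      ring
    rw [h5]
    exact Submodule.add_mem _ (Submodule.sub_mem _ (comp_mem_rowSub l11 _) l11) (Submodule.smul_mem _ _ l5)) h0 h1
  have l9 := (Submodule.smul_mem_iff _ h3).1 z1.1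
  have l7 := (Submodule.smul_mem_iff _ h3).1 z1.2
  have z2 := two_mem (rowSub hadd (a14 K) (l14 K) ρ φ₀) (a := -((3 : K) • l (rv 8))) (b := -((3 : K) • l (rv 4))) (fun t => by
    have h5 : t • -((3 : K) • l (rv 8)) + t ^ 2 • -((3 : K) • l (rv 4)) =
        l (rv 11) ∘ₗ a14 K (xg 9 t) - l (rv 11) + t ^ 3 • l (rv 1) := by
      refine LinearMap.ext fun x => ?_
      simp only [LinearMap.add_apply, LinearMap.sub_apply, LinearMap.smul_apply, LinearMap.comp_apply, R_9_11, smul_eq_mul,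
        LinearMap.neg_apply]
      ring
    rw [h5]
    exact Submodule.add_mem _ (Submodule.sub_mem _ (comp_mem_rowSub l11 _) l11) (Submodule.smul_mem _ _ l1)) h0 h1
  have l8 := (Submodule.smul_mem_iff _ h3).1 ((Submodule.neg_mem_iff _).1 z2.1)
  have l4 := (Submodule.smul_mem_iff _ h3).1 ((Submodule.neg_mem_iff _).1 z2.2)
  have z3 := two_mem (rowSub hadd (a14 K) (l14 K) ρ φ₀) (a := (3 : K) • l (rv 4)) (b := -((3 : K) • l (rv 2))) (fun t => by
    have h5 : t • (3 : K) • l (rv 4) + t ^ 2 • -((3 : K) • l (rv 2)) =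
        l (rv 6) ∘ₗ a14 K (xg 8 t) - l (rv 6) - t ^ 3 • l (rv 0) := by
      refine LinearMap.ext fun x => ?_
      simp only [LinearMap.add_apply, LinearMap.sub_apply, LinearMap.smul_apply, LinearMap.comp_apply, R_8_6, smul_eq_mul,
        LinearMap.neg_apply]
      ring
    rw [h5]
    exact Submodule.sub_mem _ (Submodule.sub_mem _ (comp_mem_rowSub l6 _) l6) (Submodule.smul_mem _ _ l0)) h0 h1
  have l2 := (Submodule.smul_mem_iff _ h3).1 ((Submodule.neg_mem_iff _).1 z3.2)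
  have z4 := two_mem (rowSub hadd (a14 K) (l14 K) ρ φ₀) (a := (3 : K) • l (rv 3)) (b := (3 : K) • l (rv 2)) (fun t => by
    have h5 : t • (3 : K) • l (rv 3) + t ^ 2 • (3 : K) • l (rv 2) =
        l (rv 5) ∘ₗ a14 K (xg 7 t) - l (rv 5) + t ^ 3 • l (rv 1) := by
      refine LinearMap.ext fun x => ?_
      simp only [LinearMap.add_apply, LinearMap.sub_apply, LinearMap.smul_apply, LinearMap.comp_apply, R_7_5, smul_eq_mul,
        LinearMap.neg_apply]
      ring
    rw [h5]
    exact Submodule.add_mem _ (Submodule.sub_mem _ (comp_mem_rowSub l5 _) l5) (Submodule.smul_mem _ _ l1)) h0 h1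
  have l3 := (Submodule.smul_mem_iff _ h3).1 z4.1
  have h := le_finrank_of_sub hadd (α := Fin 13) (fun a => e (lx13 a)) (fun a => l (lx13 a))
    (by
      intro a
      fin_cases a
      · exact colh hadd hb
      · exact c0
      · exact c1
      · exact c2
      · exact c3
      · exact c4
      · exact c5
      · exact c6
      · exact c7
      · exact c8
      · exact c9
      · exact c10
      · exact c11)
    (by
      intro a
      fin_cases a
      · exact rowh hadd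
      · exact l0
      · exact l1
      · exact l2
      · exact l3
      · exact l4
      · exact l5
      · exact l6
      · exact l7
      · exact l8
      · exact l9
      · exact l10
      · exact l11)
    (fun a => by rw [l_e, if_pos rfl]; exact one_ne_zero)
    (fun a b hab => by rw [l_e, if_neg (fun h => hab (lx13_inj h))])
  simpa using h

end add

/-! ### characteristic 3 -/

theorem row_tab : ∀ r : Fin 12, ∀ a : Fin 7, ∀ p ∈ row r (lx7 a), (∃ b, p.1 = lx7 b) ∨ (3 : ℤ) ∣ p.2.2 := by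
  decide +kernel

theorem long_zero [Finite K] (h3 : (3 : K) = 0) (g : GK K) : ∀ x : chevG2.Idx → K, (∀ a, x (lx7 a) = 0) →
    ∀ a, a14 K g x (lx7 a) = 0 := by
  refine g_induction (P := fun g => ∀ x : chevG2.Idx → K, (∀ a, x (lx7 a) = 0) → ∀ a, a14 K g x (lx7 a) = 0) ?_ ?_ ?_ g
  · intro x hx a
    rw [map_one]
    exact hx a
  · intro g h hg hh x hx a
    rw [a14_mul]
    exact hg _ (hh x hx) a
  · intro r hr t x hx a
    have h1 := LinearMap.congr_fun (a14_row (K := K) ⟨r, hr⟩ (lx7 a) t) x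
    have h2 : a14 K (xg r t) x (lx7 a) = (l (lx7 a) ∘ₗ a14 K (xg ((⟨r, hr⟩ : Fin 12) : ℕ) t)) x := rfl
    rw [h2, h1]
    have h4 := row_tab ⟨r, hr⟩ a
    generalize row ⟨r, hr⟩ (lx7 a) = L at h4
    clear h1 h2
    induction L with
    | nil => simp
    | cons p L ih =>
      rw [List.map_cons, List.sum_cons, LinearMap.add_apply, ih fun q hq => h4 q (List.mem_cons_of_mem _ hq), add_zero,
        LinearMap.smul_apply]
      rcases h4 p List.mem_cons_self with ⟨b, h5⟩ | ⟨b, h5⟩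
      · rw [h5, l_apply, hx b, smul_zero]
      · rw [h5, Int.cast_mul]
        have : ((3 : ℤ) : K) = 0 := by rw [← h3]; norm_num
        rw [this, zero_mul, zero_mul, zero_smul]

theorem l14_mul_three [Finite K] (h3 : (3 : K) = 0) (g h : GK K) : l14 K (a14 K (g * h) (e14 K)) =
    ∑ a, l14 K (a14 K g (e (lx7 a))) * l (lx7 a) (a14 K h (e14 K)) := by
  rw [a14_mul]
  generalize a14 K h (e14 K) = y
  have h4 : y = (y - ∑ a, y (lx7 a) • e (lx7 a)) + ∑ a, y (lx7 a) • e (lx7 a) := by abel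
  have h5 : l14 K (a14 K g (y - ∑ a, y (lx7 a) • e (lx7 a))) = 0 := by
    refine long_zero h3 g _ (fun b => ?_) 1
    rw [Pi.sub_apply, Finset.sum_apply, Finset.sum_eq_single b]
    · rw [Pi.smul_apply, e, Pi.single_eq_same, smul_eq_mul, mul_one, sub_self]
    · intro a _ hab
      rw [Pi.smul_apply, e, Pi.single_eq_of_ne (fun h => hab (lx7_inj h).symm), smul_zero]
    · intro h
      exact absurd (Finset.mem_univ b) h
  conv_lhs => rw [h4]
  rw [map_add, map_add, h5, zero_add, map_sum, map_sum]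
  refine Finset.sum_congr rfl fun a _ => ?_
  rw [map_smul, map_smul, smul_eq_mul, mul_comm, l_apply]

theorem le_seven14 [Finite K] (hadd : ∀ x y, F (x + y) = F x + F y)
    (hirr : ∀ L : Submodule k V, (∀ g, ∀ w ∈ L, ρ g w ∈ L) → L = ⊥ ∨ L = ⊤) (hφ : φ₀ ≠ 0) (hv : v₀ ≠ 0)
    (hb : Col (a14 K) (l14 K) F ρ φ₀ (e14 K) v₀) (h3 : (3 : K) = 0) : finrank k V ≤ 7 := by
  have hs : ∀ (s : Finset (Fin 7)) (f : Fin 7 → K), F (∑ a ∈ s, f a) = ∑ a ∈ s, F (f a) := by
    intro s f
    induction s using Finset.induction_on with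
    | empty => simp
    | insert a s ha ih => rw [Finset.sum_insert ha, Finset.sum_insert ha, hadd, ih]
  have h := Cfsg.Agent.H887.DS.finrank_le hirr (M := Fin 7) (φ := φ₀) (v := v₀)
    (c := fun _ => 1)
    (F := fun a g => F (l14 K (a14 K g (e (lx7 a)))))
    (Gf := fun a h => F (l (lx7 a) (a14 K h (e14 K)))) hφ hv (fun g h => by
      rw [hb (g * h), l14_mul_three h3, hs]
      simp only [map_mul, one_mul])
  simpa using h

end low

end Cfsg.Agent.H927.G2
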