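import Cfsg.Agent.H927.G2Tab2
import Cfsg.Agent.H927.G2Lo14

/-!
# Simple modules of `G₂(K)` with highest weight moved by both simple reflections: `n ≥ 13` (helper927)
-/

set_option autoImplicit false
set_option linter.unusedSectionVars false
set_option linter.style.haveILetI false
set_option linter.unusedSimpArgs false

namespace Cfsg.Agent.H927.G2

open Cfsg.Agent.H927.LD
open Module Cfsg.Lie

variable {K : Type} [Field K] [Finite K]

section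

variable {k V : Type*} [Field k] [AddCommGroup V] [Module k V] [FiniteDimensional k V]
  {Fa Fb : K →*₀ k} {ρ : GK K →* Module.End k V} {φ₀ : Dual k V} {v₀ : V}

/-- `v` corresponds to `(x, y)` -/
def Col2 (Fa Fb : K →*₀ k) (ρ : GK K →* Module.End k V) (φ₀ : Dual k V) (x : Fin 8 → K) (y : chevG2.Idx → K) (v : V) : Prop :=
  ∀ g, φ₀ (ρ g v) = Fa (l8 K (a8 K g x)) * Fb (l14 K (a14 K g y))

/-- `ψ` corresponds to `(ℓ, m)` -/
def Row2 (Fa Fb : K →*₀ k) (ρ : GK K →* Module.End k V) (φ₀ : Dual k V) (ℓ : (Fin 8 → K) →ₗ[K] K)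
    (m : (chevG2.Idx → K) →ₗ[K] K) (ψ : Dual k V) : Prop :=
  ∀ x y v, Col2 Fa Fb ρ φ₀ x y v → ψ v = Fa (ℓ x) * Fb (m y)

theorem Col2.move {x y} {v : V} (h : Col2 Fa Fb ρ φ₀ x y v) (a : GK K) : Col2 Fa Fb ρ φ₀ (a8 K a x) (a14 K a y) (ρ a v) := by
  intro g
  have := h (g * a)
  rw [map_mul, map_mul, map_mul] at this
  exact this

theorem Row2.base : Row2 Fa Fb ρ φ₀ (l8 K) (l14 K) φ₀ := by
  intro x y v h
  have := h 1
  rw [map_one, map_one, map_one] at this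
  exact this

theorem Row2.comp {ℓ m} {ψ : Dual k V} (h : Row2 Fa Fb ρ φ₀ ℓ m ψ) (a : GK K) :
    Row2 Fa Fb ρ φ₀ (ℓ ∘ₗ a8 K a) (m ∘ₗ a14 K a) (ψ ∘ₗ ρ a) := fun _ _ _ hx => h _ _ _ (hx.move a)

theorem Col2.smul {x y} {v : V} (h : Col2 Fa Fb ρ φ₀ x y v) (c d : K) : Col2 Fa Fb ρ φ₀ (c • x) (d • y) ((Fa c * Fb d) • v) := by
  intro g
  simp only [map_smul, smul_eq_mul, h g, map_mul]
  ring

theorem Row2.smul {ℓ m} {ψ : Dual k V} (h : Row2 Fa Fb ρ φ₀ ℓ m ψ) (c d : K) :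
    Row2 Fa Fb ρ φ₀ (c • ℓ) (d • m) ((Fa c * Fb d) • ψ) := fun x y v hx => by
  simp only [LinearMap.smul_apply, h x y v hx, smul_eq_mul, map_mul]
  ring

/-- the flags -/
def iw : Fin 12 → Fin 8 := ![6, 2, 1, 4, 5, 3, 3, 5, 4, 1, 2, 6]
/-- the flags -/
def rw_ : Fin 12 → chevG2.Idx := ![rv 11, rv 11, rv 10, rv 6, rv 5, rv 1, rv 0, rv 0, rv 1, rv 5, rv 6, rv 10]

theorem flag_inj : ∀ a b, iw a = iw b → rw_ a = rw_ b → a = b := by decide +kernel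

/-- the column `(i, r)` occurs -/
def FC (K : Type) [Field K] [Finite K] (i : Fin 8) (r : chevG2.Idx) : Prop :=
  ∃ (g : GK K) (c d : K), c ≠ 0 ∧ d ≠ 0 ∧ a8 K g (e8 K) = c • E8 K i ∧ a14 K g (e14 K) = d • e r

/-- the row `(i, r)` occurs -/
def FR (K : Type) [Field K] [Finite K] (i : Fin 8) (r : chevG2.Idx) : Prop :=
  ∃ (g : GK K) (c d : K), c ≠ 0 ∧ d ≠ 0 ∧ l8 K ∘ₗ a8 K g = c • L8 K i ∧ l14 K ∘ₗ a14 K g = d • l r

theorem FC.step {i i' : Fin 8} {r r' : chevG2.Idx} (h : FC K i r) (n : GK K) {c d : K} (hc : c ≠ 0) (hd : d ≠ 0)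
    (h1 : a8 K n (E8 K i) = c • E8 K i') (h2 : a14 K n (e r) = d • e r') : FC K i' r' := by
  obtain ⟨g, a, b, ha, hb, h3, h4⟩ := h
  refine ⟨n * g, a * c, b * d, mul_ne_zero ha hc, mul_ne_zero hb hd, ?_, ?_⟩
  · rw [a8_mul, h3, map_smul, h1, smul_smul]
  · rw [a14_mul, h4, map_smul, h2, smul_smul]

theorem FR.step {i i' : Fin 8} {r r' : chevG2.Idx} (h : FR K i r) (n : GK K) {c d : K} (hc : c ≠ 0) (hd : d ≠ 0)
    (h1 : L8 K i ∘ₗ a8 K n = c • L8 K i') (h2 : l r ∘ₗ a14 K n = d • l r') : FR K i' r' := by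
  obtain ⟨g, a, b, ha, hb, h3, h4⟩ := h
  refine ⟨g * n, a * c, b * d, mul_ne_zero ha hc, mul_ne_zero hb hd, ?_, ?_⟩
  · have : l8 K ∘ₗ a8 K (g * n) = (l8 K ∘ₗ a8 K g) ∘ₗ a8 K n := by rw [map_mul]; rfl
    rw [this, h3, LinearMap.smul_comp, h1, smul_smul]
  · have : l14 K ∘ₗ a14 K (g * n) = (l14 K ∘ₗ a14 K g) ∘ₗ a14 K n := by rw [map_mul]; rfl
    rw [this, h4, LinearMap.smul_comp, h2, smul_smul]

theorem E0 (i j : Fin 8) (c : K) (h : ![(E8 K i) 7, -(E8 K i) 4, (E8 K i) 6, -(E8 K i) 5, -(E8 K i) 1, (E8 K i) 3, -(E8 K i) 2, (E8 K i) 0] = c • E8 K j) :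
    a8 K (n2 K 0) (E8 K i) = c • E8 K j := by rw [a8_n0]; exact h
theorem E1 (i j : Fin 8) (c : K) (h : ![(E8 K i) 0, -(E8 K i) 2, (E8 K i) 1, (E8 K i) 3, -(E8 K i) 5, (E8 K i) 4, (E8 K i) 6, (E8 K i) 7] = c • E8 K j) :
    a8 K (n2 K 1) (E8 K i) = c • E8 K j := by rw [a8_n1]; exact h

theorem FC_all : ∀ a, FC K (iw a) (rw_ a) := by
  have one := one_ne_zero (α := K)
  have mone : (-1 : K) ≠ 0 := neg_ne_zero.2 one
  have f0 : FC K 6 (rv 11) := ⟨1, 1, 1, one, one, by rw [map_one, one_smul]; rfl, by rw [map_one, one_smul]; rfl⟩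
  have f1 : FC K 2 (rv 11) := f0.step (n2 K 0) (c := 1) one one (E0 _ _ _ (by ext j; fin_cases j <;> simp [E8])) NC0_11
  have f2 : FC K 1 (rv 10) := f1.step (n2 K 1) (c := -1) mone mone (E1 _ _ _ (by ext j; fin_cases j <;> simp [E8])) NC1_11
  have f3 : FC K 4 (rv 6) := f2.step (n2 K 0) (c := -1) mone mone (E0 _ _ _ (by ext j; fin_cases j <;> simp [E8])) NC0_10
  have f4 : FC K 5 (rv 5) := f3.step (n2 K 1) (c := 1) one mone (E1 _ _ _ (by ext j; fin_cases j <;> simp [E8])) NC1_6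
  have f5 : FC K 3 (rv 1) := f4.step (n2 K 0) (c := -1) mone one (E0 _ _ _ (by ext j; fin_cases j <;> simp [E8])) NC0_5
  have f6 : FC K 3 (rv 0) := f5.step (n2 K 1) (c := 1) one one (E1 _ _ _ (by ext j; fin_cases j <;> simp [E8])) NC1_1
  have f7 : FC K 5 (rv 0) := f6.step (n2 K 0) (c := 1) one one (E0 _ _ _ (by ext j; fin_cases j <;> simp [E8])) NC0_0
  have f8 : FC K 4 (rv 1) := f7.step (n2 K 1) (c := -1) mone mone (E1 _ _ _ (by ext j; fin_cases j <;> simp [E8])) NC1_0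
  have f9 : FC K 1 (rv 5) := f8.step (n2 K 0) (c := -1) mone mone (E0 _ _ _ (by ext j; fin_cases j <;> simp [E8])) NC0_1
  have f10 : FC K 2 (rv 6) := f9.step (n2 K 1) (c := 1) one mone (E1 _ _ _ (by ext j; fin_cases j <;> simp [E8])) NC1_5
  have f11 : FC K 6 (rv 10) := f10.step (n2 K 0) (c := -1) mone one (E0 _ _ _ (by ext j; fin_cases j <;> simp [E8])) NC0_6
  intro a
  fin_cases a
  · exact f0
  · exact f1
  · exact f2
  · exact f3
  · exact f4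
  · exact f5
  · exact f6
  · exact f7
  · exact f8
  · exact f9
  · exact f10
  · exact f11

theorem L0 (i j : Fin 8) (c : K) (h : ∀ x : Fin 8 → K, ![x 7, -x 4, x 6, -x 5, -x 1, x 3, -x 2, x 0] i = c * x j) :
    L8 K i ∘ₗ a8 K (n2 K 0) = c • L8 K j := by
  refine LinearMap.ext fun x => ?_
  rw [LinearMap.comp_apply, a8_n0]
  exact h x
theorem L1 (i j : Fin 8) (c : K) (h : ∀ x : Fin 8 → K, ![x 0, -x 2, x 1, x 3, -x 5, x 4, x 6, x 7] i = c * x j) :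
    L8 K i ∘ₗ a8 K (n2 K 1) = c • L8 K j := by
  refine LinearMap.ext fun x => ?_
  rw [LinearMap.comp_apply, a8_n1]
  exact h x

theorem FR_all : ∀ a, FR K (iw a) (rw_ a) := by
  have one := one_ne_zero (α := K)
  have mone : (-1 : K) ≠ 0 := neg_ne_zero.2 one
  have f0 : FR K 6 (rv 11) := ⟨1, 1, 1, one, one, by rw [map_one, one_smul]; rfl, by rw [map_one, one_smul]; rfl⟩
  have f1 : FR K 2 (rv 11) := f0.step (n2 K 0) (c := -1) mone one (L0 _ _ _ (fun x => by simp)) NR0_11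
  have f2 : FR K 1 (rv 10) := f1.step (n2 K 1) (c := 1) one one (L1 _ _ _ (fun x => by simp)) NR1_11
  have f3 : FR K 4 (rv 6) := f2.step (n2 K 0) (c := -1) mone one (L0 _ _ _ (fun x => by simp)) NR0_10
  have f4 : FR K 5 (rv 5) := f3.step (n2 K 1) (c := -1) mone mone (L1 _ _ _ (fun x => by simp)) NR1_6
  have f5 : FR K 3 (rv 1) := f4.step (n2 K 0) (c := 1) one mone (L0 _ _ _ (fun x => by simp)) NR0_5
  have f6 : FR K 3 (rv 0) := f5.step (n2 K 1) (c := 1) one mone (L1 _ _ _ (fun x => by simp)) NR1_1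
  have f7 : FR K 5 (rv 0) := f6.step (n2 K 0) (c := -1) mone one (L0 _ _ _ (fun x => by simp)) NR0_0
  have f8 : FR K 4 (rv 1) := f7.step (n2 K 1) (c := 1) one one (L1 _ _ _ (fun x => by simp)) NR1_0
  have f9 : FR K 1 (rv 5) := f8.step (n2 K 0) (c := -1) mone one (L0 _ _ _ (fun x => by simp)) NR0_1
  have f10 : FR K 2 (rv 6) := f9.step (n2 K 1) (c := -1) mone mone (L1 _ _ _ (fun x => by simp)) NR1_5
  have f11 : FR K 6 (rv 10) := f10.step (n2 K 0) (c := 1) one mone (L0 _ _ _ (fun x => by simp)) NR0_6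
  intro a
  fin_cases a
  · exact f0
  · exact f1
  · exact f2
  · exact f3
  · exact f4
  · exact f5
  · exact f6
  · exact f7
  · exact f8
  · exact f9
  · exact f10
  · exact f11

/-- **the identity** -/
theorem ident (hb : Col2 Fa Fb ρ φ₀ (e8 K) (e14 K) v₀) (hn : ¬ 13 ≤ finrank k V)
    {x : Fin 8 → K} {y : chevG2.Idx → K} {u : V} (hu : Col2 Fa Fb ρ φ₀ x y u)
    {ℓ : (Fin 8 → K) →ₗ[K] K} {m : (chevG2.Idx → K) →ₗ[K] K} {ψ : Dual k V} (hψ : Row2 Fa Fb ρ φ₀ ℓ m ψ) :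
    Fa (ℓ x) * Fb (m y) = ∑ a, Fa (ℓ (E8 K (iw a)) * x (iw a)) * Fb (m (e (rw_ a)) * y (rw_ a)) := by
  by_contra hne
  apply hn
  have hc : ∀ a, ∃ v : V, Col2 Fa Fb ρ φ₀ (E8 K (iw a)) (e (rw_ a)) v := by
    intro a
    obtain ⟨g, c, d, h0, h1, h2, h3⟩ := FC_all (K := K) a
    have h4 := (hb.move g).smul c⁻¹ d⁻¹
    rw [h2, h3, smul_smul, smul_smul, inv_mul_cancel₀ h0, inv_mul_cancel₀ h1, one_smul, one_smul] at h4
    exact ⟨_, h4⟩
  have hr : ∀ a, ∃ ψ : Dual k V, Row2 Fa Fb ρ φ₀ (L8 K (iw a)) (l (rw_ a)) ψ := by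
    intro a
    obtain ⟨g, c, d, h0, h1, h2, h3⟩ := FR_all (K := K) a
    have h4 := ((Row2.base (Fa := Fa) (Fb := Fb) (ρ := ρ) (φ₀ := φ₀)).comp g).smul c⁻¹ d⁻¹
    rw [h2, h3, smul_smul, smul_smul, inv_mul_cancel₀ h0, inv_mul_cancel₀ h1, one_smul, one_smul] at h4
    exact ⟨_, h4⟩
  choose v hv using hc
  choose φ hφ using hr
  have h := schur_le (α := Fin 12) (β := Unit) v (fun _ => u) φ (fun _ => ψ) (fun a b => by
    rw [hφ a _ _ _ (hv b), L8_E8, l_e]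
    by_cases hab : a = b
    · subst hab
      rw [if_pos rfl, if_pos rfl, if_pos rfl, map_one, map_one, one_mul]
    · rw [if_neg hab]
      by_cases h1 : iw a = iw b
      · have h2 : rw_ a ≠ rw_ b := fun h => hab (flag_inj a b h1 h)
        rw [if_neg h2, map_zero, mul_zero]
      · rw [if_neg h1, map_zero, zero_mul]) (fun _ _ h => absurd rfl h) (fun _ => by
    rw [hψ _ _ _ hu]
    intro h
    apply hne
    rw [h]
    refine Finset.sum_congr rfl fun a _ => ?_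
    rw [hψ _ _ _ (hv a), hφ a _ _ _ hu, map_mul, map_mul]
    change _ * (Fa (x (iw a)) * Fb (y (rw_ a))) = _
    ring)
  simpa using h

end

end Cfsg.Agent.H927.G2
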