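import Cfsg.Agent.H927.G2Full

/-!
# Simple modules of `G₂(K)` with highest weight moved by both simple reflections: `n ≥ 13` (helper927), end
-/

set_option autoImplicit false
set_option linter.unusedSectionVars false
set_option linter.style.haveILetI false
set_option linter.unusedSimpArgs false

namespace Cfsg.Agent.H927.G2

open Cfsg.Agent.H927.LD
open Module Cfsg.Lie

variable {K : Type} [Field K] [Finite K]

section

variable {k V : Type*} [Field k] [AddCommGroup V] [Module k V] [FiniteDimensional k V]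
  {Fa Fb : K →*₀ k} {ρ : GK K →* Module.End k V} {φ₀ : Dual k V} {v₀ : V}

theorem col2_of (hb : Col2 Fa Fb ρ φ₀ (e8 K) (e14 K) v₀) (g : GK K) {x y} (h1 : a8 K g (e8 K) = x)
    (h2 : a14 K g (e14 K) = y) : Col2 Fa Fb ρ φ₀ x y (ρ g v₀) := h1 ▸ h2 ▸ hb.move g

theorem row2_of (g : GK K) {ℓ m} (h1 : l8 K ∘ₗ a8 K g = ℓ)
    (h2 : l14 K ∘ₗ a14 K g = m) : Row2 Fa Fb ρ φ₀ ℓ m (φ₀ ∘ₗ ρ g) := h1 ▸ h2 ▸ Row2.base.comp g

/-- the sum with two terms -/
theorem ident_two (hb : Col2 Fa Fb ρ φ₀ (e8 K) (e14 K) v₀) (hn : ¬ 13 ≤ finrank k V)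
    {x : Fin 8 → K} {y : chevG2.Idx → K} {u : V} (hu : Col2 Fa Fb ρ φ₀ x y u)
    {ℓ : (Fin 8 → K) →ₗ[K] K} {m : (chevG2.Idx → K) →ₗ[K] K} {ψ : Dual k V} (hψ : Row2 Fa Fb ρ φ₀ ℓ m ψ) (j : Fin 12)
    (hj : j ≠ 0) (h0 : ∀ a, a ≠ 0 → a ≠ j → x (iw a) = 0 ∨ m (e (rw_ a)) = 0) :
    Fa (ℓ x) * Fb (m y) = Fa (ℓ (E8 K 6) * x 6) * Fb (m (e (rv 11)) * y (rv 11)) +
      Fa (ℓ (E8 K (iw j)) * x (iw j)) * Fb (m (e (rw_ j)) * y (rw_ j)) := by
  rw [ident hb hn hu hψ, Finset.sum_eq_add (0 : Fin 12) j hj.symm]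
  · rfl
  · rintro a _ ⟨h1, h2⟩
    rcases h0 a h1 h2 with h | h
    · rw [h, mul_zero, map_zero, zero_mul]
    · rw [h, zero_mul, map_zero, mul_zero]
  · intro h
    exact absurd (Finset.mem_univ _) h
  · intro h
    exact absurd (Finset.mem_univ _) h

theorem add_a (hb : Col2 Fa Fb ρ φ₀ (e8 K) (e14 K) v₀) (hn : ¬ 13 ≤ finrank k V) (c : K) : Fa (1 + c) = 1 + Fa c := by
  have hu := col2_of hb (xg 4 c) (x := E8 K 6 - c • E8 K 2) (y := e (rv 11)) (by
    rw [a8_4]; ext i; fin_cases i <;> simp [e8, E8]) (a14_pos (by norm_num) (by norm_num) c)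
  have hr := row2_of (Fa := Fa) (Fb := Fb) (ρ := ρ) (φ₀ := φ₀) (xg 7 1) (ℓ := L8 K 6 - L8 K 2) (m := l (rv 11)) (by
    refine LinearMap.ext fun x => ?_
    rw [LinearMap.comp_apply, a8_7]
    simp [l8, L8]
    try ring) (LinearMap.ext fun x => a14_neg (by norm_num) (by norm_num) 1 x)
  have h := ident_two hb hn hu hr 1 (by decide) (by
    intro a h1 h2
    have h3 : ∀ a : Fin 12, a ≠ 0 → a ≠ 1 → (iw a ≠ 6 ∧ iw a ≠ 2) ∨ rv 11 ≠ rw_ a := by decide +kernel
    rcases h3 a h1 h2 with ⟨h4, h5⟩ | h4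
    · left
      simp [E8, h4, h5]
    · right
      rw [l_e, if_neg h4])
  simp only [LinearMap.sub_apply, map_sub, map_smul, L8_E8, l_e] at h
  simp [E8, iw, rw_, e] at h
  exact h

theorem add_b (hb : Col2 Fa Fb ρ φ₀ (e8 K) (e14 K) v₀) (hn : ¬ 13 ≤ finrank k V) (c : K) : Fb (1 + c) = 1 + Fb c := by
  have hu := col2_of hb (xg 5 c) (x := E8 K 6) (y := e (rv 11) + c • e (rv 10)) (a8_pos (by norm_num) (by norm_num) c) (by
    unfold e14
    rw [C_5_11]; module)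
  have hr := row2_of (Fa := Fa) (Fb := Fb) (ρ := ρ) (φ₀ := φ₀) (xg 6 1) (ℓ := L8 K 6) (m := l (rv 11) + l (rv 10))
    (LinearMap.ext fun x => a8_neg (by norm_num) 1 x) (by
    refine LinearMap.ext fun x => ?_
    rw [LinearMap.comp_apply]
    unfold l14
    rw [R_6_11, LinearMap.add_apply]
    ring)
  have h := ident_two hb hn hu hr 11 (by decide) (by
    intro a h1 h2
    have h3 : ∀ a : Fin 12, a ≠ 0 → a ≠ 11 → (iw a ≠ 6) ∨ (rv 11 ≠ rw_ a ∧ rv 10 ≠ rw_ a) := by decide +kernel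
    rcases h3 a h1 h2 with h4 | ⟨h4, h5⟩
    · left
      simp [E8, h4]
    · right
      rw [LinearMap.add_apply, l_e, l_e, if_neg h4, if_neg h5, add_zero])
  have hne : (rv 11 : chevG2.Idx) ≠ rv 10 := by decide +kernel
  simp only [LinearMap.add_apply, map_add, map_smul, L8_E8, l_e, if_neg hne, if_neg hne.symm, if_true, smul_zero, smul_eq_mul,
    mul_one, add_zero, zero_add] at h
  simp [E8, iw, rw_, e, hne, hne.symm] at h
  exact h

theorem add_ab (hb : Col2 Fa Fb ρ φ₀ (e8 K) (e14 K) v₀) (hn : ¬ 13 ≤ finrank k V) (c : K) :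
    Fa (1 + c) * Fb (1 + c) = 1 + Fa c * Fb c := by
  have hu := col2_of hb (xg 1 c) (x := E8 K 6 + c • E8 K 4) (y := e (rv 11) - c • e (rv 6)) (by
    rw [a8_1]; ext i; fin_cases i <;> simp [e8, E8]) (by
    unfold e14
    rw [C_1_11]; module)
  have hr := row2_of (Fa := Fa) (Fb := Fb) (ρ := ρ) (φ₀ := φ₀) (xg 10 1) (ℓ := L8 K 6 + L8 K 4) (m := l (rv 11) - l (rv 6)) (by
    refine LinearMap.ext fun x => ?_
    rw [LinearMap.comp_apply, a8_10]
    simp [l8, L8]) (by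
    refine LinearMap.ext fun x => ?_
    rw [LinearMap.comp_apply]
    unfold l14
    rw [R_10_11, LinearMap.sub_apply]
    ring)
  have h := ident_two hb hn hu hr 3 (by decide) (by
    intro a h1 h2
    have h3 : ∀ a : Fin 12, a ≠ 0 → a ≠ 3 → (iw a ≠ 6 ∧ iw a ≠ 4) ∨ (rv 11 ≠ rw_ a ∧ rv 6 ≠ rw_ a) := by decide +kernel
    rcases h3 a h1 h2 with ⟨h4, h5⟩ | ⟨h4, h5⟩
    · left
      simp [E8, h4, h5]
    · right
      rw [LinearMap.sub_apply, l_e, l_e, if_neg h4, if_neg h5, sub_zero])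
  have hne : (rv 11 : chevG2.Idx) ≠ rv 6 := by decide +kernel
  simp only [LinearMap.add_apply, LinearMap.sub_apply, map_add, map_sub, map_smul, L8_E8, l_e, if_neg hne, if_neg hne.symm,
    if_true, smul_zero, smul_eq_mul, mul_one, add_zero, zero_add] at h
  simp [E8, iw, rw_, e, hne, hne.symm] at h
  exact h

theorem add_abb (hb : Col2 Fa Fb ρ φ₀ (e8 K) (e14 K) v₀) (hn : ¬ 13 ≤ finrank k V) (c : K) :
    Fa (1 + c) * Fb (1 + c) ^ 2 = 1 + Fa c * Fb c ^ 2 := by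
  have hu := col2_of hb (xg 0 c) (x := E8 K 6 + c • E8 K 5) (y := e (rv 11) - c • e (hv 0) - (2 * c) • e (hv 1) - c ^ 2 • e (rv 0)) (by
    rw [a8_0]; ext i; fin_cases i <;> simp [e8, E8]) (by
    unfold e14
    rw [C_0_11]; module)
  have hr := row2_of (Fa := Fa) (Fb := Fb) (ρ := ρ) (φ₀ := φ₀) (xg 11 1) (ℓ := L8 K 6 + L8 K 5)
    (m := l (rv 11) - l (hv 1) - l (rv 0)) (by
    refine LinearMap.ext fun x => ?_
    rw [LinearMap.comp_apply, a8_11]
    simp [l8, L8]) (by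
    refine LinearMap.ext fun x => ?_
    rw [LinearMap.comp_apply]
    unfold l14
    rw [R_11_11, LinearMap.sub_apply, LinearMap.sub_apply]
    ring)
  have h := ident_two hb hn hu hr 7 (by decide) (by
    intro a h1 h2
    have h3 : ∀ a : Fin 12, a ≠ 0 → a ≠ 7 → (iw a ≠ 6 ∧ iw a ≠ 5) ∨ (rv 11 ≠ rw_ a ∧ hv 1 ≠ rw_ a ∧ rv 0 ≠ rw_ a) := by
      decide +kernel
    rcases h3 a h1 h2 with ⟨h4, h5⟩ | ⟨h4, h5, h6⟩
    · left
      simp [E8, h4, h5]
    · right
      rw [LinearMap.sub_apply, LinearMap.sub_apply, l_e, l_e, l_e, if_neg h4, if_neg h5, if_neg h6, sub_zero, sub_zero])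
  have h1 : (rv 11 : chevG2.Idx) ≠ rv 0 := by decide +kernel
  have h2 : (rv 11 : chevG2.Idx) ≠ hv 0 := by decide +kernel
  have h3 : (rv 11 : chevG2.Idx) ≠ hv 1 := by decide +kernel
  have h4 : (rv 0 : chevG2.Idx) ≠ hv 0 := by decide +kernel
  have h5 : (rv 0 : chevG2.Idx) ≠ hv 1 := by decide +kernel
  have h6 : (hv 0 : chevG2.Idx) ≠ hv 1 := by decide +kernel
  simp only [LinearMap.add_apply, LinearMap.sub_apply, map_add, map_sub, map_smul, L8_E8, l_e, if_neg h1, if_neg h1.symm,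
    if_neg h2, if_neg h2.symm, if_neg h3, if_neg h3.symm, if_neg h4, if_neg h4.symm, if_neg h5, if_neg h5.symm, if_neg h6,
    if_neg h6.symm, if_true, smul_zero, smul_eq_mul, mul_one, add_zero, zero_add] at h
  simp [E8, iw, rw_, e, h1, h1.symm, h2, h2.symm, h3, h3.symm, h4, h4.symm, h5, h5.symm] at h
  rw [← map_pow, show (1 + c) ^ 2 = 1 + 2 * c + c ^ 2 by ring]
  exact h

/-- **both reflections move the highest weight** -/
theorem thirteen_full (hb : Col2 Fa Fb ρ φ₀ (e8 K) (e14 K) v₀) {c : K} (h0 : c ≠ 0) (h1 : c ≠ 1) : 13 ≤ finrank k V := by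
  by_contra hn
  have A := add_a hb hn
  have B := add_b hb hn
  have AB := add_ab hb hn
  have ABB := add_abb hb hn
  have e1 : ∀ c, Fa c + Fb c = 0 := by
    intro c
    have h := AB c
    rw [A, B] at h
    linear_combination h
  have e2 : (2 : k) = 0 := by
    have h := e1 1
    rw [map_one, map_one] at h
    linear_combination h
  have e3 : (1 + 1 : K) = 0 := by
    have h := A 1
    rw [map_one] at h
    have h' : Fa (1 + 1) = 0 := by rw [h]; linear_combination e2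
    exact (map_eq_zero Fa).1 h'
  have e4 : Fa c * (1 + Fa c) = 0 := by
    have h := ABB c
    rw [A, B] at h
    have h5 : Fb c = Fa c := by linear_combination e1 c - Fa c * e2
    rw [h5] at h
    linear_combination h - (Fa c + Fa c ^ 2) * e2
  rcases mul_eq_zero.1 e4 with h | h
  · exact h0 ((map_eq_zero Fa).1 h)
  · rw [← A] at h
    have h5 : 1 + c = 0 := (map_eq_zero Fa).1 h
    apply h1
    linear_combination h5 - e3

end

end Cfsg.Agent.H927.G2
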