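import Cfsg.Agent.H927.G2Co3

/-!
# Rows and columns of `x_r(t)` in the adjoint representation of `G₂` (helper927)
-/

set_option autoImplicit false
set_option linter.unusedSectionVars false
set_option linter.style.haveILetI false
set_option linter.unusedVariables false
set_option linter.unusedSimpArgs false

namespace Cfsg.Agent.H927.G2

open Cfsg.Lie

variable {K : Type} [Field K]

theorem C_0_1 (t : K) : a14 K (xg 0 t) (e (rv 1)) = e (rv 1) := by
  have h : a14 K (xg 0 t) (e (rv 1)) = _ := a14_e (K := K) 0 (rv 1) t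
  rw [show col 0 (rv 1) = [((rv 1), 0, 1)] by decide +kernel] at h
  simpa [add_assoc] using h

theorem C_0_6 (t : K) : a14 K (xg 0 t) (e (rv 6)) = (t) • e (rv 1) + e (rv 6) := by
  have h : a14 K (xg 0 t) (e (rv 6)) = _ := a14_e (K := K) 0 (rv 6) t
  rw [show col 0 (rv 6) = [((rv 1), 1, 1), ((rv 6), 0, 1)] by decide +kernel] at h
  simpa [add_assoc] using h

theorem C_0_10 (t : K) : a14 K (xg 0 t) (e (rv 10)) = (-t) • e (rv 5) + e (rv 10) := by
  have h : a14 K (xg 0 t) (e (rv 10)) = _ := a14_e (K := K) 0 (rv 10) t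
  rw [show col 0 (rv 10) = [((rv 5), 1, -1), ((rv 10), 0, 1)] by decide +kernel] at h
  simpa [add_assoc] using h

theorem C_1_5 (t : K) : a14 K (xg 1 t) (e (rv 5)) = (t) • e (rv 0) + e (rv 5) := by
  have h : a14 K (xg 1 t) (e (rv 5)) = _ := a14_e (K := K) 1 (rv 5) t
  rw [show col 1 (rv 5) = [((rv 0), 1, 1), ((rv 5), 0, 1)] by decide +kernel] at h
  simpa [add_assoc] using h

theorem C_2_10 (t : K) : a14 K (xg 2 t) (e (rv 10)) = (t ^ 3) • e (rv 0) + (t ^ 2) • e (rv 3) + (-t) • e (rv 7) + e (rv 10) := by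
  have h : a14 K (xg 2 t) (e (rv 10)) = _ := a14_e (K := K) 2 (rv 10) t
  rw [show col 2 (rv 10) = [((rv 0), 3, 1), ((rv 3), 2, 1), ((rv 7), 1, -1), ((rv 10), 0, 1)] by decide +kernel] at h
  simpa [add_assoc] using h

theorem C_2_11 (t : K) : a14 K (xg 2 t) (e (rv 11)) = (-t ^ 3) • e (rv 1) + (-t ^ 2) • e (rv 4) + (-t) • e (rv 8) + e (rv 11) := by
  have h : a14 K (xg 2 t) (e (rv 11)) = _ := a14_e (K := K) 2 (rv 11) t
  rw [show col 2 (rv 11) = [((rv 1), 3, -1), ((rv 4), 2, -1), ((rv 8), 1, -1), ((rv 11), 0, 1)] by decide +kernel] at h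
  simpa [add_assoc] using h

theorem C_3_6 (t : K) : a14 K (xg 3 t) (e (rv 6)) = (t ^ 3) • e (rv 0) + (-t ^ 2) • e (rv 2) + (t) • e (rv 4) + e (rv 6) := by
  have h : a14 K (xg 3 t) (e (rv 6)) = _ := a14_e (K := K) 3 (rv 6) t
  rw [show col 3 (rv 6) = [((rv 0), 3, 1), ((rv 2), 2, -1), ((rv 4), 1, 1), ((rv 6), 0, 1)] by decide +kernel] at h
  simpa [add_assoc] using h

theorem C_3_11 (t : K) : a14 K (xg 3 t) (e (rv 11)) = (-t ^ 3) • e (rv 5) + (t ^ 2) • e (rv 7) + (t) • e (rv 9) + e (rv 11) := by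
  have h : a14 K (xg 3 t) (e (rv 11)) = _ := a14_e (K := K) 3 (rv 11) t
  rw [show col 3 (rv 11) = [((rv 5), 3, -1), ((rv 7), 2, 1), ((rv 9), 1, 1), ((rv 11), 0, 1)] by decide +kernel] at h
  simpa [add_assoc] using h

theorem C_5_0 (t : K) : a14 K (xg 5 t) (e (rv 0)) = e (rv 0) := by
  have h : a14 K (xg 5 t) (e (rv 0)) = _ := a14_e (K := K) 5 (rv 0) t
  rw [show col 5 (rv 0) = [((rv 0), 0, 1)] by decide +kernel] at h
  simpa [add_assoc] using h

theorem C_5_1 (t : K) : a14 K (xg 5 t) (e (rv 1)) = (-t) • e (rv 0) + e (rv 1) := by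
  have h : a14 K (xg 5 t) (e (rv 1)) = _ := a14_e (K := K) 5 (rv 1) t
  rw [show col 5 (rv 1) = [((rv 0), 1, -1), ((rv 1), 0, 1)] by decide +kernel] at h
  simpa [add_assoc] using h

theorem C_5_6 (t : K) : a14 K (xg 5 t) (e (rv 6)) = (-t) • e (hv 1) + (-t ^ 2) • e (rv 5) + e (rv 6) := by
  have h : a14 K (xg 5 t) (e (rv 6)) = _ := a14_e (K := K) 5 (rv 6) t
  rw [show col 5 (rv 6) = [((hv 1), 1, -1), ((rv 5), 2, -1), ((rv 6), 0, 1)] by decide +kernel] at h
  simpa [add_assoc] using h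

theorem C_5_11 (t : K) : a14 K (xg 5 t) (e (rv 11)) = (t) • e (rv 10) + e (rv 11) := by
  have h : a14 K (xg 5 t) (e (rv 11)) = _ := a14_e (K := K) 5 (rv 11) t
  rw [show col 5 (rv 11) = [((rv 10), 1, 1), ((rv 11), 0, 1)] by decide +kernel] at h
  simpa [add_assoc] using h

theorem C_6_0 (t : K) : a14 K (xg 6 t) (e (rv 0)) = e (rv 0) + (-t) • e (rv 1) := by
  have h : a14 K (xg 6 t) (e (rv 0)) = _ := a14_e (K := K) 6 (rv 0) t
  rw [show col 6 (rv 0) = [((rv 0), 0, 1), ((rv 1), 1, -1)] by decide +kernel] at h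
  simpa [add_assoc] using h

theorem C_6_10 (t : K) : a14 K (xg 6 t) (e (rv 10)) = e (rv 10) + (t) • e (rv 11) := by
  have h : a14 K (xg 6 t) (e (rv 10)) = _ := a14_e (K := K) 6 (rv 10) t
  rw [show col 6 (rv 10) = [((rv 10), 0, 1), ((rv 11), 1, 1)] by decide +kernel] at h
  simpa [add_assoc] using h

theorem C_6_11 (t : K) : a14 K (xg 6 t) (e (rv 11)) = e (rv 11) := by
  have h : a14 K (xg 6 t) (e (rv 11)) = _ := a14_e (K := K) 6 (rv 11) t
  rw [show col 6 (rv 11) = [((rv 11), 0, 1)] by decide +kernel] at h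
  simpa [add_assoc] using h

theorem C_10_0 (t : K) : a14 K (xg 10 t) (e (rv 0)) = e (rv 0) + (t) • e (rv 5) := by
  have h : a14 K (xg 10 t) (e (rv 0)) = _ := a14_e (K := K) 10 (rv 0) t
  rw [show col 10 (rv 0) = [((rv 0), 0, 1), ((rv 5), 1, 1)] by decide +kernel] at h
  simpa [add_assoc] using h

theorem C_10_5 (t : K) : a14 K (xg 10 t) (e (rv 5)) = e (rv 5) := by
  have h : a14 K (xg 10 t) (e (rv 5)) = _ := a14_e (K := K) 10 (rv 5) t
  rw [show col 10 (rv 5) = [((rv 5), 0, 1)] by decide +kernel] at h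
  simpa [add_assoc] using h

theorem C_10_6 (t : K) : a14 K (xg 10 t) (e (rv 6)) = e (rv 6) + (-t) • e (rv 11) := by
  have h : a14 K (xg 10 t) (e (rv 6)) = _ := a14_e (K := K) 10 (rv 6) t
  rw [show col 10 (rv 6) = [((rv 6), 0, 1), ((rv 11), 1, -1)] by decide +kernel] at h
  simpa [add_assoc] using h

theorem C_11_1 (t : K) : a14 K (xg 11 t) (e (rv 1)) = e (rv 1) + (t) • e (rv 6) := by
  have h : a14 K (xg 11 t) (e (rv 1)) = _ := a14_e (K := K) 11 (rv 1) t
  rw [show col 11 (rv 1) = [((rv 1), 0, 1), ((rv 6), 1, 1)] by decide +kernel] at h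
  simpa [add_assoc] using h

theorem C_11_5 (t : K) : a14 K (xg 11 t) (e (rv 5)) = e (rv 5) + (-t) • e (rv 10) := by
  have h : a14 K (xg 11 t) (e (rv 5)) = _ := a14_e (K := K) 11 (rv 5) t
  rw [show col 11 (rv 5) = [((rv 5), 0, 1), ((rv 10), 1, -1)] by decide +kernel] at h
  simpa [add_assoc] using h

theorem C_11_10 (t : K) : a14 K (xg 11 t) (e (rv 10)) = e (rv 10) := by
  have h : a14 K (xg 11 t) (e (rv 10)) = _ := a14_e (K := K) 11 (rv 10) t
  rw [show col 11 (rv 10) = [((rv 10), 0, 1)] by decide +kernel] at h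
  simpa [add_assoc] using h

theorem R_0_1 (t : K) (x : chevG2.Idx → K) : l (rv 1) (a14 K (xg 0 t) x) = l (rv 1) x + (t) * l (rv 6) x := by
  have h := LinearMap.congr_fun (a14_row (K := K) 0 (rv 1) t) x
  rw [show row 0 (rv 1) = [((rv 1), 0, 1), ((rv 6), 1, 1)] by decide +kernel] at h
  refine h.trans ?_
  simp [add_assoc]

theorem R_0_5 (t : K) (x : chevG2.Idx → K) : l (rv 5) (a14 K (xg 0 t) x) = l (rv 5) x + (-t) * l (rv 10) x := by
  have h := LinearMap.congr_fun (a14_row (K := K) 0 (rv 5) t) x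
  rw [show row 0 (rv 5) = [((rv 5), 0, 1), ((rv 10), 1, -1)] by decide +kernel] at h
  refine h.trans ?_
  simp [add_assoc]

theorem R_0_10 (t : K) (x : chevG2.Idx → K) : l (rv 10) (a14 K (xg 0 t) x) = l (rv 10) x := by
  have h := LinearMap.congr_fun (a14_row (K := K) 0 (rv 10) t) x
  rw [show row 0 (rv 10) = [((rv 10), 0, 1)] by decide +kernel] at h
  refine h.trans ?_
  simp [add_assoc]

theorem R_1_0 (t : K) (x : chevG2.Idx → K) : l (rv 0) (a14 K (xg 1 t) x) = l (rv 0) x + (t) * l (rv 5) x := by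
  have h := LinearMap.congr_fun (a14_row (K := K) 1 (rv 0) t) x
  rw [show row 1 (rv 0) = [((rv 0), 0, 1), ((rv 5), 1, 1)] by decide +kernel] at h
  refine h.trans ?_
  simp [add_assoc]

theorem R_1_5 (t : K) (x : chevG2.Idx → K) : l (rv 5) (a14 K (xg 1 t) x) = l (rv 5) x := by
  have h := LinearMap.congr_fun (a14_row (K := K) 1 (rv 5) t) x
  rw [show row 1 (rv 5) = [((rv 5), 0, 1)] by decide +kernel] at h
  refine h.trans ?_
  simp [add_assoc]

theorem R_1_6 (t : K) (x : chevG2.Idx → K) : l (rv 6) (a14 K (xg 1 t) x) = l (rv 6) x + (-t) * l (rv 11) x := by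
  have h := LinearMap.congr_fun (a14_row (K := K) 1 (rv 6) t) x
  rw [show row 1 (rv 6) = [((rv 6), 0, 1), ((rv 11), 1, -1)] by decide +kernel] at h
  refine h.trans ?_
  simp [add_assoc]

theorem R_5_0 (t : K) (x : chevG2.Idx → K) : l (rv 0) (a14 K (xg 5 t) x) = l (rv 0) x + (-t) * l (rv 1) x := by
  have h := LinearMap.congr_fun (a14_row (K := K) 5 (rv 0) t) x
  rw [show row 5 (rv 0) = [((rv 0), 0, 1), ((rv 1), 1, -1)] by decide +kernel] at h
  refine h.trans ?_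
  simp [add_assoc]

theorem R_5_10 (t : K) (x : chevG2.Idx → K) : l (rv 10) (a14 K (xg 5 t) x) = l (rv 10) x + (t) * l (rv 11) x := by
  have h := LinearMap.congr_fun (a14_row (K := K) 5 (rv 10) t) x
  rw [show row 5 (rv 10) = [((rv 10), 0, 1), ((rv 11), 1, 1)] by decide +kernel] at h
  refine h.trans ?_
  simp [add_assoc]

theorem R_5_11 (t : K) (x : chevG2.Idx → K) : l (rv 11) (a14 K (xg 5 t) x) = l (rv 11) x := by
  have h := LinearMap.congr_fun (a14_row (K := K) 5 (rv 11) t) x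
  rw [show row 5 (rv 11) = [((rv 11), 0, 1)] by decide +kernel] at h
  refine h.trans ?_
  simp [add_assoc]

theorem R_6_0 (t : K) (x : chevG2.Idx → K) : l (rv 0) (a14 K (xg 6 t) x) = l (rv 0) x := by
  have h := LinearMap.congr_fun (a14_row (K := K) 6 (rv 0) t) x
  rw [show row 6 (rv 0) = [((rv 0), 0, 1)] by decide +kernel] at h
  refine h.trans ?_
  simp [add_assoc]

theorem R_6_1 (t : K) (x : chevG2.Idx → K) : l (rv 1) (a14 K (xg 6 t) x) = (-t) * l (rv 0) x + l (rv 1) x := by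
  have h := LinearMap.congr_fun (a14_row (K := K) 6 (rv 1) t) x
  rw [show row 6 (rv 1) = [((rv 0), 1, -1), ((rv 1), 0, 1)] by decide +kernel] at h
  refine h.trans ?_
  simp [add_assoc]

theorem R_6_11 (t : K) (x : chevG2.Idx → K) : l (rv 11) (a14 K (xg 6 t) x) = (t) * l (rv 10) x + l (rv 11) x := by
  have h := LinearMap.congr_fun (a14_row (K := K) 6 (rv 11) t) x
  rw [show row 6 (rv 11) = [((rv 10), 1, 1), ((rv 11), 0, 1)] by decide +kernel] at h
  refine h.trans ?_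
  simp [add_assoc]

theorem R_7_5 (t : K) (x : chevG2.Idx → K) : l (rv 5) (a14 K (xg 7 t) x) = (-t ^ 3) * l (rv 1) x + (3 * t ^ 2) * l (rv 2) x + (3 * t) * l (rv 3) x + l (rv 5) x := by
  have h := LinearMap.congr_fun (a14_row (K := K) 7 (rv 5) t) x
  rw [show row 7 (rv 5) = [((rv 1), 3, -1), ((rv 2), 2, 3), ((rv 3), 1, 3), ((rv 5), 0, 1)] by decide +kernel] at h
  refine h.trans ?_
  simp [add_assoc]

theorem R_8_6 (t : K) (x : chevG2.Idx → K) : l (rv 6) (a14 K (xg 8 t) x) = (t ^ 3) * l (rv 0) x + (-3 * t ^ 2) * l (rv 2) x + (3 * t) * l (rv 4) x + l (rv 6) x := by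
  have h := LinearMap.congr_fun (a14_row (K := K) 8 (rv 6) t) x
  rw [show row 8 (rv 6) = [((rv 0), 3, 1), ((rv 2), 2, -3), ((rv 4), 1, 3), ((rv 6), 0, 1)] by decide +kernel] at h
  refine h.trans ?_
  simp [add_assoc]

theorem R_8_11 (t : K) (x : chevG2.Idx → K) : l (rv 11) (a14 K (xg 8 t) x) = (-t ^ 3) * l (rv 5) x + (3 * t ^ 2) * l (rv 7) x + (3 * t) * l (rv 9) x + l (rv 11) x := by
  have h := LinearMap.congr_fun (a14_row (K := K) 8 (rv 11) t) x
  rw [show row 8 (rv 11) = [((rv 5), 3, -1), ((rv 7), 2, 3), ((rv 9), 1, 3), ((rv 11), 0, 1)] by decide +kernel] at h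
  refine h.trans ?_
  simp [add_assoc]

theorem R_9_11 (t : K) (x : chevG2.Idx → K) : l (rv 11) (a14 K (xg 9 t) x) = (-t ^ 3) * l (rv 1) x + (-3 * t ^ 2) * l (rv 4) x + (-3 * t) * l (rv 8) x + l (rv 11) x := by
  have h := LinearMap.congr_fun (a14_row (K := K) 9 (rv 11) t) x
  rw [show row 9 (rv 11) = [((rv 1), 3, -1), ((rv 4), 2, -3), ((rv 8), 1, -3), ((rv 11), 0, 1)] by decide +kernel] at h
  refine h.trans ?_
  simp [add_assoc]

theorem R_10_5 (t : K) (x : chevG2.Idx → K) : l (rv 5) (a14 K (xg 10 t) x) = (t) * l (rv 0) x + l (rv 5) x := by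
  have h := LinearMap.congr_fun (a14_row (K := K) 10 (rv 5) t) x
  rw [show row 10 (rv 5) = [((rv 0), 1, 1), ((rv 5), 0, 1)] by decide +kernel] at h
  refine h.trans ?_
  simp [add_assoc]

theorem R_11_1 (t : K) (x : chevG2.Idx → K) : l (rv 1) (a14 K (xg 11 t) x) = l (rv 1) x := by
  have h := LinearMap.congr_fun (a14_row (K := K) 11 (rv 1) t) x
  rw [show row 11 (rv 1) = [((rv 1), 0, 1)] by decide +kernel] at h
  refine h.trans ?_
  simp [add_assoc]

theorem R_11_6 (t : K) (x : chevG2.Idx → K) : l (rv 6) (a14 K (xg 11 t) x) = (t) * l (rv 1) x + l (rv 6) x := by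
  have h := LinearMap.congr_fun (a14_row (K := K) 11 (rv 6) t) x
  rw [show row 11 (rv 6) = [((rv 1), 1, 1), ((rv 6), 0, 1)] by decide +kernel] at h
  refine h.trans ?_
  simp [add_assoc]

theorem R_11_10 (t : K) (x : chevG2.Idx → K) : l (rv 10) (a14 K (xg 11 t) x) = (-t) * l (rv 5) x + l (rv 10) x := by
  have h := LinearMap.congr_fun (a14_row (K := K) 11 (rv 10) t) x
  rw [show row 11 (rv 10) = [((rv 5), 1, -1), ((rv 10), 0, 1)] by decide +kernel] at h
  refine h.trans ?_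
  simp [add_assoc]

theorem R_11_11 (t : K) (x : chevG2.Idx → K) : l (rv 11) (a14 K (xg 11 t) x) = (-t) * l (hv 1) x + (-t ^ 2) * l (rv 0) x + l (rv 11) x := by
  have h := LinearMap.congr_fun (a14_row (K := K) 11 (rv 11) t) x
  rw [show row 11 (rv 11) = [((hv 1), 1, -1), ((rv 0), 2, -1), ((rv 11), 0, 1)] by decide +kernel] at h
  refine h.trans ?_
  simp [add_assoc]

end Cfsg.Agent.H927.G2
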