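import Cfsg.Agent.H927.G2Tab

/-!
# Rows and columns of `x_r(t)` and the reflections in the adjoint representation of `G₂` (helper927)
-/

set_option autoImplicit false
set_option linter.unusedSectionVars false
set_option linter.style.haveILetI false
set_option linter.unusedVariables false
set_option linter.unusedSimpArgs false

namespace Cfsg.Agent.H927.G2

open Cfsg.Lie

variable {K : Type} [Field K]

theorem C_0_11 (t : K) : a14 K (xg 0 t) (e (rv 11)) = (-t) • e (hv 0) + (-2 * t) • e (hv 1) + (-t ^ 2) • e (rv 0) + e (rv 11) := by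
  have h : a14 K (xg 0 t) (e (rv 11)) = _ := a14_e (K := K) 0 (rv 11) t
  rw [show col 0 (rv 11) = [((hv 0), 1, -1), ((hv 1), 1, -2), ((rv 0), 2, -1), ((rv 11), 0, 1)] by decide +kernel] at h
  simpa [add_assoc] using h

theorem C_1_11 (t : K) : a14 K (xg 1 t) (e (rv 11)) = (-t) • e (rv 6) + e (rv 11) := by
  have h : a14 K (xg 1 t) (e (rv 11)) = _ := a14_e (K := K) 1 (rv 11) t
  rw [show col 1 (rv 11) = [((rv 6), 1, -1), ((rv 11), 0, 1)] by decide +kernel] at h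
  simpa [add_assoc] using h

theorem C_4_0 (t : K) : a14 K (xg 4 t) (e (rv 0)) = e (rv 0) := by
  have h : a14 K (xg 4 t) (e (rv 0)) = _ := a14_e (K := K) 4 (rv 0) t
  rw [show col 4 (rv 0) = [((rv 0), 0, 1)] by decide +kernel] at h
  simpa [add_assoc] using h

theorem C_4_1 (t : K) : a14 K (xg 4 t) (e (rv 1)) = e (rv 1) := by
  have h : a14 K (xg 4 t) (e (rv 1)) = _ := a14_e (K := K) 4 (rv 1) t
  rw [show col 4 (rv 1) = [((rv 1), 0, 1)] by decide +kernel] at h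
  simpa [add_assoc] using h

theorem C_4_2 (t : K) : a14 K (xg 4 t) (e (rv 2)) = (-3 * t) • e (rv 1) + e (rv 2) := by
  have h : a14 K (xg 4 t) (e (rv 2)) = _ := a14_e (K := K) 4 (rv 2) t
  rw [show col 4 (rv 2) = [((rv 1), 1, -3), ((rv 2), 0, 1)] by decide +kernel] at h
  simpa [add_assoc] using h

theorem C_4_3 (t : K) : a14 K (xg 4 t) (e (rv 3)) = (-3 * t ^ 2) • e (rv 1) + (2 * t) • e (rv 2) + e (rv 3) := by
  have h : a14 K (xg 4 t) (e (rv 3)) = _ := a14_e (K := K) 4 (rv 3) t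
  rw [show col 4 (rv 3) = [((rv 1), 2, -3), ((rv 2), 1, 2), ((rv 3), 0, 1)] by decide +kernel] at h
  simpa [add_assoc] using h

theorem C_4_5 (t : K) : a14 K (xg 4 t) (e (rv 5)) = (-t ^ 3) • e (rv 1) + (t ^ 2) • e (rv 2) + (t) • e (rv 3) + e (rv 5) := by
  have h : a14 K (xg 4 t) (e (rv 5)) = _ := a14_e (K := K) 4 (rv 5) t
  rw [show col 4 (rv 5) = [((rv 1), 3, -1), ((rv 2), 2, 1), ((rv 3), 1, 1), ((rv 5), 0, 1)] by decide +kernel] at h
  simpa [add_assoc] using h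

theorem C_4_6 (t : K) : a14 K (xg 4 t) (e (rv 6)) = e (rv 6) := by
  have h : a14 K (xg 4 t) (e (rv 6)) = _ := a14_e (K := K) 4 (rv 6) t
  rw [show col 4 (rv 6) = [((rv 6), 0, 1)] by decide +kernel] at h
  simpa [add_assoc] using h

theorem C_4_8 (t : K) : a14 K (xg 4 t) (e (rv 8)) = (-3 * t) • e (rv 6) + e (rv 8) := by
  have h : a14 K (xg 4 t) (e (rv 8)) = _ := a14_e (K := K) 4 (rv 8) t
  rw [show col 4 (rv 8) = [((rv 6), 1, -3), ((rv 8), 0, 1)] by decide +kernel] at h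
  simpa [add_assoc] using h

theorem C_4_9 (t : K) : a14 K (xg 4 t) (e (rv 9)) = (3 * t ^ 2) • e (rv 6) + (-2 * t) • e (rv 8) + e (rv 9) := by
  have h : a14 K (xg 4 t) (e (rv 9)) = _ := a14_e (K := K) 4 (rv 9) t
  rw [show col 4 (rv 9) = [((rv 6), 2, 3), ((rv 8), 1, -2), ((rv 9), 0, 1)] by decide +kernel] at h
  simpa [add_assoc] using h

theorem C_4_10 (t : K) : a14 K (xg 4 t) (e (rv 10)) = (t ^ 3) • e (rv 6) + (-t ^ 2) • e (rv 8) + (t) • e (rv 9) + e (rv 10) := by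
  have h : a14 K (xg 4 t) (e (rv 10)) = _ := a14_e (K := K) 4 (rv 10) t
  rw [show col 4 (rv 10) = [((rv 6), 3, 1), ((rv 8), 2, -1), ((rv 9), 1, 1), ((rv 10), 0, 1)] by decide +kernel] at h
  simpa [add_assoc] using h

theorem C_4_11 (t : K) : a14 K (xg 4 t) (e (rv 11)) = e (rv 11) := by
  have h : a14 K (xg 4 t) (e (rv 11)) = _ := a14_e (K := K) 4 (rv 11) t
  rw [show col 4 (rv 11) = [((rv 11), 0, 1)] by decide +kernel] at h
  simpa [add_assoc] using h

theorem C_5_h1 (t : K) : a14 K (xg 5 t) (e (hv 1)) = e (hv 1) + (2 * t) • e (rv 5) := by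
  have h : a14 K (xg 5 t) (e (hv 1)) = _ := a14_e (K := K) 5 (hv 1) t
  rw [show col 5 (hv 1) = [((hv 1), 0, 1), ((rv 5), 1, 2)] by decide +kernel] at h
  simpa [add_assoc] using h

theorem C_5_5 (t : K) : a14 K (xg 5 t) (e (rv 5)) = e (rv 5) := by
  have h : a14 K (xg 5 t) (e (rv 5)) = _ := a14_e (K := K) 5 (rv 5) t
  rw [show col 5 (rv 5) = [((rv 5), 0, 1)] by decide +kernel] at h
  simpa [add_assoc] using h

theorem C_5_10 (t : K) : a14 K (xg 5 t) (e (rv 10)) = e (rv 10) := by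
  have h : a14 K (xg 5 t) (e (rv 10)) = _ := a14_e (K := K) 5 (rv 10) t
  rw [show col 5 (rv 10) = [((rv 10), 0, 1)] by decide +kernel] at h
  simpa [add_assoc] using h

theorem C_6_h1 (t : K) : a14 K (xg 6 t) (e (hv 1)) = e (hv 1) + (-2 * t) • e (rv 6) := by
  have h : a14 K (xg 6 t) (e (hv 1)) = _ := a14_e (K := K) 6 (hv 1) t
  rw [show col 6 (hv 1) = [((hv 1), 0, 1), ((rv 6), 1, -2)] by decide +kernel] at h
  simpa [add_assoc] using h

theorem C_6_1 (t : K) : a14 K (xg 6 t) (e (rv 1)) = e (rv 1) := by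
  have h : a14 K (xg 6 t) (e (rv 1)) = _ := a14_e (K := K) 6 (rv 1) t
  rw [show col 6 (rv 1) = [((rv 1), 0, 1)] by decide +kernel] at h
  simpa [add_assoc] using h

theorem C_6_5 (t : K) : a14 K (xg 6 t) (e (rv 5)) = (t) • e (hv 1) + e (rv 5) + (-t ^ 2) • e (rv 6) := by
  have h : a14 K (xg 6 t) (e (rv 5)) = _ := a14_e (K := K) 6 (rv 5) t
  rw [show col 6 (rv 5) = [((hv 1), 1, 1), ((rv 5), 0, 1), ((rv 6), 2, -1)] by decide +kernel] at h
  simpa [add_assoc] using h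

theorem C_6_6 (t : K) : a14 K (xg 6 t) (e (rv 6)) = e (rv 6) := by
  have h : a14 K (xg 6 t) (e (rv 6)) = _ := a14_e (K := K) 6 (rv 6) t
  rw [show col 6 (rv 6) = [((rv 6), 0, 1)] by decide +kernel] at h
  simpa [add_assoc] using h

theorem C_7_0 (t : K) : a14 K (xg 7 t) (e (rv 0)) = e (rv 0) := by
  have h : a14 K (xg 7 t) (e (rv 0)) = _ := a14_e (K := K) 7 (rv 0) t
  rw [show col 7 (rv 0) = [((rv 0), 0, 1)] by decide +kernel] at h
  simpa [add_assoc] using h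

theorem C_7_1 (t : K) : a14 K (xg 7 t) (e (rv 1)) = e (rv 1) + (-t) • e (rv 2) + (-t ^ 2) • e (rv 3) + (-t ^ 3) • e (rv 5) := by
  have h : a14 K (xg 7 t) (e (rv 1)) = _ := a14_e (K := K) 7 (rv 1) t
  rw [show col 7 (rv 1) = [((rv 1), 0, 1), ((rv 2), 1, -1), ((rv 3), 2, -1), ((rv 5), 3, -1)] by decide +kernel] at h
  simpa [add_assoc] using h

theorem C_7_2 (t : K) : a14 K (xg 7 t) (e (rv 2)) = e (rv 2) + (2 * t) • e (rv 3) + (3 * t ^ 2) • e (rv 5) := by
  have h : a14 K (xg 7 t) (e (rv 2)) = _ := a14_e (K := K) 7 (rv 2) t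
  rw [show col 7 (rv 2) = [((rv 2), 0, 1), ((rv 3), 1, 2), ((rv 5), 2, 3)] by decide +kernel] at h
  simpa [add_assoc] using h

theorem C_7_3 (t : K) : a14 K (xg 7 t) (e (rv 3)) = e (rv 3) + (3 * t) • e (rv 5) := by
  have h : a14 K (xg 7 t) (e (rv 3)) = _ := a14_e (K := K) 7 (rv 3) t
  rw [show col 7 (rv 3) = [((rv 3), 0, 1), ((rv 5), 1, 3)] by decide +kernel] at h
  simpa [add_assoc] using h

theorem C_7_5 (t : K) : a14 K (xg 7 t) (e (rv 5)) = e (rv 5) := by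
  have h : a14 K (xg 7 t) (e (rv 5)) = _ := a14_e (K := K) 7 (rv 5) t
  rw [show col 7 (rv 5) = [((rv 5), 0, 1)] by decide +kernel] at h
  simpa [add_assoc] using h

theorem C_7_6 (t : K) : a14 K (xg 7 t) (e (rv 6)) = e (rv 6) + (-t) • e (rv 8) + (t ^ 2) • e (rv 9) + (t ^ 3) • e (rv 10) := by
  have h : a14 K (xg 7 t) (e (rv 6)) = _ := a14_e (K := K) 7 (rv 6) t
  rw [show col 7 (rv 6) = [((rv 6), 0, 1), ((rv 8), 1, -1), ((rv 9), 2, 1), ((rv 10), 3, 1)] by decide +kernel] at h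
  simpa [add_assoc] using h

theorem C_7_8 (t : K) : a14 K (xg 7 t) (e (rv 8)) = e (rv 8) + (-2 * t) • e (rv 9) + (-3 * t ^ 2) • e (rv 10) := by
  have h : a14 K (xg 7 t) (e (rv 8)) = _ := a14_e (K := K) 7 (rv 8) t
  rw [show col 7 (rv 8) = [((rv 8), 0, 1), ((rv 9), 1, -2), ((rv 10), 2, -3)] by decide +kernel] at h
  simpa [add_assoc] using h

theorem C_7_9 (t : K) : a14 K (xg 7 t) (e (rv 9)) = e (rv 9) + (3 * t) • e (rv 10) := by
  have h : a14 K (xg 7 t) (e (rv 9)) = _ := a14_e (K := K) 7 (rv 9) t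
  rw [show col 7 (rv 9) = [((rv 9), 0, 1), ((rv 10), 1, 3)] by decide +kernel] at h
  simpa [add_assoc] using h

theorem C_7_10 (t : K) : a14 K (xg 7 t) (e (rv 10)) = e (rv 10) := by
  have h : a14 K (xg 7 t) (e (rv 10)) = _ := a14_e (K := K) 7 (rv 10) t
  rw [show col 7 (rv 10) = [((rv 10), 0, 1)] by decide +kernel] at h
  simpa [add_assoc] using h

theorem C_7_11 (t : K) : a14 K (xg 7 t) (e (rv 11)) = e (rv 11) := by
  have h : a14 K (xg 7 t) (e (rv 11)) = _ := a14_e (K := K) 7 (rv 11) t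
  rw [show col 7 (rv 11) = [((rv 11), 0, 1)] by decide +kernel] at h
  simpa [add_assoc] using h

theorem R_4_0 (t : K) (x : chevG2.Idx → K) : l (rv 0) (a14 K (xg 4 t) x) = l (rv 0) x := by
  have h := LinearMap.congr_fun (a14_row (K := K) 4 (rv 0) t) x
  rw [show row 4 (rv 0) = [((rv 0), 0, 1)] by decide +kernel] at h
  refine h.trans ?_
  simp [add_assoc]

theorem R_4_1 (t : K) (x : chevG2.Idx → K) : l (rv 1) (a14 K (xg 4 t) x) = l (rv 1) x + (-3 * t) * l (rv 2) x + (-3 * t ^ 2) * l (rv 3) x + (-t ^ 3) * l (rv 5) x := by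
  have h := LinearMap.congr_fun (a14_row (K := K) 4 (rv 1) t) x
  rw [show row 4 (rv 1) = [((rv 1), 0, 1), ((rv 2), 1, -3), ((rv 3), 2, -3), ((rv 5), 3, -1)] by decide +kernel] at h
  refine h.trans ?_
  simp [add_assoc]

theorem R_4_2 (t : K) (x : chevG2.Idx → K) : l (rv 2) (a14 K (xg 4 t) x) = l (rv 2) x + (2 * t) * l (rv 3) x + (t ^ 2) * l (rv 5) x := by
  have h := LinearMap.congr_fun (a14_row (K := K) 4 (rv 2) t) x
  rw [show row 4 (rv 2) = [((rv 2), 0, 1), ((rv 3), 1, 2), ((rv 5), 2, 1)] by decide +kernel] at h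
  refine h.trans ?_
  simp [add_assoc]

theorem R_4_3 (t : K) (x : chevG2.Idx → K) : l (rv 3) (a14 K (xg 4 t) x) = l (rv 3) x + (t) * l (rv 5) x := by
  have h := LinearMap.congr_fun (a14_row (K := K) 4 (rv 3) t) x
  rw [show row 4 (rv 3) = [((rv 3), 0, 1), ((rv 5), 1, 1)] by decide +kernel] at h
  refine h.trans ?_
  simp [add_assoc]

theorem R_4_5 (t : K) (x : chevG2.Idx → K) : l (rv 5) (a14 K (xg 4 t) x) = l (rv 5) x := by
  have h := LinearMap.congr_fun (a14_row (K := K) 4 (rv 5) t) x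
  rw [show row 4 (rv 5) = [((rv 5), 0, 1)] by decide +kernel] at h
  refine h.trans ?_
  simp [add_assoc]

theorem R_4_6 (t : K) (x : chevG2.Idx → K) : l (rv 6) (a14 K (xg 4 t) x) = l (rv 6) x + (-3 * t) * l (rv 8) x + (3 * t ^ 2) * l (rv 9) x + (t ^ 3) * l (rv 10) x := by
  have h := LinearMap.congr_fun (a14_row (K := K) 4 (rv 6) t) x
  rw [show row 4 (rv 6) = [((rv 6), 0, 1), ((rv 8), 1, -3), ((rv 9), 2, 3), ((rv 10), 3, 1)] by decide +kernel] at h
  refine h.trans ?_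
  simp [add_assoc]

theorem R_4_8 (t : K) (x : chevG2.Idx → K) : l (rv 8) (a14 K (xg 4 t) x) = l (rv 8) x + (-2 * t) * l (rv 9) x + (-t ^ 2) * l (rv 10) x := by
  have h := LinearMap.congr_fun (a14_row (K := K) 4 (rv 8) t) x
  rw [show row 4 (rv 8) = [((rv 8), 0, 1), ((rv 9), 1, -2), ((rv 10), 2, -1)] by decide +kernel] at h
  refine h.trans ?_
  simp [add_assoc]

theorem R_4_9 (t : K) (x : chevG2.Idx → K) : l (rv 9) (a14 K (xg 4 t) x) = l (rv 9) x + (t) * l (rv 10) x := by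
  have h := LinearMap.congr_fun (a14_row (K := K) 4 (rv 9) t) x
  rw [show row 4 (rv 9) = [((rv 9), 0, 1), ((rv 10), 1, 1)] by decide +kernel] at h
  refine h.trans ?_
  simp [add_assoc]

theorem R_4_10 (t : K) (x : chevG2.Idx → K) : l (rv 10) (a14 K (xg 4 t) x) = l (rv 10) x := by
  have h := LinearMap.congr_fun (a14_row (K := K) 4 (rv 10) t) x
  rw [show row 4 (rv 10) = [((rv 10), 0, 1)] by decide +kernel] at h
  refine h.trans ?_
  simp [add_assoc]

theorem R_4_11 (t : K) (x : chevG2.Idx → K) : l (rv 11) (a14 K (xg 4 t) x) = l (rv 11) x := by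
  have h := LinearMap.congr_fun (a14_row (K := K) 4 (rv 11) t) x
  rw [show row 4 (rv 11) = [((rv 11), 0, 1)] by decide +kernel] at h
  refine h.trans ?_
  simp [add_assoc]

theorem R_5_h0 (t : K) (x : chevG2.Idx → K) : l (hv 0) (a14 K (xg 5 t) x) = l (hv 0) x := by
  have h := LinearMap.congr_fun (a14_row (K := K) 5 (hv 0) t) x
  rw [show row 5 (hv 0) = [((hv 0), 0, 1)] by decide +kernel] at h
  refine h.trans ?_
  simp [add_assoc]

theorem R_5_h1 (t : K) (x : chevG2.Idx → K) : l (hv 1) (a14 K (xg 5 t) x) = l (hv 1) x + (-t) * l (rv 6) x := by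
  have h := LinearMap.congr_fun (a14_row (K := K) 5 (hv 1) t) x
  rw [show row 5 (hv 1) = [((hv 1), 0, 1), ((rv 6), 1, -1)] by decide +kernel] at h
  refine h.trans ?_
  simp [add_assoc]

theorem R_5_1 (t : K) (x : chevG2.Idx → K) : l (rv 1) (a14 K (xg 5 t) x) = l (rv 1) x := by
  have h := LinearMap.congr_fun (a14_row (K := K) 5 (rv 1) t) x
  rw [show row 5 (rv 1) = [((rv 1), 0, 1)] by decide +kernel] at h
  refine h.trans ?_
  simp [add_assoc]

theorem R_5_5 (t : K) (x : chevG2.Idx → K) : l (rv 5) (a14 K (xg 5 t) x) = (-3 * t) * l (hv 0) x + (2 * t) * l (hv 1) x + l (rv 5) x + (-t ^ 2) * l (rv 6) x := by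
  have h := LinearMap.congr_fun (a14_row (K := K) 5 (rv 5) t) x
  rw [show row 5 (rv 5) = [((hv 0), 1, -3), ((hv 1), 1, 2), ((rv 5), 0, 1), ((rv 6), 2, -1)] by decide +kernel] at h
  refine h.trans ?_
  simp [add_assoc]

theorem R_5_6 (t : K) (x : chevG2.Idx → K) : l (rv 6) (a14 K (xg 5 t) x) = l (rv 6) x := by
  have h := LinearMap.congr_fun (a14_row (K := K) 5 (rv 6) t) x
  rw [show row 5 (rv 6) = [((rv 6), 0, 1)] by decide +kernel] at h
  refine h.trans ?_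
  simp [add_assoc]

theorem R_6_h0 (t : K) (x : chevG2.Idx → K) : l (hv 0) (a14 K (xg 6 t) x) = l (hv 0) x := by
  have h := LinearMap.congr_fun (a14_row (K := K) 6 (hv 0) t) x
  rw [show row 6 (hv 0) = [((hv 0), 0, 1)] by decide +kernel] at h
  refine h.trans ?_
  simp [add_assoc]

theorem R_6_h1 (t : K) (x : chevG2.Idx → K) : l (hv 1) (a14 K (xg 6 t) x) = l (hv 1) x + (t) * l (rv 5) x := by
  have h := LinearMap.congr_fun (a14_row (K := K) 6 (hv 1) t) x
  rw [show row 6 (hv 1) = [((hv 1), 0, 1), ((rv 5), 1, 1)] by decide +kernel] at h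
  refine h.trans ?_
  simp [add_assoc]

theorem R_6_5 (t : K) (x : chevG2.Idx → K) : l (rv 5) (a14 K (xg 6 t) x) = l (rv 5) x := by
  have h := LinearMap.congr_fun (a14_row (K := K) 6 (rv 5) t) x
  rw [show row 6 (rv 5) = [((rv 5), 0, 1)] by decide +kernel] at h
  refine h.trans ?_
  simp [add_assoc]

theorem R_6_6 (t : K) (x : chevG2.Idx → K) : l (rv 6) (a14 K (xg 6 t) x) = (3 * t) * l (hv 0) x + (-2 * t) * l (hv 1) x + (-t ^ 2) * l (rv 5) x + l (rv 6) x := by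
  have h := LinearMap.congr_fun (a14_row (K := K) 6 (rv 6) t) x
  rw [show row 6 (rv 6) = [((hv 0), 1, 3), ((hv 1), 1, -2), ((rv 5), 2, -1), ((rv 6), 0, 1)] by decide +kernel] at h
  refine h.trans ?_
  simp [add_assoc]

theorem R_6_10 (t : K) (x : chevG2.Idx → K) : l (rv 10) (a14 K (xg 6 t) x) = l (rv 10) x := by
  have h := LinearMap.congr_fun (a14_row (K := K) 6 (rv 10) t) x
  rw [show row 6 (rv 10) = [((rv 10), 0, 1)] by decide +kernel] at h
  refine h.trans ?_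
  simp [add_assoc]

theorem R_7_0 (t : K) (x : chevG2.Idx → K) : l (rv 0) (a14 K (xg 7 t) x) = l (rv 0) x := by
  have h := LinearMap.congr_fun (a14_row (K := K) 7 (rv 0) t) x
  rw [show row 7 (rv 0) = [((rv 0), 0, 1)] by decide +kernel] at h
  refine h.trans ?_
  simp [add_assoc]

theorem R_7_1 (t : K) (x : chevG2.Idx → K) : l (rv 1) (a14 K (xg 7 t) x) = l (rv 1) x := by
  have h := LinearMap.congr_fun (a14_row (K := K) 7 (rv 1) t) x
  rw [show row 7 (rv 1) = [((rv 1), 0, 1)] by decide +kernel] at h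
  refine h.trans ?_
  simp [add_assoc]

theorem R_7_2 (t : K) (x : chevG2.Idx → K) : l (rv 2) (a14 K (xg 7 t) x) = (-t) * l (rv 1) x + l (rv 2) x := by
  have h := LinearMap.congr_fun (a14_row (K := K) 7 (rv 2) t) x
  rw [show row 7 (rv 2) = [((rv 1), 1, -1), ((rv 2), 0, 1)] by decide +kernel] at h
  refine h.trans ?_
  simp [add_assoc]

theorem R_7_3 (t : K) (x : chevG2.Idx → K) : l (rv 3) (a14 K (xg 7 t) x) = (-t ^ 2) * l (rv 1) x + (2 * t) * l (rv 2) x + l (rv 3) x := by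
  have h := LinearMap.congr_fun (a14_row (K := K) 7 (rv 3) t) x
  rw [show row 7 (rv 3) = [((rv 1), 2, -1), ((rv 2), 1, 2), ((rv 3), 0, 1)] by decide +kernel] at h
  refine h.trans ?_
  simp [add_assoc]

theorem R_7_6 (t : K) (x : chevG2.Idx → K) : l (rv 6) (a14 K (xg 7 t) x) = l (rv 6) x := by
  have h := LinearMap.congr_fun (a14_row (K := K) 7 (rv 6) t) x
  rw [show row 7 (rv 6) = [((rv 6), 0, 1)] by decide +kernel] at h
  refine h.trans ?_
  simp [add_assoc]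

theorem R_7_8 (t : K) (x : chevG2.Idx → K) : l (rv 8) (a14 K (xg 7 t) x) = (-t) * l (rv 6) x + l (rv 8) x := by
  have h := LinearMap.congr_fun (a14_row (K := K) 7 (rv 8) t) x
  rw [show row 7 (rv 8) = [((rv 6), 1, -1), ((rv 8), 0, 1)] by decide +kernel] at h
  refine h.trans ?_
  simp [add_assoc]

theorem R_7_9 (t : K) (x : chevG2.Idx → K) : l (rv 9) (a14 K (xg 7 t) x) = (t ^ 2) * l (rv 6) x + (-2 * t) * l (rv 8) x + l (rv 9) x := by
  have h := LinearMap.congr_fun (a14_row (K := K) 7 (rv 9) t) x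
  rw [show row 7 (rv 9) = [((rv 6), 2, 1), ((rv 8), 1, -2), ((rv 9), 0, 1)] by decide +kernel] at h
  refine h.trans ?_
  simp [add_assoc]

theorem R_7_10 (t : K) (x : chevG2.Idx → K) : l (rv 10) (a14 K (xg 7 t) x) = (t ^ 3) * l (rv 6) x + (-3 * t ^ 2) * l (rv 8) x + (3 * t) * l (rv 9) x + l (rv 10) x := by
  have h := LinearMap.congr_fun (a14_row (K := K) 7 (rv 10) t) x
  rw [show row 7 (rv 10) = [((rv 6), 3, 1), ((rv 8), 2, -3), ((rv 9), 1, 3), ((rv 10), 0, 1)] by decide +kernel] at h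
  refine h.trans ?_
  simp [add_assoc]

theorem R_7_11 (t : K) (x : chevG2.Idx → K) : l (rv 11) (a14 K (xg 7 t) x) = l (rv 11) x := by
  have h := LinearMap.congr_fun (a14_row (K := K) 7 (rv 11) t) x
  rw [show row 7 (rv 11) = [((rv 11), 0, 1)] by decide +kernel] at h
  refine h.trans ?_
  simp [add_assoc]

theorem R_10_11 (t : K) (x : chevG2.Idx → K) : l (rv 11) (a14 K (xg 10 t) x) = (-t) * l (rv 6) x + l (rv 11) x := by
  have h := LinearMap.congr_fun (a14_row (K := K) 10 (rv 11) t) x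
  rw [show row 10 (rv 11) = [((rv 6), 1, -1), ((rv 11), 0, 1)] by decide +kernel] at h
  refine h.trans ?_
  simp [add_assoc]

theorem NC0_11 : a14 K (n2 K 0) (e (rv 11)) = (1 : K) • e (rv 11) := by
  rw [n2_0]
  simp only [a14_mul, map_add, map_smul, C_4_11, C_7_11]
  module

theorem NC0_10 : a14 K (n2 K 0) (e (rv 10)) = (-1 : K) • e (rv 6) := by
  rw [n2_0]
  simp only [a14_mul, map_add, map_smul, C_4_10, C_7_6, C_7_8, C_7_9, C_7_10]
  module

theorem NC0_5 : a14 K (n2 K 0) (e (rv 5)) = (1 : K) • e (rv 1) := by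
  rw [n2_0]
  simp only [a14_mul, map_add, map_smul, C_4_5, C_7_1, C_7_2, C_7_3, C_7_5]
  module

theorem NC0_0 : a14 K (n2 K 0) (e (rv 0)) = (1 : K) • e (rv 0) := by
  rw [n2_0]
  simp only [a14_mul, map_add, map_smul, C_4_0, C_7_0]
  module

theorem NC0_1 : a14 K (n2 K 0) (e (rv 1)) = (-1 : K) • e (rv 5) := by
  rw [n2_0]
  simp only [a14_mul, map_add, map_smul, C_4_1, C_4_2, C_4_3, C_4_5, C_7_1, C_7_2, C_7_3, C_7_5]
  module

theorem NC0_6 : a14 K (n2 K 0) (e (rv 6)) = (1 : K) • e (rv 10) := by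
  rw [n2_0]
  simp only [a14_mul, map_add, map_smul, C_4_6, C_4_8, C_4_9, C_4_10, C_7_6, C_7_8, C_7_9, C_7_10]
  module

theorem NC1_11 : a14 K (n2 K 1) (e (rv 11)) = (-1 : K) • e (rv 10) := by
  rw [n2_1]
  simp only [a14_mul, map_add, map_smul, C_5_11, C_6_10, C_6_11]
  module

theorem NC1_10 : a14 K (n2 K 1) (e (rv 10)) = (1 : K) • e (rv 11) := by
  rw [n2_1]
  simp only [a14_mul, map_add, map_smul, C_5_10, C_5_11, C_6_10, C_6_11]
  module

theorem NC1_5 : a14 K (n2 K 1) (e (rv 5)) = (-1 : K) • e (rv 6) := by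
  rw [n2_1]
  simp only [a14_mul, map_add, map_smul, C_5_h1, C_5_5, C_5_6, C_6_h1, C_6_5, C_6_6]
  module

theorem NC1_0 : a14 K (n2 K 1) (e (rv 0)) = (-1 : K) • e (rv 1) := by
  rw [n2_1]
  simp only [a14_mul, map_add, map_smul, C_5_0, C_5_1, C_6_0, C_6_1]
  module

theorem NC1_1 : a14 K (n2 K 1) (e (rv 1)) = (1 : K) • e (rv 0) := by
  rw [n2_1]
  simp only [a14_mul, map_add, map_smul, C_5_1, C_6_0, C_6_1]
  module

theorem NC1_6 : a14 K (n2 K 1) (e (rv 6)) = (-1 : K) • e (rv 5) := by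
  rw [n2_1]
  simp only [a14_mul, map_add, map_smul, C_5_6, C_6_h1, C_6_5, C_6_6]
  module

theorem NR0_11 : l (rv 11) ∘ₗ a14 K (n2 K 0) = (1 : K) • l (rv 11) := by
  refine LinearMap.ext fun x => ?_
  rw [LinearMap.comp_apply, LinearMap.smul_apply, smul_eq_mul, n2_0]
  simp only [a14_mul, R_4_11, R_7_11]
  ring

theorem NR0_10 : l (rv 10) ∘ₗ a14 K (n2 K 0) = (1 : K) • l (rv 6) := by
  refine LinearMap.ext fun x => ?_
  rw [LinearMap.comp_apply, LinearMap.smul_apply, smul_eq_mul, n2_0]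
  simp only [a14_mul, R_4_6, R_4_8, R_4_9, R_4_10, R_7_6, R_7_8, R_7_9, R_7_10]
  ring

theorem NR0_5 : l (rv 5) ∘ₗ a14 K (n2 K 0) = (-1 : K) • l (rv 1) := by
  refine LinearMap.ext fun x => ?_
  rw [LinearMap.comp_apply, LinearMap.smul_apply, smul_eq_mul, n2_0]
  simp only [a14_mul, R_4_1, R_4_2, R_4_3, R_4_5, R_7_1, R_7_2, R_7_3, R_7_5]
  ring

theorem NR0_0 : l (rv 0) ∘ₗ a14 K (n2 K 0) = (1 : K) • l (rv 0) := by
  refine LinearMap.ext fun x => ?_
  rw [LinearMap.comp_apply, LinearMap.smul_apply, smul_eq_mul, n2_0]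
  simp only [a14_mul, R_4_0, R_7_0]
  ring

theorem NR0_1 : l (rv 1) ∘ₗ a14 K (n2 K 0) = (1 : K) • l (rv 5) := by
  refine LinearMap.ext fun x => ?_
  rw [LinearMap.comp_apply, LinearMap.smul_apply, smul_eq_mul, n2_0]
  simp only [a14_mul, R_4_1, R_7_1, R_7_2, R_7_3, R_7_5]
  ring

theorem NR0_6 : l (rv 6) ∘ₗ a14 K (n2 K 0) = (-1 : K) • l (rv 10) := by
  refine LinearMap.ext fun x => ?_
  rw [LinearMap.comp_apply, LinearMap.smul_apply, smul_eq_mul, n2_0]
  simp only [a14_mul, R_4_6, R_7_6, R_7_8, R_7_9, R_7_10]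
  ring

theorem NR1_11 : l (rv 11) ∘ₗ a14 K (n2 K 1) = (1 : K) • l (rv 10) := by
  refine LinearMap.ext fun x => ?_
  rw [LinearMap.comp_apply, LinearMap.smul_apply, smul_eq_mul, n2_1]
  simp only [a14_mul, R_5_10, R_5_11, R_6_10, R_6_11]
  ring

theorem NR1_10 : l (rv 10) ∘ₗ a14 K (n2 K 1) = (-1 : K) • l (rv 11) := by
  refine LinearMap.ext fun x => ?_
  rw [LinearMap.comp_apply, LinearMap.smul_apply, smul_eq_mul, n2_1]
  simp only [a14_mul, R_5_10, R_6_10, R_6_11]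
  ring

theorem NR1_5 : l (rv 5) ∘ₗ a14 K (n2 K 1) = (-1 : K) • l (rv 6) := by
  refine LinearMap.ext fun x => ?_
  rw [LinearMap.comp_apply, LinearMap.smul_apply, smul_eq_mul, n2_1]
  simp only [a14_mul, R_5_5, R_6_h0, R_6_h1, R_6_5, R_6_6]
  ring

theorem NR1_0 : l (rv 0) ∘ₗ a14 K (n2 K 1) = (1 : K) • l (rv 1) := by
  refine LinearMap.ext fun x => ?_
  rw [LinearMap.comp_apply, LinearMap.smul_apply, smul_eq_mul, n2_1]
  simp only [a14_mul, R_5_0, R_6_0, R_6_1]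
  ring

theorem NR1_1 : l (rv 1) ∘ₗ a14 K (n2 K 1) = (-1 : K) • l (rv 0) := by
  refine LinearMap.ext fun x => ?_
  rw [LinearMap.comp_apply, LinearMap.smul_apply, smul_eq_mul, n2_1]
  simp only [a14_mul, R_5_0, R_5_1, R_6_0, R_6_1]
  ring

theorem NR1_6 : l (rv 6) ∘ₗ a14 K (n2 K 1) = (-1 : K) • l (rv 5) := by
  refine LinearMap.ext fun x => ?_
  rw [LinearMap.comp_apply, LinearMap.smul_apply, smul_eq_mul, n2_1]
  simp only [a14_mul, R_5_h0, R_5_h1, R_5_5, R_5_6, R_6_h0, R_6_h1, R_6_5, R_6_6]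
  ring

end Cfsg.Agent.H927.G2
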