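import Cfsg.Agent.H638.G2Iso
import Cfsg.Agent.H64.CrossChev
import Cfsg.Agent.Nodes.RGDChev

/-!
# The groups `G₂(K)`: the representations of degree 8 and 14 (helper927)

* `th : chevG2.group K →* GL₈(K)`, `x_r(t) ↦ y_r(t)`; `a8 g x`, `a14 g z` : the action on vectors;
* `a8_r` : the formulas for `x_r(t)`;
* `col r s`, `a14_e` : the columns of `x_r(t)` as lists; `row r u`, `a14_row` : the rows.
-/

set_option autoImplicit false
set_option linter.unusedSectionVars false
set_option linter.style.haveILetI false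

namespace Cfsg.Agent.H927.G2

open Cfsg.Lie Matrix Cfsg.Agent.H638.G2Rep Cfsg.Agent.H638.G2Mem
open Cfsg.Agent.H638

variable {K : Type} [Field K]

theorem inList : Cfsg.Agent.ChevalleyStructure.Elts.InList chevG2 := by simp [Cfsg.Agent.ChevalleyStructure.Elts.InList]

/-- the group -/
abbrev GK (K : Type) [Field K] := ↥(chevG2.group K)

/-- the root elements -/
def xg (r : ℕ) (t : K) : GK K :=
  ⟨Cfsg.Agent.ChevalleyStructure.Elts.xG inList r t, Cfsg.Agent.ChevalleyStructure.Elts.xG_mem_group _ _ _⟩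

theorem coe_xg (r : ℕ) (hr : r < 12) (t : K) :
    (((xg r t : GK K) : GL chevG2.Idx K) : Matrix chevG2.Idx chevG2.Idx K) = chevG2.xMat K ⟨r, hr⟩ t := by
  change chevG2.x K r t = _
  exact Cfsg.Agent.ChevalleyStructure.Elts.x_of_lt (D := chevG2) (show r < chevG2.nroots from hr) t

section finite

variable [Finite K]

theorem toChev_bijective : Function.Bijective (G2Link.toChev K) := by
  haveI : Finite (GL (Fin 8) K × GL chevG2.Idx K) := inferInstance
  have h0 : Function.Surjective (G2Link.toChev K) := G2Link.toChev_surjective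
  have h1 : Nat.card (G2Link.Link K) ≤ Nat.card (Cfsg.Lie.G2 K) := Nat.card_le_card_of_injective _ G2Link.toG2_injective
  have h2 : Nat.card (chevG2.group K) ≤ Nat.card (G2Link.Link K) := Nat.card_le_card_of_surjective _ h0
  obtain ⟨e⟩ := G2Iso.equiv (F := K)
  have h3 : Nat.card (Cfsg.Lie.G2 K) = Nat.card (chevG2.group K) := Nat.card_congr e.toEquiv
  exact (Nat.bijective_iff_surjective_and_card _).2 ⟨h0, by omega⟩

/-- the representation of degree 8 -/
noncomputable def th (K : Type) [Field K] [Finite K] : GK K →* GL (Fin 8) K :=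
  (MonoidHom.fst _ _).comp ((G2Link.Link K).subtype.comp
    (MulEquiv.ofBijective (G2Link.toChev K) toChev_bijective).symm.toMonoidHom)

theorem th_xg (r : ℕ) (hr : r < 12) (t : K) : th K (xg r t) = G2Link.yG ⟨r, hr⟩ t := by
  have hm : ((G2Link.yG ⟨r, hr⟩ t, G2Link.xG ⟨r, hr⟩ t) : GL (Fin 8) K × GL chevG2.Idx K) ∈ G2Link.Link K :=
    Subgroup.subset_closure ⟨⟨r, hr⟩, t, rfl⟩
  have h1 : G2Link.toChev K ⟨_, hm⟩ = xg r t := by
    apply Subtype.ext
    apply Units.ext
    rw [coe_xg r hr]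
    rfl
  have h2 : (MulEquiv.ofBijective (G2Link.toChev K) toChev_bijective).symm (xg r t) = ⟨_, hm⟩ := by
    rw [MulEquiv.symm_apply_eq]
    exact h1.symm
  change ((MulEquiv.ofBijective (G2Link.toChev K) toChev_bijective).symm (xg r t)).1.1 = _
  rw [h2]

/-- the action on vectors of length 8 -/
noncomputable def a8 (K : Type) [Field K] [Finite K] : GK K →* Module.End K (Fin 8 → K) where
  toFun g := Matrix.toLin' (th K g : Matrix (Fin 8) (Fin 8) K)
  map_one' := by rw [map_one, Units.val_one, Matrix.toLin'_one]; rfl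
  map_mul' a b := by rw [map_mul, Units.val_mul, Matrix.toLin'_mul]; rfl

theorem a8_apply (g : GK K) (x : Fin 8 → K) : a8 K g x = (th K g : Matrix (Fin 8) (Fin 8) K) *ᵥ x :=
  Matrix.toLin'_apply _ _

theorem a8_xg (r : ℕ) (hr : r < 12) (t : K) (x : Fin 8 → K) : a8 K (xg r t) x = ev t (tabY.getD r []) *ᵥ x := by
  rw [a8_apply, th_xg r hr]
  rfl

theorem a8_0 (t : K) (x : Fin 8 → K) : a8 K (xg 0 t) x = ![x 0, x 1, x 2, x 3 - t * x 2, x 4, x 5 + t * x 6, x 6, x 7] := by
  rw [a8_xg 0 (by norm_num), mulVec_0]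
theorem a8_1 (t : K) (x : Fin 8 → K) : a8 K (xg 1 t) x = ![x 0, x 1, x 2, x 3 - t * x 1, x 4 + t * x 6, x 5, x 6, x 7] := by
  rw [a8_xg 1 (by norm_num), mulVec_1]
theorem a8_2 (t : K) (x : Fin 8 → K) : a8 K (xg 2 t) x =
    ![x 0 - t * x 6, x 1, x 2, x 3 + t * x 0 - t * x 7 - t ^ 2 * x 6, x 4 - t * x 2, x 5 + t * x 1, x 6, x 7 + t * x 6] := by
  rw [a8_xg 2 (by norm_num), mulVec_2]
theorem a8_3 (t : K) (x : Fin 8 → K) : a8 K (xg 3 t) x =
    ![x 0 - t * x 2, x 1 + t * x 6, x 2, x 3 - t * x 4, x 4, x 5 + t * x 0 - t * x 7 - t ^ 2 * x 2, x 6, x 7 + t * x 2] := by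
  rw [a8_xg 3 (by norm_num), mulVec_3]
theorem a8_4 (t : K) (x : Fin 8 → K) : a8 K (xg 4 t) x =
    ![x 0 - t * x 1, x 1, x 2 - t * x 6, x 3 + t * x 5, x 4 + t * x 0 - t * x 7 - t ^ 2 * x 1, x 5, x 6, x 7 + t * x 1] := by
  rw [a8_xg 4 (by norm_num), mulVec_4]
theorem a8_5 (t : K) (x : Fin 8 → K) : a8 K (xg 5 t) x = ![x 0, x 1 + t * x 2, x 2, x 3, x 4, x 5 - t * x 4, x 6, x 7] := by
  rw [a8_xg 5 (by norm_num), mulVec_5]
theorem a8_6 (t : K) (x : Fin 8 → K) : a8 K (xg 6 t) x = ![x 0, x 1, x 2 + t * x 1, x 3, x 4 - t * x 5, x 5, x 6, x 7] := by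
  rw [a8_xg 6 (by norm_num), mulVec_6]
theorem a8_7 (t : K) (x : Fin 8 → K) : a8 K (xg 7 t) x =
    ![x 0 + t * x 4, x 1 - t * x 0 + t * x 7 - t ^ 2 * x 4, x 2, x 3, x 4, x 5 + t * x 3, x 6 - t * x 2, x 7 - t * x 4] := by
  rw [a8_xg 7 (by norm_num), mulVec_7]
theorem a8_8 (t : K) (x : Fin 8 → K) : a8 K (xg 8 t) x =
    ![x 0 + t * x 5, x 1, x 2 - t * x 0 + t * x 7 - t ^ 2 * x 5, x 3, x 4 - t * x 3, x 5, x 6 + t * x 1, x 7 - t * x 5] := by
  rw [a8_xg 8 (by norm_num), mulVec_8]
theorem a8_9 (t : K) (x : Fin 8 → K) : a8 K (xg 9 t) x =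
    ![x 0 + t * x 3, x 1 + t * x 5, x 2 - t * x 4, x 3, x 4, x 5, x 6 - t * x 0 + t * x 7 - t ^ 2 * x 3, x 7 - t * x 3] := by
  rw [a8_xg 9 (by norm_num), mulVec_9]
theorem a8_10 (t : K) (x : Fin 8 → K) : a8 K (xg 10 t) x = ![x 0, x 1 - t * x 3, x 2, x 3, x 4, x 5, x 6 + t * x 4, x 7] := by
  rw [a8_xg 10 (by norm_num), mulVec_10]
theorem a8_11 (t : K) (x : Fin 8 → K) : a8 K (xg 11 t) x = ![x 0, x 1, x 2 - t * x 3, x 3, x 4, x 5, x 6 + t * x 5, x 7] := by
  rw [a8_xg 11 (by norm_num), mulVec_11]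

end finite

/-! ### degree 14 -/

/-- the action on vectors of length 14 -/
def a14 (K : Type) [Field K] : GK K →* Module.End K (chevG2.Idx → K) where
  toFun g := Matrix.toLin' ((g : GL chevG2.Idx K) : Matrix chevG2.Idx chevG2.Idx K)
  map_one' := by
    change Matrix.toLin' (1 : Matrix chevG2.Idx chevG2.Idx K) = _
    rw [Matrix.toLin'_one]; rfl
  map_mul' a b := by
    change Matrix.toLin' (((a : GL chevG2.Idx K) : Matrix chevG2.Idx chevG2.Idx K) *
      ((b : GL chevG2.Idx K) : Matrix chevG2.Idx chevG2.Idx K)) = _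
    rw [Matrix.toLin'_mul]; rfl

theorem a14_apply (g : GK K) (x : chevG2.Idx → K) :
    a14 K g x = ((g : GL chevG2.Idx K) : Matrix chevG2.Idx chevG2.Idx K) *ᵥ x := Matrix.toLin'_apply _ _

/-- root index -/
def rv (r : Fin 12) : chevG2.Idx := Sum.inr (show Fin chevG2.nroots from r)
/-- coroot index -/
def hv (r : Fin 2) : chevG2.Idx := Sum.inl (show Fin chevG2.rank from r)

/-- basis vectors -/
def e (s : chevG2.Idx) : chevG2.Idx → K := Pi.single s 1

/-- coordinates -/
def l (s : chevG2.Idx) : (chevG2.Idx → K) →ₗ[K] K := LinearMap.proj s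

theorem l_apply (s : chevG2.Idx) (x : chevG2.Idx → K) : l s x = x s := rfl

theorem l_e (s u : chevG2.Idx) : l s (e u : chevG2.Idx → K) = if s = u then 1 else 0 := by
  rw [l_apply, e, Pi.single_apply]

/-- the nonzero part of a list -/
def nz (L : List (ℕ × ℤ)) : List (ℕ × ℤ) := L.filter fun p => p.2 ≠ 0

theorem sum_nz (t : K) (L : List (ℕ × ℤ)) : ((nz L).map fun km => ((km.2 : ℤ) : K) * t ^ km.1).sum =
    (L.map fun km => ((km.2 : ℤ) : K) * t ^ km.1).sum := by
  induction L with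
  | nil => rfl
  | cons p L ih =>
    unfold nz at *
    rw [List.filter_cons]
    split_ifs with h
    · rw [List.map_cons, List.sum_cons, ih, List.map_cons, List.sum_cons]
    · rw [ih, List.map_cons, List.sum_cons]
      have : p.2 = 0 := by simpa using h
      rw [this, Int.cast_zero, zero_mul, zero_add]

/-- the column `s` of `x_r(t)` -/
def col (r : Fin 12) (s : chevG2.Idx) : List (chevG2.Idx × ℕ × ℤ) :=
  allIdx.flatMap fun u => (nz (colD r s u)).map fun km => (u, km.1, km.2)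

/-- the row `u` of `x_r(t)` -/
def row (r : Fin 12) (u : chevG2.Idx) : List (chevG2.Idx × ℕ × ℤ) :=
  allIdx.flatMap fun s => (nz (colD r s u)).map fun km => (s, km.1, km.2)

theorem sum_flatMap {M α β : Type*} [AddCommMonoid M] (L : List α) (f : α → List β) (g : β → M) :
    ((L.flatMap f).map g).sum = (L.map fun a => ((f a).map g).sum).sum := by
  induction L with
  | nil => rfl
  | cons a L ih => rw [List.flatMap_cons, List.map_append, List.sum_append, ih, List.map_cons, List.sum_cons]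

theorem a14_e (r : Fin 12) (s : chevG2.Idx) (t : K) :
    a14 K (xg r t) (e s) = ((col r s).map fun p => ((p.2.2 : K) * t ^ p.2.1) • (e p.1 : chevG2.Idx → K)).sum := by
  rw [a14_apply, coe_xg r r.2, e, Matrix.mulVec_single_one, col, sum_flatMap, G2Link.sum_allIdx]
  funext u
  rw [Finset.sum_apply, Finset.sum_eq_single u]
  · rw [List.map_map]
    have h1 : ∀ L : List (ℕ × ℤ), ((L.map ((fun p : chevG2.Idx × ℕ × ℤ => ((p.2.2 : K) * t ^ p.2.1) •
        (e p.1 : chevG2.Idx → K)) ∘ fun km => (u, km.1, km.2))).sum) u =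
        (L.map fun km => ((km.2 : ℤ) : K) * t ^ km.1).sum := by
      intro L
      induction L with
      | nil => rfl
      | cons p L ih =>
        rw [List.map_cons, List.sum_cons, List.map_cons, List.sum_cons, Pi.add_apply, ih]
        simp [e]
    rw [h1, sum_nz]
    exact xMat_apply (F := K) (show Fin chevG2.nroots from r) t u s
  · intro u' _ hu
    rw [List.map_map]
    generalize nz (colD r s u') = L
    induction L with
    | nil => rfl
    | cons p L ih =>
      rw [List.map_cons, List.sum_cons, Pi.add_apply, ih]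
      simp [e, hu.symm]
  · intro h
    exact absurd (Finset.mem_univ u) h

theorem a14_row (r : Fin 12) (u : chevG2.Idx) (t : K) :
    l u ∘ₗ a14 K (xg r t) = ((row r u).map fun p => ((p.2.2 : K) * t ^ p.2.1) • (l p.1 : (chevG2.Idx → K) →ₗ[K] K)).sum := by
  refine LinearMap.ext fun x => ?_
  rw [LinearMap.comp_apply, l_apply, a14_apply, coe_xg r r.2, row, sum_flatMap, G2Link.sum_allIdx]
  rw [LinearMap.sum_apply]
  change ∑ s, chevG2.xMat K (show Fin chevG2.nroots from r) t u s * x s = _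
  refine Finset.sum_congr rfl fun s _ => ?_
  have h0 := xMat_apply (F := K) (show Fin chevG2.nroots from r) t u s
  rw [← sum_nz] at h0
  refine (congrArg (fun z => z * x s) h0).trans ?_
  rw [List.map_map]
  generalize nz (colD r s u) = L
  induction L with
  | nil => simp
  | cons p L ih =>
    rw [List.map_cons, List.sum_cons, List.map_cons, List.sum_cons, LinearMap.add_apply, ← ih, add_mul]
    rfl

end Cfsg.Agent.H927.G2
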