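import Cfsg.Agent.H927.SgXNum
import Cfsg.Agent.H436.Names

/-!
# Cross characteristic elimination for the Singer case: the families
-/

set_option autoImplicit false

namespace Cfsg.Agent.H927.SgX

open Cfsg.Agent.OrdDiv Cfsg.Agent.H436

/-! ### upper bounds for the orders -/

theorem list_prod_le {f g : ℕ → ℕ} (h : ∀ i, f i ≤ g i) (m : ℕ) :
    ((List.range m).map f).prod ≤ ((List.range m).map g).prod := by
  induction m with
  | zero => simp
  | succ k ih =>
    rw [List.range_succ, List.map_append, List.map_append, List.prod_append, List.prod_append]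
    exact Nat.mul_le_mul ih (by simpa using h k)

theorem list_prod_pow (s : ℕ) (e : ℕ → ℕ) (m : ℕ) :
    ((List.range m).map fun i => s ^ e i).prod = s ^ (∑ i ∈ Finset.range m, e i) := by
  induction m with
  | zero => simp
  | succ k ih =>
    rw [List.range_succ, List.map_append, List.prod_append, ih, Finset.sum_range_succ, pow_add]
    simp

theorem glN_le (m s : ℕ) : glN m s ≤ s ^ (m ^ 2) := by
  unfold glN
  refine (list_prod_le (g := fun _ => s ^ m) (fun i => Nat.sub_le _ _) m).trans ?_
  rw [list_prod_pow s (fun _ => m) m]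
  simp [sq]

theorem prB_le (m s : ℕ) : prB s m ≤ s ^ (m * (m + 1)) := by
  unfold prB
  refine (list_prod_le (g := fun i => s ^ (2 * (i + 1))) (fun i => Nat.sub_le _ _) m).trans ?_
  rw [list_prod_pow s (fun i => 2 * (i + 1)) m, ← Finset.mul_sum]
  apply le_of_eq
  congr 1
  induction m with
  | zero => simp
  | succ k ih => rw [Finset.sum_range_succ, mul_add, ih]; ring

theorem prU_le {m s : ℕ} (hs : 1 ≤ s) : prU s m ≤ 2 ^ m * s ^ (m * (m + 1) / 2) := by
  unfold prU
  refine (list_prod_le (g := fun i => 2 * s ^ (i + 1)) (fun i => ?_) m).trans ?_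
  · have : 1 ≤ s ^ (i + 1) := Nat.one_le_pow _ _ hs
    split_ifs <;> omega
  · apply le_of_eq
    induction m with
    | zero => simp
    | succ k ih =>
      rw [List.range_succ, List.map_append, List.prod_append, ih]
      simp only [List.map_cons, List.map_nil, List.prod_cons, List.prod_nil, mul_one]
      have h1 : (k + 1) * (k + 1 + 1) / 2 = k * (k + 1) / 2 + (k + 1) := by
        have : (k + 1) * (k + 1 + 1) = k * (k + 1) + 2 * (k + 1) := by ring
        rw [this, Nat.add_mul_div_left _ _ (by norm_num)]
      rw [h1, pow_add s, pow_succ 2 k]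
      ring

theorem le_of_den {a c N : ℕ} (ha : 1 ≤ a) (h : a * c = N) : c ≤ N := by
  rw [← h]
  exact Nat.le_mul_of_pos_left c (by omega)

theorem ne_of_two_primes {s p r : ℕ} (hs : IsPrimePow s) (hp : p.Prime) (hr : r.Prime) (hpr : p ≠ r)
    (h1 : p ∣ s) (h2 : r ∣ s) : False := by
  obtain ⟨t, k, ht, -, rfl⟩ := (isPrimePow_nat_iff _).1 hs
  have h3 := (Nat.prime_dvd_prime_iff_eq hp ht).1 (hp.dvd_of_dvd_pow h1)
  have h4 := (Nat.prime_dvd_prime_iff_eq hr ht).1 (hr.dvd_of_dvd_pow h2)
  exact hpr (h3.trans h4.symm)

variable {n c d : ℕ}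

/-! ### `PSL` -/

theorem exp_d {b : ℕ} (hb : 7 ≤ b) : 9 * (2 * b + 2) ^ 3 ≤ b * 4 ^ b := by
  induction b, hb using Nat.le_induction with
  | base => norm_num
  | succ k hk ih =>
    have h1 : (2 * (k + 1) + 2) ^ 3 ≤ 4 * (2 * k + 2) ^ 3 := by
      nlinarith [Nat.mul_le_mul hk hk, Nat.mul_le_mul (Nat.mul_le_mul hk hk) hk, sq_nonneg k]
    calc 9 * (2 * (k + 1) + 2) ^ 3 ≤ 4 * (9 * (2 * k + 2) ^ 3) := by omega
      _ ≤ 4 * (k * 4 ^ k) := Nat.mul_le_mul_left _ ih
      _ ≤ (k + 1) * 4 ^ (k + 1) := by rw [pow_succ]; nlinarith [Nat.pow_pos (n := k) (show 0 < 4 by norm_num)]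

theorem glN_two (s : ℕ) (hs : 1 ≤ s) : glN 2 s = (s - 1) * (s * (s + 1) * (s - 1)) := by
  obtain ⟨x, rfl⟩ : ∃ x, s = x + 1 := ⟨s - 1, by omega⟩
  change ((x + 1) ^ 2 - (x + 1) ^ 0) * (((x + 1) ^ 2 - (x + 1) ^ 1) * 1) = _
  have h1 : (x + 1) ^ 2 - (x + 1) ^ 0 = x * (x + 2) := by
    rw [pow_zero, show (x + 1) ^ 2 = x * (x + 2) + 1 by ring, Nat.add_sub_cancel]
  have h2 : (x + 1) ^ 2 - (x + 1) ^ 1 = x * (x + 1) := by
    rw [pow_one, show (x + 1) ^ 2 = x * (x + 1) + (x + 1) by ring, Nat.add_sub_cancel]
  rw [h1, h2, Nat.add_sub_cancel]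
  ring

theorem x_psl2 {s : ℕ} (hs : IsPrimePow s) (h4 : 4 ≤ s) (he : den (.psl 2 s) * c = num (.psl 2 s))
    (h : SgD n c d) (hL : (s - 1) / 2 ≤ n) : False := by
  have he1 : Nat.gcd 2 (s - 1) * (s - 1) * c = glN 2 s := he
  rw [glN_two s (by omega)] at he1
  have he2 : Nat.gcd 2 (s - 1) * c = s * (s + 1) * (s - 1) := by
    apply Nat.eq_of_mul_eq_mul_left (show 0 < s - 1 by omega)
    rw [← he1]; ring
  rcases Nat.lt_or_ge s 16 with h16 | h16
  · have hl := h.lt
    have h5 := mono h.five
    have hpr := h.pr
    have h55 := h.five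
    have hlarge := h.c_large
    interval_cases s
    · norm_num at he2; omega
    · norm_num at he2; omega
    · exact ne_of_two_primes hs Nat.prime_two Nat.prime_three (by norm_num) (by norm_num) (by norm_num)
    · norm_num at he2; omega
    · norm_num at he2; omega
    · norm_num at he2; omega
    · exact ne_of_two_primes hs Nat.prime_two Nat.prime_five (by norm_num) (by norm_num) (by norm_num)
    · -- `s = 11`
      norm_num at he2
      have hc : c = 660 := by omega
      rcases Nat.lt_or_ge n 7 with h7 | h7
      · obtain rfl : n = 5 := by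
          interval_cases n
          · rfl
          · exact absurd hpr (by norm_num)
        have hd := h.d1
        have hle := h.le
        have hne := h.ne
        have hd2 : d ≤ 11 := by
          by_contra hcon
          push Not at hcon
          have : 12 * 13 ≤ d * (d + 1) := Nat.mul_le_mul hcon (by omega)
          nlinarith
        apply hne
        refine ⟨rfl, ?_⟩
        norm_num at hd
        omega
      · have := mono h7
        norm_num at this
        omega
    · exact ne_of_two_primes hs Nat.prime_two Nat.prime_three (by norm_num) (by norm_num) (by norm_num)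
    · norm_num at he2
      norm_num at hL
      have h7 : 7 ≤ n := by
        rcases Nat.lt_or_ge n 7 with h7 | h7
        · obtain rfl : n = 6 := by omega
          exact absurd hpr (by norm_num)
        · exact h7
      have := mono h7
      norm_num at this
      omega
    · exact ne_of_two_primes hs Nat.prime_two (by norm_num : Nat.Prime 7) (by norm_num) (by norm_num) (by norm_num)
    · exact ne_of_two_primes hs Nat.prime_three Nat.prime_five (by norm_num) (by norm_num) (by norm_num)
  · have h7 : 7 ≤ (s - 1) / 2 := by omega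
    have h1 : c ≤ (2 * ((s - 1) / 2) + 2) ^ 3 := by
      have h2 : c ≤ s * (s + 1) * (s - 1) := le_of_den (Nat.gcd_pos_of_pos_left _ (by norm_num)) he2
      have h3 : s ≤ 2 * ((s - 1) / 2) + 2 := by omega
      refine h2.trans (le_trans ?_ (Nat.pow_le_pow_left h3 3))
      obtain ⟨x, rfl⟩ : ∃ x, s = x + 1 := ⟨s - 1, by omega⟩
      rw [Nat.add_sub_cancel]
      nlinarith
    exact h.big hL h1 (exp_d h7)

theorem x_psl {m s : ℕ} (hm : 3 ≤ m) (hs : 2 ≤ s) (he : den (.psl m s) * c = num (.psl m s))
    (h : SgD n c d) (hL : s ^ (m - 1) - 1 ≤ n) : False := by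
  have hgc : 1 ≤ den (.psl m s) :=
    Nat.mul_pos (Nat.gcd_pos_of_pos_left _ (by omega)) (by omega)
  have hc : c ≤ s ^ (m ^ 2) := (le_of_den hgc he).trans (glN_le m s)
  have main : m ^ 2 ≤ 2 * ∑ i ∈ Finset.range (m - 1), s ^ i → 9 ≤ s ^ (m - 1) - 1 → False := by
    intro h1 h2
    refine h.big hL hc (pow_key0 (by omega) ?_ h2)
    rw [geo (by omega)]
    nlinarith [Nat.mul_le_mul_right (s - 1) h1]
  rcases Nat.lt_or_ge m 5 with h5 | h5
  · have h34 : m = 3 ∨ m = 4 := by omega
    rcases h34 with rfl | rfl
    · rcases Nat.lt_or_ge s 4 with h4 | h4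
      · interval_cases s
        · have h1 : Nat.gcd 3 (2 - 1) * (2 - 1) * c = 168 := he
          have := h.c_large
          norm_num at h1
          omega
        · exact h.big (b := 8) (by norm_num at hL; omega) hc (by norm_num)
      · apply main
        · simp only [Finset.sum_range_succ, Finset.sum_range_zero, Nat.reduceSub]; simp; omega
        · have : 4 ^ 2 ≤ s ^ 2 := Nat.pow_le_pow_left h4 2
          simp only [Nat.reduceSub]; omega
    · rcases Nat.lt_or_ge s 3 with h4 | h4
      · obtain rfl : s = 2 := by omega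
        have h1 : Nat.gcd 4 (2 - 1) * (2 - 1) * c = 20160 := he
        norm_num at h1 hL
        subst h1
        exact h.primes (l := [2, 3, 5, 7]) (k := 6) (by decide) (by decide) (by
          intro s hs
          simp only [List.mem_cons, List.not_mem_nil, or_false] at hs
          omega)
      · apply main
        · simp only [Finset.sum_range_succ, Finset.sum_range_zero, Nat.reduceSub]; simp; nlinarith
        · have : 3 ^ 3 ≤ s ^ 3 := Nat.pow_le_pow_left h4 3
          simp only [Nat.reduceSub]; omega
  · have h1 := geo_mono (j := m - 1) hs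
    rw [geo_two] at h1
    have h2 := exp_a h5
    have h3 : 2 ^ m = 2 * 2 ^ (m - 1) := by
      rw [← pow_succ']; congr 1; omega
    have h4 : 2 ^ 4 ≤ 2 ^ (m - 1) := Nat.pow_le_pow_right (by norm_num) (by omega)
    have h6 : 2 ^ (m - 1) ≤ s ^ (m - 1) := Nat.pow_le_pow_left hs _
    apply main
    · omega
    · norm_num at h4; omega

/-! ### `PSp` -/

theorem x_psp {m s : ℕ} (hm : 2 ≤ m) (hs : 2 ≤ s) (hms : m = 2 → 3 ≤ s)
    (he : den (.psp m s) * c = num (.psp m s)) (h : SgD n c d)
    (hL : (if s % 2 = 1 then (s ^ m - 1) / 2 else s ^ m - 1) ≤ n) : False := by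
  have hgc : 1 ≤ den (.psp m s) := Nat.gcd_pos_of_pos_left _ (by norm_num)
  have hnum : num (.psp m s) ≤ s ^ (2 * m ^ 2 + m) := by
    change s ^ (m ^ 2) * prB s m ≤ _
    rw [show 2 * m ^ 2 + m = m ^ 2 + m * (m + 1) by ring, pow_add]
    exact Nat.mul_le_mul_left _ (prB_le m s)
  have hc : c ≤ s ^ (2 * m ^ 2 + m) := (le_of_den hgc he).trans hnum
  have hgeo := geo (s := s) (j := m) (by omega)
  by_cases hodd : s % 2 = 1
  · rw [if_pos hodd] at hL
    have h2b : 2 * ((s ^ m - 1) / 2) = s ^ m - 1 := by
      have : (s ^ m) % 2 = 1 := by rw [Nat.pow_mod, hodd, one_pow]; norm_num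
      omega
    have main : 2 * m ^ 2 + m ≤ ∑ i ∈ Finset.range m, s ^ i → 9 ≤ (s ^ m - 1) / 2 → False := by
      intro h1 h2
      refine h.big hL hc (pow_key0 (by omega) ?_ h2)
      rw [h2b, hgeo]
      exact Nat.mul_le_mul_right _ h1
    rcases Nat.lt_or_ge m 4 with h5 | h5
    · have h23 : m = 2 ∨ m = 3 := by omega
      rcases h23 with rfl | rfl
      · rcases Nat.lt_or_ge s 9 with h4 | h4
        · have h357 : s = 3 ∨ s = 5 ∨ s = 7 := by omega
          rcases h357 with rfl | rfl | rfl
          · have h1 : Nat.gcd 2 (3 - 1) * c = 51840 := he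
            norm_num at h1
            have h1' : c = 25920 := by omega
            subst h1'
            exact h.primes (l := [2, 3, 5]) (k := 6) (by decide) (by decide) (by
              have := h.five
              intro s hs
              simp only [List.mem_cons, List.not_mem_nil, or_false] at hs
              omega)
          · exact h.big (b := 12) (by norm_num at hL; omega) hc (by norm_num)
          · exact h.big (b := 24) (by norm_num at hL; omega) hc (by norm_num)
        · apply main
          · simp only [Finset.sum_range_succ, Finset.sum_range_zero]; simp; omega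
          · have : 9 ^ 2 ≤ s ^ 2 := Nat.pow_le_pow_left h4 2
            omega
      · rcases Nat.lt_or_ge s 5 with h4 | h4
        · obtain rfl : s = 3 := by omega
          have h1 : Nat.gcd 2 (3 - 1) * c = 9170703360 := he
          norm_num at h1 hL
          have h1' : c = 4585351680 := by omega
          subst h1'
          exact h.primes (l := [2, 3, 5, 7, 13]) (k := 10) (by decide) (by decide) (by
            intro s hs
            simp only [List.mem_cons, List.not_mem_nil, or_false] at hs
            omega)
        · apply main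
          · simp only [Finset.sum_range_succ, Finset.sum_range_zero]; simp; nlinarith
          · have : 5 ^ 3 ≤ s ^ 3 := Nat.pow_le_pow_left h4 3
            omega
    · have h3 : 3 ≤ s := by omega
      have h1 := geo_mono (j := m) h3
      have h2 := geo_three m
      have h4 := exp_b h5
      have h6 : 3 ^ 4 ≤ 3 ^ m := Nat.pow_le_pow_right (by norm_num) h5
      have h7 : 3 ^ m ≤ s ^ m := Nat.pow_le_pow_left h3 _
      apply main
      · omega
      · norm_num at h6; omega
  · rw [if_neg hodd] at hL
    have main : 2 * m ^ 2 + m ≤ 2 * ∑ i ∈ Finset.range m, s ^ i → 9 ≤ s ^ m - 1 → False := by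
      intro h1 h2
      refine h.big hL hc (pow_key0 (by omega) ?_ h2)
      rw [hgeo, ← mul_assoc]
      exact Nat.mul_le_mul_right _ h1
    rcases Nat.lt_or_ge m 5 with h5 | h5
    · rcases Nat.lt_or_ge s 4 with h4 | h4
      · obtain rfl : s = 2 := by omega
        have h34 : m = 3 ∨ m = 4 := by omega
        rcases h34 with rfl | rfl
        · have h1 : Nat.gcd 2 (2 - 1) * c = 1451520 := he
          norm_num at h1 hL
          subst h1
          exact h.primes (l := [2, 3, 5, 7]) (k := 10) (by decide) (by decide) (by
            intro s hs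
            simp only [List.mem_cons, List.not_mem_nil, or_false] at hs
            omega)
        · have h1 : Nat.gcd 2 (2 - 1) * c = 47377612800 := he
          norm_num at h1 hL
          subst h1
          exact h.primes (l := [2, 3, 5, 7, 17]) (k := 20) (by decide) (by decide) (by
            intro s hs
            simp only [List.mem_cons, List.not_mem_nil, or_false] at hs
            omega)
      · have h234 : m = 2 ∨ m = 3 ∨ m = 4 := by omega
        have h7 : 4 ^ m ≤ s ^ m := Nat.pow_le_pow_left h4 _
        have h8 := geo_mono (j := m) h4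
        rcases h234 with rfl | rfl | rfl
        · apply main
          · refine le_trans ?_ (Nat.mul_le_mul_left 2 h8)
            decide
          · norm_num at h7; omega
        · apply main
          · refine le_trans ?_ (Nat.mul_le_mul_left 2 h8)
            decide
          · norm_num at h7; omega
        · apply main
          · refine le_trans ?_ (Nat.mul_le_mul_left 2 h8)
            decide
          · norm_num at h7; omega
    · have h1 := geo_mono (j := m) hs
      rw [geo_two] at h1
      have h2 := exp_c h5
      have h4 : 2 ^ 5 ≤ 2 ^ m := Nat.pow_le_pow_right (by norm_num) (by omega)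
      have h6 : 2 ^ m ≤ s ^ m := Nat.pow_le_pow_left hs _
      apply main
      · omega
      · norm_num at h4; omega

end Cfsg.Agent.H927.SgX
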