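import Cfsg.Agent.H927.SgXFam

/-!
# Cross characteristic elimination for the Singer case: unitary and orthogonal groups
-/

set_option autoImplicit false

namespace Cfsg.Agent.H927.SgX

open Cfsg.Agent.OrdDiv Cfsg.Agent.H436

variable {n c d : ℕ}

theorem exp_e {m : ℕ} (hm : 5 ≤ m) : m ^ 2 + m + 4 ≤ 2 * 3 ^ (m - 2) := by
  obtain ⟨k, rfl⟩ : ∃ k, m = k + 5 := ⟨m - 5, by omega⟩
  have : ∀ k : ℕ, (k + 5) ^ 2 + (k + 5) + 4 ≤ 2 * 3 ^ (k + 3) := by
    intro k
    induction k with
    | zero => norm_num
    | succ k ih => rw [show k + 1 + 3 = (k + 3) + 1 by ring, pow_succ 3]; nlinarith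
  have h1 := this k
  rwa [show k + 5 - 2 = k + 3 by omega]

theorem exp_f {m : ℕ} (hm : 7 ≤ m) : m ^ 2 + m + 3 ≤ 2 * 2 ^ (m - 2) := by
  obtain ⟨k, rfl⟩ : ∃ k, m = k + 7 := ⟨m - 7, by omega⟩
  have : ∀ k : ℕ, (k + 7) ^ 2 + (k + 7) + 3 ≤ 2 * 2 ^ (k + 5) := by
    intro k
    induction k with
    | zero => norm_num
    | succ k ih => rw [show k + 1 + 5 = (k + 5) + 1 by ring, pow_succ 2]; nlinarith
  have h1 := this k
  rwa [show k + 7 - 2 = k + 5 by omega]

/-- the order of `PSU` -/
theorem psu_card_le {m s : ℕ} (hm : 3 ≤ m) (hs : 2 ≤ s) (he : den (.psu m s) * c = num (.psu m s)) :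
    c ≤ 2 ^ m * s ^ (m ^ 2 - 1) := by
  have h1 : Nat.gcd m (s + 1) * (s + 1) * c = s ^ (m * (m - 1) / 2) * prU s m := he
  have h2 : prU s m ≤ 2 ^ m * s ^ (m * (m + 1) / 2) := prU_le (by omega)
  have hg : 1 ≤ Nat.gcd m (s + 1) := Nat.gcd_pos_of_pos_left _ (by omega)
  have hexp : m * (m - 1) / 2 + m * (m + 1) / 2 = m ^ 2 - 1 + 1 := by
    obtain ⟨k, rfl⟩ : ∃ k, m = k + 1 := ⟨m - 1, by omega⟩
    rw [Nat.add_sub_cancel]
    have h3 : (k + 1) * (k + 1 + 1) = (k + 1) * k + 2 * (k + 1) := by ring
    have h4 : 2 ∣ (k + 1) * k := (Nat.even_mul_succ_self k).two_dvd.trans (by rw [mul_comm])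
    have h5 : (k + 1) ^ 2 = (k + 1) * k + (k + 1) := by ring
    rw [h3, Nat.add_mul_div_left _ _ (by norm_num), h5]
    omega
  have h3 : s * c ≤ s * (2 ^ m * s ^ (m ^ 2 - 1)) := by
    calc s * c ≤ Nat.gcd m (s + 1) * (s + 1) * c := by
          apply Nat.mul_le_mul_right
          nlinarith
      _ = s ^ (m * (m - 1) / 2) * prU s m := h1
      _ ≤ s ^ (m * (m - 1) / 2) * (2 ^ m * s ^ (m * (m + 1) / 2)) := Nat.mul_le_mul_left _ h2
      _ = 2 ^ m * s ^ (m * (m - 1) / 2 + m * (m + 1) / 2) := by rw [pow_add]; ring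
      _ = s * (2 ^ m * s ^ (m ^ 2 - 1)) := by rw [hexp, pow_succ s]; ring
  exact Nat.le_of_mul_le_mul_left h3 (by omega)

theorem x_psu {m s : ℕ} (hm : 3 ≤ m) (hs : 2 ≤ s) (hms : ¬ (m = 3 ∧ s = 2))
    (he : den (.psu m s) * c = num (.psu m s)) (h : SgD n c d)
    (hL : (s - 1) * s ^ (m - 2) ≤ n) : False := by
  have hc := psu_card_le hm hs he
  have main : m + (m ^ 2 - 1) * (s - 1) ≤ 2 * ((s - 1) * s ^ (m - 2)) → 9 ≤ (s - 1) * s ^ (m - 2) →
      False := fun h1 h2 => h.big hL hc (pow_key (by omega) h1 h2)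
  have h55 := h.five
  rcases Nat.lt_or_ge s 3 with h3 | h3
  · obtain rfl : s = 2 := by omega
    rcases Nat.lt_or_ge m 7 with h7 | h7
    · have h456 : m = 4 ∨ m = 5 ∨ m = 6 := by omega
      rcases h456 with rfl | rfl | rfl
      · have h1 : Nat.gcd 4 (2 + 1) * (2 + 1) * c = 77760 := he
        norm_num at h1
        have h1' : c = 25920 := by omega
        subst h1'
        exact h.primes (l := [2, 3, 5]) (k := 6) (by decide) (by decide) (by
          intro s hs
          simp only [List.mem_cons, List.not_mem_nil, or_false] at hs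
          omega)
      · have h1 : Nat.gcd 5 (2 + 1) * (2 + 1) * c = 41057280 := he
        norm_num at h1 hL
        have h1' : c = 13685760 := by omega
        subst h1'
        exact h.primes (l := [2, 3, 5, 11]) (k := 10) (by decide) (by decide) (by
          intro s hs
          simp only [List.mem_cons, List.not_mem_nil, or_false] at hs
          omega)
      · have h1 : Nat.gcd 6 (2 + 1) * (2 + 1) * c = 82771476480 := he
        norm_num at h1 hL
        have h1' : c = 9196830720 := by omega
        subst h1'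
        exact h.primes (l := [2, 3, 5, 7, 11]) (k := 15) (by decide) (by decide) (by
          intro s hs
          simp only [List.mem_cons, List.not_mem_nil, or_false] at hs
          omega)
    · have h1 := exp_f h7
      have h2 : 2 ^ 5 ≤ 2 ^ (m - 2) := Nat.pow_le_pow_right (by norm_num) (by omega)
      norm_num at h2
      apply main
      · rw [show (2 : ℕ) - 1 = 1 from rfl, mul_one, one_mul]; omega
      · rw [show (2 : ℕ) - 1 = 1 from rfl, one_mul]; omega
  · obtain ⟨x, rfl⟩ : ∃ x, s = x + 1 := ⟨s - 1, by omega⟩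
    rw [Nat.add_sub_cancel] at main hL
    rcases Nat.lt_or_ge m 5 with h5 | h5
    · have h34 : m = 3 ∨ m = 4 := by omega
      rcases h34 with rfl | rfl
      · rcases Nat.lt_or_ge x 4 with h4 | h4
        · have hx : x = 2 ∨ x = 3 := by omega
          rcases hx with rfl | rfl
          · have h1 : Nat.gcd 3 (3 + 1) * (3 + 1) * c = 24192 := he
            norm_num at h1
            have h1' : c = 6048 := by omega
            subst h1'
            exact h.primes (l := [2, 3, 7]) (k := 6) (by decide) (by decide) (by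
              intro s hs
              simp only [List.mem_cons, List.not_mem_nil, or_false] at hs
              omega)
          · exact h.big (b := 12) (by norm_num at hL; omega) hc (by norm_num)
        · apply main
          · norm_num; nlinarith
          · norm_num; nlinarith
      · rcases Nat.lt_or_ge x 3 with h4 | h4
        · obtain rfl : x = 2 := by omega
          exact h.big (b := 18) (by norm_num at hL; omega) hc (by norm_num)
        · apply main
          · norm_num; nlinarith [Nat.mul_le_mul h4 h4, Nat.mul_le_mul h4 (Nat.mul_le_mul h4 h4)]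
          · norm_num; nlinarith
    · have h1 := exp_e h5
      have h2 : 3 ^ (m - 2) ≤ (x + 1) ^ (m - 2) := Nat.pow_le_pow_left h3 _
      have h6 : 3 ^ 3 ≤ 3 ^ (m - 2) := Nat.pow_le_pow_right (by norm_num) (by omega)
      norm_num at h6
      have h7 : m + (m ^ 2 - 1) ≤ 2 * (x + 1) ^ (m - 2) := by omega
      apply main
      · have h8 : 2 ≤ x := by omega
        calc m + (m ^ 2 - 1) * x ≤ x * m + x * (m ^ 2 - 1) := by
              rw [mul_comm x (m ^ 2 - 1)]
              exact Nat.add_le_add_right (Nat.le_mul_of_pos_left m (by omega)) _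
          _ = x * (m + (m ^ 2 - 1)) := by ring
          _ ≤ x * (2 * (x + 1) ^ (m - 2)) := Nat.mul_le_mul_left _ h7
          _ = 2 * (x * (x + 1) ^ (m - 2)) := by ring
      · have h8 : 1 ≤ x := by omega
        calc 9 ≤ 1 * 27 := by norm_num
          _ ≤ x * (x + 1) ^ (m - 2) := Nat.mul_le_mul h8 (h6.trans h2)

/-! ### orthogonal groups -/

theorem two_mul_geo {s j : ℕ} (hs : 1 ≤ s) {k : ℕ} (h : k ≤ 2 * ∑ i ∈ Finset.range j, s ^ i) :
    k * (s - 1) ≤ 2 * (s ^ j - 1) := by
  rw [geo hs, ← mul_assoc]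
  exact Nat.mul_le_mul_right _ h

/-- the general estimate -/
theorem orth_main {s j k e : ℕ} (hs : 2 ≤ s) (h : SgD n c d) (hL : s ^ j - 1 ≤ n) (hc : c ≤ 2 ^ e * s ^ k)
    (hk : e + k ≤ 2 * ∑ i ∈ Finset.range j, s ^ i) (h9 : 9 ≤ s ^ j - 1) : False := by
  refine h.big hL hc (pow_key (by omega) ?_ h9)
  refine le_trans ?_ (two_mul_geo (by omega) hk)
  calc e + k * (s - 1) ≤ e * (s - 1) + k * (s - 1) :=
        Nat.add_le_add_right (Nat.le_mul_of_pos_right _ (by omega)) _
    _ = (e + k) * (s - 1) := by ring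

theorem geo_cube {s : ℕ} : ∑ i ∈ Finset.range 3, s ^ i = 1 + s + s ^ 2 := by
  simp [Finset.sum_range_succ]

theorem geo_ge_three {s j : ℕ} (hs : 3 ≤ s) : 3 ^ j - 1 ≤ 2 * ∑ i ∈ Finset.range j, s ^ i := by
  rw [← geo_three]
  exact Nat.mul_le_mul_left _ (geo_mono hs)

theorem exp_o {m : ℕ} (hm : 5 ≤ m) : 2 * m ^ 2 + m + 1 ≤ 3 ^ (m - 1) := by
  obtain ⟨k, rfl⟩ : ∃ k, m = k + 5 := ⟨m - 5, by omega⟩
  rw [show k + 5 - 1 = k + 4 by omega]
  induction k with
  | zero => norm_num
  | succ k ih =>
    have := ih (by omega)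
    rw [show k + 1 + 4 = (k + 4) + 1 by ring, pow_succ 3 (k + 4)]
    nlinarith

theorem exp_p {m : ℕ} (hm : 7 ≤ m) : 2 * m ^ 2 + 2 ≤ 2 ^ m + m := by
  induction m, hm using Nat.le_induction with
  | base => norm_num
  | succ k hk ih => rw [pow_succ 2 k]; nlinarith

theorem exp_q {m : ℕ} (hm : 8 ≤ m) : 2 * m ^ 2 + 3 ≤ 2 ^ (m - 1) + m := by
  obtain ⟨k, rfl⟩ : ∃ k, m = k + 8 := ⟨m - 8, by omega⟩
  rw [show k + 8 - 1 = k + 7 by omega]
  induction k with
  | zero => norm_num
  | succ k ih =>
    have := ih (by omega)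
    rw [show k + 1 + 7 = (k + 7) + 1 by ring, pow_succ 2 (k + 7)]
    nlinarith

theorem exp_r {m : ℕ} (hm : 6 ≤ m) : 2 * m ^ 2 + 2 ≤ 3 ^ (m - 2) + m := by
  obtain ⟨k, rfl⟩ : ∃ k, m = k + 6 := ⟨m - 6, by omega⟩
  rw [show k + 6 - 2 = k + 4 by omega]
  induction k with
  | zero => norm_num
  | succ k ih =>
    have := ih (by omega)
    rw [show k + 1 + 4 = (k + 4) + 1 by ring, pow_succ 3 (k + 4)]
    nlinarith

/-- `n ≥ 26` prime is at least `29` -/
theorem SgD.ge29 (h : SgD n c d) (h26 : 26 ≤ n) : 29 ≤ n := by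
  have hpr := h.pr
  rcases Nat.lt_or_ge n 29 with h1 | h1
  · exfalso
    interval_cases n <;> exact absurd hpr (by norm_num)
  · exact h1

theorem x_oodd {m s : ℕ} (hm : 3 ≤ m) (hs : 2 ≤ s) (hodd : Odd s)
    (he : den (.oodd m s) * c = num (.oodd m s)) (h : SgD n c d)
    (hL : max (s ^ 3 - 1) (s ^ (m - 1) - 1) ≤ n) : False := by
  have hL1 := (le_max_left _ _).trans hL
  have hL2 := (le_max_right _ _).trans hL
  have hnum : num (.oodd m s) ≤ s ^ (2 * m ^ 2 + m) := by
    change s ^ (m ^ 2) * prB s m ≤ _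
    rw [show 2 * m ^ 2 + m = m ^ 2 + m * (m + 1) by ring, pow_add]
    exact Nat.mul_le_mul_left _ (prB_le m s)
  have hc : c ≤ s ^ (2 * m ^ 2 + m) := (le_of_den (show 1 ≤ 2 by norm_num) he).trans hnum
  have hc' : c ≤ 2 ^ 0 * s ^ (2 * m ^ 2 + m) := by simpa using hc
  obtain ⟨y, hy⟩ := hodd
  have h3 : 3 ≤ s := by omega
  have h27 : 3 ^ 3 ≤ s ^ 3 := Nat.pow_le_pow_left h3 3
  norm_num at h27
  rcases Nat.lt_or_ge m 5 with h5 | h5
  · rcases (show m = 3 ∨ m = 4 by omega) with rfl | rfl
    · exact orth_main hs h hL1 hc' (by rw [geo_cube]; nlinarith) (by omega)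
    · rcases Nat.lt_or_ge s 5 with h6 | h6
      · obtain rfl : s = 3 := by omega
        exact h.big (h.ge29 (by omega)) hc (by norm_num)
      · exact orth_main hs h hL1 hc' (by rw [geo_cube]; nlinarith) (by omega)
  · have h81 : 3 ^ 4 ≤ s ^ (m - 1) :=
      (Nat.pow_le_pow_left h3 4).trans (Nat.pow_le_pow_right (by omega) (by omega))
    refine orth_main hs h hL2 hc' (le_trans ?_ (geo_ge_three h3)) (by omega)
    have := exp_o h5
    omega

theorem prB_pred_le {m s : ℕ} (hm : 4 ≤ m) : prB s (m - 1) ≤ s ^ (m * (m - 1)) := by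
  have := prB_le (m - 1) s
  rwa [show (m - 1) * (m - 1 + 1) = m * (m - 1) by rw [Nat.sub_add_cancel (by omega), mul_comm]] at this

theorem exp_eq {m : ℕ} (hm : 4 ≤ m) : m * (m - 1) + (m + m * (m - 1)) = 2 * m ^ 2 - m := by
  obtain ⟨k, rfl⟩ : ∃ k, m = k + 1 := ⟨m - 1, by omega⟩
  rw [Nat.add_sub_cancel]
  have : 2 * (k + 1) ^ 2 = 2 * ((k + 1) * k) + 2 * (k + 1) := by ring
  omega

theorem x_oplus {m s : ℕ} (hm : 4 ≤ m) (hs : 2 ≤ s)
    (he : den (.oplus m s) * c = num (.oplus m s)) (h : SgD n c d)
    (hL : max (s ^ 3 - 1) (s ^ (m - 1) - 1) ≤ n) : False := by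
  have hL1 := (le_max_left _ _).trans hL
  have hL2 := (le_max_right _ _).trans hL
  have hc : c ≤ s ^ (2 * m ^ 2 - m) := by
    refine (le_of_den (Nat.gcd_pos_of_pos_left _ (by norm_num)) he).trans ?_
    change s ^ (m * (m - 1)) * ((s ^ m - 1) * prB s (m - 1)) ≤ _
    rw [← exp_eq hm, pow_add, pow_add]
    exact Nat.mul_le_mul_left _ (Nat.mul_le_mul (Nat.sub_le _ _) (prB_pred_le hm))
  have hc' : c ≤ 2 ^ 0 * s ^ (2 * m ^ 2 - m) := by simpa using hc
  rcases Nat.lt_or_ge s 3 with h3 | h3
  · obtain rfl : s = 2 := by omega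
    rcases Nat.lt_or_ge m 7 with h7 | h7
    · rcases (show m = 4 ∨ m = 5 ∨ m = 6 by omega) with rfl | rfl | rfl
      · have h1 : 1 * c = 174182400 := he
        rw [one_mul] at h1
        subst h1
        exact h.small (k := 15) (by decide)
      · have h1 : 1 * c = 23499295948800 := he
        rw [one_mul] at h1
        subst h1
        norm_num at hL2
        refine h.primes' (l := [2, 3, 5, 7, 17, 31]) (k := 20) (by decide) (by decide) ?_
        have hpr := h.pr
        have h16 : 16 ≤ n := by
          rcases Nat.lt_or_ge n 16 with h1 | h1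
          · obtain rfl : n = 15 := by omega
            exact absurd hpr (by norm_num)
          · exact h1
        intro s hs
        simp only [List.mem_cons, List.not_mem_nil, or_false] at hs
        exact mod_ne (by omega) (by omega)
      · have h1 : 1 * c = 50027557148216524800 := he
        rw [one_mul] at h1
        subst h1
        norm_num at hL2
        refine h.primes' (l := [2, 3, 5, 7, 11, 17, 31]) (k := 30) (by decide) (by decide) ?_
        intro s hs
        simp only [List.mem_cons, List.not_mem_nil, or_false] at hs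
        exact mod_ne (by omega) (by omega)
    · have h64 : 2 ^ 6 ≤ 2 ^ (m - 1) := Nat.pow_le_pow_right (by norm_num) (by omega)
      refine orth_main hs h hL2 hc' ?_ (by omega)
      rw [geo_two]
      have h1 := exp_p h7
      have h2 : 2 ^ m = 2 * 2 ^ (m - 1) := by
        rw [← pow_succ']; congr 1; omega
      omega
  · have h27 : 3 ^ 3 ≤ s ^ 3 := Nat.pow_le_pow_left h3 3
    norm_num at h27
    rcases Nat.lt_or_ge m 5 with h5 | h5
    · obtain rfl : m = 4 := by omega
      rcases Nat.lt_or_ge s 4 with h6 | h6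
      · obtain rfl : s = 3 := by omega
        exact h.big (h.ge29 (by omega)) hc (by norm_num)
      · exact orth_main hs h hL1 hc' (by rw [geo_cube]; norm_num; nlinarith) (by omega)
    · have h81 : 3 ^ 4 ≤ s ^ (m - 1) :=
        (Nat.pow_le_pow_left h3 4).trans (Nat.pow_le_pow_right (by omega) (by omega))
      refine orth_main hs h hL2 hc' (le_trans ?_ (geo_ge_three h3)) (by omega)
      have := exp_o h5
      omega

theorem x_ominus {m s : ℕ} (hm : 4 ≤ m) (hs : 2 ≤ s)
    (he : den (.ominus m s) * c = num (.ominus m s)) (h : SgD n c d)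
    (hL : max (s ^ 3 - 1) (s ^ (m - 2) - 1) ≤ n) : False := by
  have hL1 := (le_max_left _ _).trans hL
  have hL2 := (le_max_right _ _).trans hL
  have hc : c ≤ 2 ^ 1 * s ^ (2 * m ^ 2 - m) := by
    refine (le_of_den (Nat.gcd_pos_of_pos_left _ (by norm_num)) he).trans ?_
    change s ^ (m * (m - 1)) * ((s ^ m + 1) * prB s (m - 1)) ≤ _
    rw [pow_one, ← exp_eq hm, pow_add, pow_add]
    have h1 : 1 ≤ s ^ m := Nat.one_le_pow _ _ (by omega)
    calc s ^ (m * (m - 1)) * ((s ^ m + 1) * prB s (m - 1))
        ≤ s ^ (m * (m - 1)) * ((2 * s ^ m) * s ^ (m * (m - 1))) :=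
          Nat.mul_le_mul_left _ (Nat.mul_le_mul (by omega) (prB_pred_le hm))
      _ = _ := by ring
  rcases Nat.lt_or_ge s 3 with h3 | h3
  · obtain rfl : s = 2 := by omega
    rcases Nat.lt_or_ge m 8 with h7 | h7
    · rcases (show m = 4 ∨ m = 5 ∨ m = 6 ∨ m = 7 by omega) with rfl | rfl | rfl | rfl
      · have h1 : 1 * c = 197406720 := he
        rw [one_mul] at h1
        subst h1
        exact h.small (k := 15) (by decide)
      · have h1 : 1 * c = 25015379558400 := he
        rw [one_mul] at h1
        subst h1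
        norm_num at hL1
        refine h.primes' (l := [2, 3, 5, 7, 11, 17]) (k := 20) (by decide) (by decide) ?_
        rcases h.seven_or with rfl | rfl | h1
        · omega
        · decide
        · intro s hs
          simp only [List.mem_cons, List.not_mem_nil, or_false] at hs
          exact mod_ne (by omega) (by omega)
      · have h1 : 1 * c = 51615733565620224000 := he
        rw [one_mul] at h1
        subst h1
        norm_num at hL2
        refine h.primes' (l := [2, 3, 5, 7, 11, 13, 17, 31]) (k := 30) (by decide) (by decide) ?_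
        have hpr := h.pr
        have h16 : 16 ≤ n := by
          rcases Nat.lt_or_ge n 16 with h1 | h1
          · obtain rfl : n = 15 := by omega
            exact absurd hpr (by norm_num)
          · exact h1
        intro s hs
        simp only [List.mem_cons, List.not_mem_nil, or_false] at hs
        exact mod_ne (by omega) (by omega)
      · have h1 : 1 * c = 1718194449153210615595008000 := he
        rw [one_mul] at h1
        subst h1
        norm_num at hL2
        refine h.primes' (l := [2, 3, 5, 7, 11, 13, 17, 31, 43]) (k := 42) (by decide) (by decide) ?_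
        intro s hs
        simp only [List.mem_cons, List.not_mem_nil, or_false] at hs
        exact mod_ne (by omega) (by omega)
    · have h64 : 2 ^ 6 ≤ 2 ^ (m - 2) := Nat.pow_le_pow_right (by norm_num) (by omega)
      refine orth_main hs h hL2 hc ?_ (by omega)
      rw [geo_two]
      have h1 := exp_q h7
      have h2 : 2 ^ (m - 1) = 2 * 2 ^ (m - 2) := by
        rw [← pow_succ']; congr 1; omega
      omega
  · have h27 : 3 ^ 3 ≤ s ^ 3 := Nat.pow_le_pow_left h3 3
    norm_num at h27
    rcases Nat.lt_or_ge m 6 with h5 | h5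
    · rcases (show m = 4 ∨ m = 5 by omega) with rfl | rfl
      · rcases Nat.lt_or_ge s 4 with h6 | h6
        · obtain rfl : s = 3 := by omega
          exact h.big (h.ge29 (by omega)) hc (by norm_num)
        · exact orth_main hs h hL1 hc (by rw [geo_cube]; norm_num; nlinarith) (by omega)
      · rcases Nat.lt_or_ge s 5 with h6 | h6
        · rcases (show s = 3 ∨ s = 4 by omega) with rfl | rfl
          · have h1 : 4 * c = 2600339861038664908800 := he
            have h2 : c = 650084965259666227200 := by omega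
            subst h2
            refine h.primes' (l := [2, 3, 5, 7, 13, 41, 61]) (k := 20) (by decide) (by decide) ?_
            have h29 := h.ge29 (by omega)
            have hpr := h.pr
            rcases Nat.lt_or_ge n 31 with h7 | h7
            · rcases (show n = 29 ∨ n = 30 by omega) with rfl | rfl
              · decide
              · exact absurd hpr (by norm_num)
            · intro s hs
              simp only [List.mem_cons, List.not_mem_nil, or_false] at hs
              exact mod_ne (by omega) (by omega)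
          · exact h.big hL1 hc (by norm_num)
        · exact orth_main hs h hL1 hc (by rw [geo_cube]; norm_num; nlinarith) (by omega)
    · have h81 : 3 ^ 4 ≤ s ^ (m - 2) :=
        (Nat.pow_le_pow_left h3 4).trans (Nat.pow_le_pow_right (by omega) (by omega))
      refine orth_main hs h hL2 hc (le_trans ?_ (geo_ge_three h3)) (by omega)
      have := exp_r h5
      have h8 : m ≤ m ^ 2 := Nat.le_self_pow (by norm_num) m
      omega

end Cfsg.Agent.H927.SgX
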