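import Cfsg.Agent.H927.SgXFam3
import Cfsg.Agent.H192.SingerNum
import Cfsg.Agent.H915.GNDefs

/-!
# Cross characteristic elimination for the Singer case: interface with `SLNum`, `SUNum`
-/

set_option autoImplicit false

namespace Cfsg.Agent.H927.SgX

open Cfsg.Agent.OrdDiv Cfsg.Agent.H436 Cfsg.Agent.H192.Singer Cfsg.Agent.H915.GN

variable {n q c d : ℕ}

theorem mod_of_two_mul_dvd {s : ℕ} (hn : 5 ≤ n) (hs : s.Prime) (h : 2 * n ∣ s - 1) : s % (2 * n) = 1 := by
  obtain ⟨k, hk⟩ := h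
  have h1 := hs.two_le
  have h2 : s = 1 + 2 * n * k := by omega
  rw [h2, Nat.add_mul_mod_self_left, Nat.mod_eq_of_lt (by omega)]

theorem four_pow {n : ℕ} (hn : 5 ≤ n) : 2 ^ n + 1 ≤ 4 ^ (n - 2) := by
  obtain ⟨k, rfl⟩ : ∃ k, n = k + 5 := ⟨n - 5, by omega⟩
  rw [show k + 5 - 2 = k + 3 by omega, pow_add, pow_add]
  have h1 : 2 ^ k ≤ 4 ^ k := Nat.pow_le_pow_left (by norm_num) k
  have h2 := Nat.one_le_pow k 4 (by norm_num)
  norm_num
  omega

/-- the numerical data of an overgroup of the Singer torus satisfy `SgD` -/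
theorem sgd_of_sl (h : SLNum n q c d) (hle : n * d * (d + 1) ≤ c) : SgD n c d := by
  have h5 := h.five_le
  have h2 := h.two_le
  have hm := h.mul_gcd
  -- either the gcd is `1` or `n ≤ q - 1`
  have hcase : Nat.gcd n (q - 1) = 1 ∨ (Nat.gcd n (q - 1) = n ∧ n + 1 ≤ q) := by
    rcases (Nat.dvd_prime h.np).1 (Nat.gcd_dvd_left n (q - 1)) with h3 | h3
    · exact .inl h3
    · refine .inr ⟨h3, ?_⟩
      have h4 : n ∣ q - 1 := by
        have := Nat.gcd_dvd_right n (q - 1)
        rwa [h3] at this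
      have := Nat.le_of_dvd (by omega) h4
      omega
  refine ⟨h.np, h5, ?_, h.dvd, hle, fun s hs hsd => mod_of_two_mul_dvd h5 hs (h.two_mul_dvd hs hsd), ?_⟩
  · rcases hcase with h3 | ⟨h3, h4⟩
    · rw [h3, mul_one] at hm
      have h6 : 2 ^ n - 1 ≤ d := by
        rw [hm, ← geo_two]
        exact geo_mono h2
      have h7 : 2 ^ 5 ≤ 2 ^ n := Nat.pow_le_pow_right (by norm_num) h5
      omega
    · have h6 := h.pow_le
      have h7 : q ^ (n - 1) = q ^ (n - 2) * q := by
        rw [← pow_succ]; congr 1; omega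
      have h8 : q ^ (n - 2) ≤ d := by
        rw [h7] at h6
        have h9 : q ^ (n - 2) * n ≤ d * n := (Nat.mul_le_mul_left _ (by omega)).trans h6
        exact Nat.le_of_mul_le_mul_right h9 (by omega)
      have h9 : 4 ^ (n - 2) ≤ q ^ (n - 2) := Nat.pow_le_pow_left (by omega) _
      have h10 := four_pow h5
      omega
  · rintro ⟨rfl, rfl⟩
    have h3 : Nat.gcd 5 (q - 1) ≤ 5 := Nat.gcd_le_left _ (by norm_num)
    have h4 : ∑ i ∈ Finset.range 5, q ^ i = q ^ 4 + q ^ 3 + q ^ 2 + q + 1 := by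
      simp [Finset.sum_range_succ]; ring
    rw [h4] at hm
    rcases Nat.lt_or_ge q 3 with h6 | h6
    · obtain rfl : q = 2 := by omega
      norm_num at hm
    · have h7 : 3 ^ 4 ≤ q ^ 4 := Nat.pow_le_pow_left h6 4
      omega

theorem sgd_of_su (h : SUNum n q c d) (h52 : ¬ (n = 5 ∧ q = 2)) (hle : n * d * (d + 1) ≤ c) : SgD n c d := by
  have h5 := h.five_le
  have h2 := h.two_le
  have hd := h.hd
  have hcase : Nat.gcd n (q + 1) = 1 ∨ (Nat.gcd n (q + 1) = n ∧ n ≤ q + 1) := by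
    rcases (Nat.dvd_prime h.np).1 (Nat.gcd_dvd_left n (q + 1)) with h3 | h3
    · exact .inl h3
    · refine .inr ⟨h3, ?_⟩
      have h4 : n ∣ q + 1 := by
        have := Nat.gcd_dvd_right n (q + 1)
        rwa [h3] at this
      exact Nat.le_of_dvd (by omega) h4
  refine ⟨h.np, h5, ?_, h.dvd, hle, fun s hs hsd => mod_of_two_mul_dvd h5 hs (h.two_mul_dvd hs hsd), ?_⟩
  · rcases hcase with h3 | ⟨h3, h4⟩
    · rw [h3, mul_one] at hd
      rcases Nat.lt_or_ge q 3 with h6 | h6
      · obtain rfl : q = 2 := by omega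
        omega
      · -- `3 d (q + 1) = 3 (q ^ n + 1) ≥ (2 ^ n + 1) (q + 1)`
        have h7 : 3 ^ (n - 1) ≤ q ^ (n - 1) := Nat.pow_le_pow_left h6 _
        have h8 : q ^ n = q ^ (n - 1) * q := by rw [← pow_succ]; congr 1; omega
        have h9 : 4 * 2 ^ n + 4 ≤ 9 * 3 ^ (n - 1) := by
          obtain ⟨k, rfl⟩ : ∃ k, n = k + 5 := ⟨n - 5, by omega⟩
          rw [show k + 5 - 1 = k + 4 by omega, pow_add, pow_add]
          have h1 : 2 ^ k ≤ 3 ^ k := Nat.pow_le_pow_left (by norm_num) k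
          have h2 := Nat.one_le_pow k 3 (by norm_num)
          norm_num
          omega
        have h10 : (2 ^ n + 1) * (q + 1) ≤ 3 * d * (q + 1) := by
          have h11 : 3 * d * (q + 1) = 3 * (q ^ (n - 1) * q) + 3 := by
            rw [mul_assoc, hd, h8]; ring
          rw [h11]
          have h12 : 3 * (2 ^ n + 1) * (q + 1) ≤ (4 * 2 ^ n + 4) * q := by nlinarith [Nat.zero_le (2 ^ n)]
          have h13 : (4 * 2 ^ n + 4) * q ≤ 9 * q ^ (n - 1) * q :=
            Nat.mul_le_mul_right _ (h9.trans (Nat.mul_le_mul_left _ h7))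
          nlinarith
        exact Nat.le_of_mul_le_mul_right h10 (by omega)
    · have h6 : 4 ^ (n - 2) ≤ q ^ (n - 2) := Nat.pow_le_pow_left (by omega) _
      have h7 := four_pow h5
      -- `3 d ≥ q ^ (n - 2)`
      have h8 : q ^ (n - 2) ≤ 3 * d := by
        have h9 : q ^ n = q ^ (n - 2) * (q * q) := by
          rw [mul_comm q q, ← mul_assoc, ← pow_succ, ← pow_succ]; congr 1; omega
        have h10 : q ^ n + 1 ≤ d * ((q + 1) * (q + 1)) := by
          rw [← hd, h3]
          exact Nat.mul_le_mul_left _ (Nat.mul_le_mul_left _ h4)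
        have h11 : (q + 1) * (q + 1) ≤ 3 * (q * q) := by nlinarith
        have h12 : q ^ (n - 2) * (q * q) ≤ (3 * d) * (q * q) := by
          rw [← h9]
          calc q ^ n ≤ d * ((q + 1) * (q + 1)) := by omega
            _ ≤ d * (3 * (q * q)) := Nat.mul_le_mul_left _ h11
            _ = _ := by ring
        exact Nat.le_of_mul_le_mul_right h12 (by positivity)
      omega
  · rintro ⟨rfl, rfl⟩
    have h3 : Nat.gcd 5 (q + 1) ≤ 5 := Nat.gcd_le_left _ (by norm_num)
    have h6 : 3 ≤ q := by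
      by_contra h7
      exact h52 ⟨rfl, by omega⟩
    have h7 : 11 * ((q + 1) * Nat.gcd 5 (q + 1)) ≤ 11 * ((q + 1) * 5) :=
      Nat.mul_le_mul_left _ (Nat.mul_le_mul_left _ h3)
    rw [hd] at h7
    have h8 : 3 ^ 4 * q ≤ q ^ 4 * q := Nat.mul_le_mul_right _ (Nat.pow_le_pow_left h6 4)
    have h9 : q ^ 5 = q ^ 4 * q := by ring
    omega

theorem isLieN_of_hasChar {r : ℕ} {g : Grp} (h : HasChar r g) : IsLieN g := by
  cases g <;> first | exact trivial | exact h

/-- **Cross characteristic elimination, linear case.** -/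
theorem sl_cross {g : Grp} {r : ℕ} (hg : Cond g) (hch : HasChar r g) (hc : den g * c = num g)
    (h : SLNum n q c d) (hle : n * d * (d + 1) ≤ c) (hL : lsb g ≤ n) : False :=
  sg_cross hg (isLieN_of_hasChar hch) hc (sgd_of_sl h hle) hL

/-- **Cross characteristic elimination, unitary case.** -/
theorem su_cross {g : Grp} {r : ℕ} (hg : Cond g) (hch : HasChar r g) (hc : den g * c = num g)
    (h : SUNum n q c d) (h52 : ¬ (n = 5 ∧ q = 2)) (hle : n * d * (d + 1) ≤ c) (hL : lsb g ≤ n) : False :=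
  sg_cross hg (isLieN_of_hasChar hch) hc (sgd_of_su h h52 hle) hL

end Cfsg.Agent.H927.SgX
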