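import Mathlib

/-!
# Cross characteristic elimination for the Singer case: numerics

`SgD n c d`: the numerical data of a simple group of order `c` with a cyclic CC subgroup of order `d`,
`n = |N : D|` prime, inside `PGL_n(q)` or `PGU_n(q)`.
-/

set_option autoImplicit false

namespace Cfsg.Agent.H927.SgX

/-- the numerical data -/
structure SgD (n c d : ℕ) : Prop where
  pr : n.Prime
  five : 5 ≤ n
  d1 : 2 ^ n + 1 ≤ 3 * d
  dvd : d ∣ c
  le : n * d * (d + 1) ≤ c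
  mod : ∀ s, s.Prime → s ∣ d → s % (2 * n) = 1
  ne : ¬ (n = 5 ∧ d = 11)

variable {n c d : ℕ}

theorem SgD.lt (h : SgD n c d) : n * 4 ^ n < 9 * c := by
  have h1 := h.le
  have h2 := h.d1
  have h3 : 4 ^ n = 2 ^ n * 2 ^ n := by rw [← mul_pow]; norm_num
  have h4 : 2 ^ n * 2 ^ n ≤ (3 * d) * (3 * d) := Nat.mul_le_mul (by omega) (by omega)
  have h5 := h.five
  have h6 : 0 < d := by
    have : 0 < 2 ^ n := by positivity
    omega
  calc n * 4 ^ n = n * (2 ^ n * 2 ^ n) := by rw [h3]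
    _ ≤ n * ((3 * d) * (3 * d)) := Nat.mul_le_mul_left _ h4
    _ < 9 * (n * d * (d + 1)) := by nlinarith [Nat.mul_pos (show 0 < n by omega) h6]
    _ ≤ 9 * c := Nat.mul_le_mul_left _ h1

theorem mono {a b : ℕ} (h : a ≤ b) : a * 4 ^ a ≤ b * 4 ^ b :=
  Nat.mul_le_mul h (Nat.pow_le_pow_right (by norm_num) h)

theorem SgD.big (h : SgD n c d) {b N : ℕ} (hb : b ≤ n) (hc : c ≤ N) (hN : 9 * N ≤ b * 4 ^ b) : False := by
  have h1 := h.lt
  have h2 := mono hb
  omega

/-- small orders are impossible -/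
theorem SgD.c_large (h : SgD n c d) : 568 < c := by
  have h1 := h.lt
  have h2 := mono h.five
  norm_num at h2
  omega

theorem SgD.exists_prime (h : SgD n c d) : ∃ s, s.Prime ∧ s ∣ c ∧ s % (2 * n) = 1 := by
  have h1 := h.d1
  have h2 : 2 ^ 5 ≤ 2 ^ n := Nat.pow_le_pow_right (by norm_num) h.five
  have h3 : d ≠ 1 := by
    rintro rfl
    norm_num at h2
    omega
  obtain ⟨s, hs, hsd⟩ := Nat.exists_prime_and_dvd h3
  exact ⟨s, hs, hsd.trans h.dvd, h.mod s hs hsd⟩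

theorem lt_of_mod {s : ℕ} (hs : s.Prime) (h : s % (2 * n) = 1) : 2 * n < s := by
  by_contra hle
  rcases Nat.lt_or_ge s (2 * n) with h1 | h1
  · rw [Nat.mod_eq_of_lt h1] at h
    exact hs.one_lt.ne' h
  · obtain rfl : s = 2 * n := by omega
    rw [Nat.mod_self] at h
    exact absurd h (by norm_num)

/-- elimination by the size of the prime divisors -/
theorem SgD.primes (h : SgD n c d) {l : List ℕ} {k : ℕ} (hl : ∀ s ∈ l, s.Prime) (hc : c ∣ l.prod ^ k)
    (hb : ∀ s ∈ l, s ≤ 2 * n) : False := by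
  obtain ⟨s, hs, hsc, hmod⟩ := h.exists_prime
  have h1 : s ∣ l.prod := hs.dvd_of_dvd_pow (hsc.trans hc)
  rw [(Nat.Prime.prime hs).dvd_prod_iff] at h1
  obtain ⟨t, ht, hst⟩ := h1
  obtain rfl := (Nat.prime_dvd_prime_iff_eq hs (hl t ht)).1 hst
  have h2 := lt_of_mod hs hmod
  have h3 := hb s ht
  omega

/-- elimination by the residues of the prime divisors -/
theorem SgD.primes' (h : SgD n c d) {l : List ℕ} {k : ℕ} (hl : ∀ s ∈ l, s.Prime) (hc : c ∣ l.prod ^ k)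
    (hb : ∀ s ∈ l, s % (2 * n) ≠ 1) : False := by
  obtain ⟨s, hs, hsc, hmod⟩ := h.exists_prime
  have h1 : s ∣ l.prod := hs.dvd_of_dvd_pow (hsc.trans hc)
  rw [(Nat.Prime.prime hs).dvd_prod_iff] at h1
  obtain ⟨t, ht, hst⟩ := h1
  obtain rfl := (Nat.prime_dvd_prime_iff_eq hs (hl t ht)).1 hst
  exact hb s ht hmod

theorem mod_ne {s : ℕ} (h1 : s ≠ 1) (h : s < 2 * n) : s % (2 * n) ≠ 1 := by
  rw [Nat.mod_eq_of_lt h]; exact h1

theorem SgD.five_or (h : SgD n c d) : n = 5 ∨ 7 ≤ n := by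
  have h1 := h.five
  rcases Nat.lt_or_ge n 7 with h2 | h2
  · left
    have h3 : n ≠ 6 := by
      rintro rfl
      exact absurd h.pr (by norm_num)
    omega
  · exact .inr h2

theorem SgD.seven_or (h : SgD n c d) : n = 5 ∨ n = 7 ∨ 11 ≤ n := by
  have h1 := h.pr
  rcases h.five_or with h2 | h2
  · exact .inl h2
  · rcases Nat.lt_or_ge n 11 with h3 | h3
    · interval_cases n
      · exact .inr (.inl rfl)
      · exact absurd h1 (by norm_num)
      · exact absurd h1 (by norm_num)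
      · exact absurd h1 (by norm_num)
    · exact .inr (.inr h3)

/-- orders with the primes `2, 3, 5, 7, 13, 17` only -/
theorem SgD.small (h : SgD n c d) {k : ℕ} (hc : c ∣ [2, 3, 5, 7, 13, 17].prod ^ k) : False := by
  refine h.primes' (l := [2, 3, 5, 7, 13, 17]) (by decide) hc ?_
  intro s hs
  rcases h.seven_or with rfl | rfl | h1
  · revert s; decide
  · revert s; decide
  · simp only [List.mem_cons, List.not_mem_nil, or_false] at hs
    exact mod_ne (by omega) (by omega)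

/-- the comparison `s ≤ 2 ^ (s - 1)` -/
theorem pow_key {s k b e : ℕ} (hs : 1 ≤ s) (h : e + k * (s - 1) ≤ 2 * b) (hb : 9 ≤ b) :
    9 * (2 ^ e * s ^ k) ≤ b * 4 ^ b := by
  have h1 : s ≤ 2 ^ (s - 1) := by
    have := Nat.lt_two_pow_self (n := s - 1)
    omega
  have h2 : s ^ k ≤ 2 ^ (k * (s - 1)) := by
    calc s ^ k ≤ (2 ^ (s - 1)) ^ k := Nat.pow_le_pow_left h1 k
      _ = 2 ^ (k * (s - 1)) := by rw [← pow_mul, mul_comm]
  have h3 : 2 ^ e * s ^ k ≤ 4 ^ b := by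
    calc 2 ^ e * s ^ k ≤ 2 ^ e * 2 ^ (k * (s - 1)) := Nat.mul_le_mul_left _ h2
      _ = 2 ^ (e + k * (s - 1)) := by rw [pow_add]
      _ ≤ 2 ^ (2 * b) := Nat.pow_le_pow_right (by norm_num) h
      _ = 4 ^ b := by rw [pow_mul]; norm_num
  exact Nat.mul_le_mul hb h3

theorem pow_key0 {s k b : ℕ} (hs : 1 ≤ s) (h : k * (s - 1) ≤ 2 * b) (hb : 9 ≤ b) :
    9 * s ^ k ≤ b * 4 ^ b := by
  have := pow_key (e := 0) hs (by simpa using h) hb
  simpa using this

/-- geometric sums -/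
theorem geo {s j : ℕ} (hs : 1 ≤ s) : s ^ j - 1 = (∑ i ∈ Finset.range j, s ^ i) * (s - 1) := by
  obtain ⟨x, rfl⟩ : ∃ x, s = x + 1 := ⟨s - 1, by omega⟩
  rw [← geom_sum_mul_add x j]
  simp

theorem geo_mono {s t j : ℕ} (h : s ≤ t) :
    ∑ i ∈ Finset.range j, s ^ i ≤ ∑ i ∈ Finset.range j, t ^ i :=
  Finset.sum_le_sum fun i _ => Nat.pow_le_pow_left h i

theorem geo_two (j : ℕ) : ∑ i ∈ Finset.range j, 2 ^ i = 2 ^ j - 1 := by
  have := geo (s := 2) (j := j) (by norm_num)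
  rw [this]; simp

theorem geo_three (j : ℕ) : 2 * ∑ i ∈ Finset.range j, 3 ^ i = 3 ^ j - 1 := by
  have := geo (s := 3) (j := j) (by norm_num)
  rw [this]; ring

theorem exp_a {m : ℕ} (hm : 5 ≤ m) : m ^ 2 + 2 ≤ 2 ^ m := by
  induction m, hm using Nat.le_induction with
  | base => norm_num
  | succ k hk ih => rw [pow_succ 2 k]; nlinarith

theorem exp_b {m : ℕ} (hm : 4 ≤ m) : 4 * m ^ 2 + 2 * m + 1 ≤ 3 ^ m := by
  induction m, hm using Nat.le_induction with
  | base => norm_num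
  | succ k hk ih => rw [pow_succ 3 k]; nlinarith

theorem exp_c {m : ℕ} (hm : 5 ≤ m) : 2 * m ^ 2 + m + 2 ≤ 2 * 2 ^ m := by
  induction m, hm using Nat.le_induction with
  | base => norm_num
  | succ k hk ih => rw [pow_succ 2 k]; nlinarith

end Cfsg.Agent.H927.SgX
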