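import Cfsg.Agent.H86.MinDec
import Cfsg.Agent.H86.Pair
import Cfsg.Agent.ChevalleyStructure.NBlock

/-!
# Opposite long root subgroups (S2539, part 1)

`cj g A = g A g⁻¹`; `LR A` : `A` is a long root subgroup; `Opp A B` : `(A, B)` is conjugate to `(X_a, X_{-a})`.
`opp_iff_del` : `Opp (cj g' X_a) (cj g X_a)` iff the entry `(-a, a)` of `g'⁻¹ g` is non-zero.
-/

set_option autoImplicit false

namespace Cfsg.Agent.H927.Sz

open Cfsg.Lie Cfsg.Agent.ChevalleyStructure Cfsg.Agent.ChevalleyStructure.RootCombGood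
  Cfsg.Agent.ChevalleyStructure.RootWord Cfsg.Agent.ChevalleyStructure.RootVec
  Cfsg.Agent.ChevalleyStructure.RootVecTab Cfsg.Agent.ChevalleyStructure.RootSupport
  Cfsg.Agent.ChevalleyStructure.Elts Cfsg.Agent.ChevalleyStructure.BruhatSplit
  Cfsg.Agent.H86.Lev Cfsg.Agent.H86.Graded Cfsg.Agent.H86.Par Cfsg.Agent.H92.ChevCent
  Cfsg.Agent.ChevalleyStructure.BlockMonomial

universe u

variable {D : ChevalleyDatum} {K : Type u} [Field K]

/-- conjugate subgroup `g A g⁻¹` -/
def cj {G : Type*} [Group G] (g : G) (A : Subgroup G) : Subgroup G := A.map (MulAut.conj g).toMonoidHom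

section Cj

variable {G : Type*} [Group G]

theorem mem_cj {g x : G} {A : Subgroup G} : x ∈ cj g A ↔ g⁻¹ * x * g ∈ A := by
  constructor
  · rintro ⟨y, hy, rfl⟩
    have : g⁻¹ * (g * y * g⁻¹) * g = y := by group
    show g⁻¹ * (g * y * g⁻¹) * g ∈ A
    rwa [this]
  · intro h
    refine ⟨_, h, ?_⟩
    show g * (g⁻¹ * x * g) * g⁻¹ = x
    group

theorem conj_mem_cj {g x : G} {A : Subgroup G} (h : x ∈ A) : g * x * g⁻¹ ∈ cj g A := ⟨x, h, rfl⟩

theorem cj_mul (g h : G) (A : Subgroup G) : cj (g * h) A = cj g (cj h A) := by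
  ext x
  rw [mem_cj, mem_cj, mem_cj]
  have : (g * h)⁻¹ * x * (g * h) = h⁻¹ * (g⁻¹ * x * g) * h := by group
  rw [this]

@[simp] theorem cj_one (A : Subgroup G) : cj 1 A = A := by
  ext x; rw [mem_cj]; simp

theorem cj_inv_cj (g : G) (A : Subgroup G) : cj g⁻¹ (cj g A) = A := by rw [← cj_mul, inv_mul_cancel, cj_one]

theorem cj_cj_inv (g : G) (A : Subgroup G) : cj g (cj g⁻¹ A) = A := by rw [← cj_mul, mul_inv_cancel, cj_one]

theorem cj_eq_iff {g : G} {A B : Subgroup G} : cj g A = B ↔ A = cj g⁻¹ B := by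
  constructor
  · rintro rfl; rw [cj_inv_cj]
  · rintro rfl; rw [cj_cj_inv]

theorem cj_le_iff {g : G} {A B : Subgroup G} : cj g A ≤ B ↔ A ≤ cj g⁻¹ B := by
  constructor
  · intro h x hx
    rw [mem_cj, inv_inv]
    exact h (conj_mem_cj hx)
  · intro h x hx
    have := h (mem_cj.1 hx)
    rw [mem_cj, inv_inv] at this
    have e : g * (g⁻¹ * x * g) * g⁻¹ = x := by group
    rwa [e] at this

theorem cj_mono {g : G} {A B : Subgroup G} (h : A ≤ B) : cj g A ≤ cj g B := Subgroup.map_mono h

theorem cj_of_mem {g : G} {F : Subgroup G} (h : g ∈ F) : cj g F = F := by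
  ext x
  rw [mem_cj]
  constructor
  · intro hx
    have e : g * (g⁻¹ * x * g) * g⁻¹ = x := by group
    rw [← e]
    exact F.mul_mem (F.mul_mem h hx) (F.inv_mem h)
  · intro hx
    exact F.mul_mem (F.mul_mem (F.inv_mem h) hx) h

theorem cj_le_of_mem {g : G} {F A : Subgroup G} (h : g ∈ F) (hA : A ≤ F) : cj g A ≤ F :=
  (cj_mono hA).trans (cj_of_mem h).le

theorem cj_eq_self_iff {g : G} {A : Subgroup G} : cj g A = A ↔ g ∈ Subgroup.normalizer (A : Set G) := by
  rw [Subgroup.mem_normalizer_iff]
  constructor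
  · intro h x
    constructor
    · intro hx
      have := conj_mem_cj (g := g) hx
      rwa [h] at this
    · intro hx
      have hx' : g * x * g⁻¹ ∈ A := hx
      rw [← h, mem_cj] at hx'
      have e : g⁻¹ * (g * x * g⁻¹) * g = x := by group
      rwa [e] at hx'
  · intro h
    ext x
    rw [mem_cj]
    have := h (g⁻¹ * x * g)
    have e : g * (g⁻¹ * x * g) * g⁻¹ = x := by group
    rw [e] at this
    exact this

theorem cj_sup (g : G) (A B : Subgroup G) : cj g (A ⊔ B) = cj g A ⊔ cj g B := Subgroup.map_sup _ _ _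

theorem cj_of_comm {g : G} {A : Subgroup G} (h : ∀ x ∈ A, g * x = x * g) : cj g A = A := by
  rw [cj_eq_self_iff, Subgroup.mem_normalizer_iff]
  intro x
  constructor
  · intro hx
    rw [h x hx, mul_inv_cancel_right]
    exact hx
  · intro hx
    have h1 := h _ hx
    have e : x = g * x * g⁻¹ := by
      have : g * (g * x * g⁻¹) = g * x := by rw [h1]; group
      have := mul_left_cancel this
      exact this.symm
    rw [e]; exact hx

end Cj

/-! ### the highest root subgroup and its opposite -/

/-- index of `e_a`, `a` the highest root -/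
def iT (hD : InList D) : D.Idx := Sum.inr ⟨top D, top_lt hD⟩

/-- index of `e_{-a}` -/
def iB (hD : InList D) : D.Idx := Sum.inr ⟨0, zero_lt hD⟩

/-- the entry `(-a, a)` -/
def Del (hD : InList D) (g : GL D.Idx K) : K := (g : Matrix D.Idx D.Idx K) (iB hD) (iT hD)

/-- `X_a` -/
abbrev XT (D : ChevalleyDatum) (K : Type u) [Field K] : Subgroup (GL D.Idx K) := D.rootSubgroup K (top D)

/-- `X_{-a}` -/
abbrev XB (D : ChevalleyDatum) (K : Type u) [Field K] : Subgroup (GL D.Idx K) := D.rootSubgroup K 0

theorem wl_iT (hD : InList D) : wl D (car D (top D)) (iT hD) = 2 := by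
  rw [iT, wl_inr]; exact car_top hD

theorem wl_iB (hD : InList D) : wl D (car D (top D)) (iB hD) = -2 := by
  rw [iB, wl_inr]; exact car_zero hD

theorem wl_le (hD : InList D) (j : D.Idx) : wl D (car D (top D)) j ≤ 2 := by
  rcases j with i | s
  · rw [wl_inl]; norm_num
  · rw [wl_inr]; exact (hiT hD).high s s.2

theorem le_wl (hD : InList D) (j : D.Idx) : -2 ≤ wl D (car D (top D)) j := by
  rcases j with i | s
  · rw [wl_inl]; norm_num
  · rw [wl_inr]; exact (hiT hD).low s s.2

theorem eq_iT (hD : InList D) {j : D.Idx} (h : 2 ≤ wl D (car D (top D)) j) : j = iT hD := by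
  rcases j with i | s
  · rw [wl_inl] at h; norm_num at h
  · rw [wl_inr] at h
    have := (hiT hD).top s s.2 (le_antisymm ((hiT hD).high s s.2) h)
    rw [iT]
    congr 1
    exact Fin.ext this

theorem eq_iB (hD : InList D) {j : D.Idx} (h : wl D (car D (top D)) j ≤ -2) : j = iB hD := by
  rcases j with i | s
  · rw [wl_inl] at h; norm_num at h
  · rw [wl_inr] at h
    have h1 : car D 0 s = 2 := by
      rw [car0 hD]
      have := (hiT hD).low s s.2
      omega
    have := (hi0 hD).top s s.2 h1
    rw [iB]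
    congr 1
    exact Fin.ext this

theorem rootSubgroup_le_group (hD : InList D) (r : ℕ) : D.rootSubgroup K r ≤ D.group K := by
  intro x hx
  obtain ⟨t, rfl⟩ := (mem_rootSubgroup_iff hD _ _).1 hx
  exact xG_mem_group hD r t

/-! ### monomial elements -/

/-- the columns `e_s` of the elements of `N` -/
theorem mono_aux (hD : InList D) {n : GL D.Idx K} (hn : n ∈ D.monomialSubgroup K) :
    ∃ w : List ℕ, (∀ a ∈ w, a < D.rank) ∧ Acts n w ∧
      (∀ (s u : Fin D.nroots), u.val ≠ wact D w s.val → (n : Matrix D.Idx D.Idx K) (Sum.inr u) (Sum.inr s) = 0) ∧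
      (∀ (s : Fin D.nroots) (i : Fin D.rank), (n : Matrix D.Idx D.Idx K) (Sum.inl i) (Sum.inr s) = 0) := by
  have G : Good D := good hD
  let S : Subgroup (GL D.Idx K) :=
    { carrier := {n | ∃ w : List ℕ, (∀ a ∈ w, a < D.rank) ∧ Acts n w ∧
        (∀ (s u : Fin D.nroots), u.val ≠ wact D w s.val →
          (n : Matrix D.Idx D.Idx K) (Sum.inr u) (Sum.inr s) = 0) ∧
        (∀ (s : Fin D.nroots) (i : Fin D.rank), (n : Matrix D.Idx D.Idx K) (Sum.inl i) (Sum.inr s) = 0)}
      one_mem' := by
        refine ⟨[], by simp, acts_one, fun s u hu => ?_, fun s i => ?_⟩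
        · exact Matrix.one_apply_ne fun e => hu (congrArg Fin.val (Sum.inr_injective e))
        · exact Matrix.one_apply_ne (by simp)
      mul_mem' := by
        rintro m n ⟨v, hv, hav, h1, h2⟩ ⟨w, hw, haw, h3, h4⟩
        refine ⟨v ++ w, ?_, Acts.mul G hav haw hw, fun s u hu => ?_, fun s i => ?_⟩
        · intro a ha
          rcases List.mem_append.1 ha with h | h
          · exact hv a h
          · exact hw a h
        · rw [wact_append] at hu
          rw [Units.val_mul, Matrix.mul_apply, Fintype.sum_sum_type]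
          rw [Finset.sum_eq_zero fun i _ => by rw [h4, mul_zero], zero_add]
          refine Finset.sum_eq_zero fun x _ => ?_
          by_cases hx : x.val = wact D w s.val
          · rw [h1 x u (by rw [hx]; exact hu), zero_mul]
          · rw [h3 s x hx, mul_zero]
        · rw [Units.val_mul, Matrix.mul_apply, Fintype.sum_sum_type]
          rw [Finset.sum_eq_zero fun i _ => by rw [h4, mul_zero], zero_add]
          exact Finset.sum_eq_zero fun x _ => by rw [h2, zero_mul]
      inv_mem' := by
        rintro n ⟨w, hw, haw, h3, h4⟩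
        have hwr : ∀ a ∈ w.reverse, a < D.rank := fun a ha => hw a (by simpa using ha)
        have hinv : (n : Matrix D.Idx D.Idx K) * ((n⁻¹ : GL D.Idx K) : Matrix D.Idx D.Idx K) = 1 := by
          rw [← Units.val_mul, mul_inv_cancel]; rfl
        have hinv' : ((n⁻¹ : GL D.Idx K) : Matrix D.Idx D.Idx K) * (n : Matrix D.Idx D.Idx K) = 1 := by
          rw [← Units.val_mul, inv_mul_cancel]; rfl
        -- the nonzero entry of the column `e_s`
        have hcol : ∀ (s : Fin D.nroots) (j : D.Idx), (((n⁻¹ : GL D.Idx K) : Matrix D.Idx D.Idx K) *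
            (n : Matrix D.Idx D.Idx K)) j (Sum.inr s) =
            ((n⁻¹ : GL D.Idx K) : Matrix D.Idx D.Idx K) j (Sum.inr ⟨wact D w s.val, wact_lt G hw s.2⟩) *
              (n : Matrix D.Idx D.Idx K) (Sum.inr ⟨wact D w s.val, wact_lt G hw s.2⟩) (Sum.inr s) := by
          intro s j
          rw [Matrix.mul_apply, Fintype.sum_sum_type]
          rw [Finset.sum_eq_zero fun i _ => by rw [h4, mul_zero], zero_add]
          refine Finset.sum_eq_single _ (fun x _ hx => ?_) (fun h => absurd (Finset.mem_univ _) h)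
          rw [h3 s x fun e => hx (Fin.ext e), mul_zero]
        have hne : ∀ s : Fin D.nroots,
            (n : Matrix D.Idx D.Idx K) (Sum.inr ⟨wact D w s.val, wact_lt G hw s.2⟩) (Sum.inr s) ≠ 0 := by
          intro s h0
          have := hcol s (Sum.inr s)
          rw [hinv', h0, mul_zero, Matrix.one_apply_eq] at this
          exact one_ne_zero this
        have hs : ∀ s : Fin D.nroots, ∃ s' : Fin D.nroots, s'.val = wact D w.reverse s.val ∧
            (⟨wact D w s'.val, wact_lt G hw s'.2⟩ : Fin D.nroots) = s := by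
          intro s
          refine ⟨⟨wact D w.reverse s.val, wact_lt G hwr s.2⟩, rfl, Fin.ext ?_⟩
          exact wact_reverse' G hw s.2
        refine ⟨w.reverse, hwr, Acts.inv G haw hw, fun s u hu => ?_, fun s i => ?_⟩
        · obtain ⟨s', e1, e2⟩ := hs s
          have h5 := hcol s' (Sum.inr u)
          rw [e2] at h5
          rw [hinv', Matrix.one_apply_ne (by
            intro e
            exact hu (by rw [Sum.inr_injective e, e1]))] at h5
          have := hne s'
          rw [e2] at this
          rcases mul_eq_zero.1 h5.symm with h | h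
          · exact h
          · exact absurd h this
        · obtain ⟨s', e1, e2⟩ := hs s
          have h5 := hcol s' (Sum.inl i)
          rw [e2] at h5
          rw [hinv', Matrix.one_apply_ne (by simp)] at h5
          have := hne s'
          rw [e2] at this
          rcases mul_eq_zero.1 h5.symm with h | h
          · exact h
          · exact absurd h this }
  have hle : D.monomialSubgroup K ≤ S := by
    rw [NPerm.monomial_eq hD K]
    refine sup_le ((Subgroup.closure_le _).2 ?_) ?_
    · rintro g ⟨i, hi, rfl⟩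
      refine ⟨[i], by simpa using hi, acts_nG_simple hD hi, fun s u hu => ?_, fun s j => ?_⟩
      · obtain ⟨η, -, -, -, -, h⟩ := Cfsg.Agent.S1095.result (F := K) D hD i hi
        rw [coe_nG, h]
        show (if (u : ℕ) = D.reflectRoot i s then ((η s : ℤ) : K) else 0) = 0
        exact if_neg hu
      · obtain ⟨η, -, -, -, -, h⟩ := Cfsg.Agent.S1095.result (F := K) D hD i hi
        rw [coe_nG, h]
        rfl
    · intro g hg
      obtain ⟨χ, -, h⟩ := HDiag.exists_dmat D hD g hg
      refine ⟨[], by simp, acts_of_mem_diagonal hD G hg, fun s u hu => ?_, fun s i => ?_⟩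
      · rw [h]
        exact Matrix.diagonal_apply_ne _ fun e => hu (congrArg Fin.val (Sum.inr_injective e))
      · rw [h]
        exact Matrix.diagonal_apply_ne _ (by simp)
  exact hle hn

/-- words with the same action on root subgroups act in the same way -/
theorem acts_unique (hD : InList D) {n : GL D.Idx K} {v w : List ℕ} (hv : ∀ a ∈ v, a < D.rank)
    (hw : ∀ a ∈ w, a < D.rank) (h1 : Acts n v) (h2 : Acts n w) {s : ℕ} (hs : s < D.nroots) :
    wact D v s = wact D w s :=
  NPerm.rootSubgroup_injective hD K (wact_lt (good hD) hv hs) (wact_lt (good hD) hw hs)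
    ((h1 s hs).symm.trans (h2 s hs))

theorem mono_entry (hD : InList D) {n : GL D.Idx K} (hn : n ∈ D.monomialSubgroup K) {w : List ℕ}
    (hw : ∀ a ∈ w, a < D.rank) (hact : Acts n w) (s u : Fin D.nroots) (hu : u.val ≠ wact D w s.val) :
    (n : Matrix D.Idx D.Idx K) (Sum.inr u) (Sum.inr s) = 0 := by
  obtain ⟨v, hv, hav, h1, -⟩ := mono_aux hD hn
  exact h1 s u (by rwa [acts_unique hD hv hw hav hact s.2])

theorem mono_entry_ne (hD : InList D) {n : GL D.Idx K} (hn : n ∈ D.monomialSubgroup K) {w : List ℕ}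
    (hw : ∀ a ∈ w, a < D.rank) (hact : Acts n w) (s u : Fin D.nroots) (hu : u.val = wact D w s.val) :
    (n : Matrix D.Idx D.Idx K) (Sum.inr u) (Sum.inr s) ≠ 0 := by
  obtain ⟨v, hv, hav, h1, h2⟩ := mono_aux hD hn
  intro h0
  have hinv' : ((n⁻¹ : GL D.Idx K) : Matrix D.Idx D.Idx K) * (n : Matrix D.Idx D.Idx K) = 1 := by
    rw [← Units.val_mul, inv_mul_cancel]; rfl
  have h3 := congrFun (congrFun hinv' (Sum.inr s)) (Sum.inr s)
  rw [Matrix.one_apply_eq, Matrix.mul_apply, Fintype.sum_sum_type] at h3
  rw [Finset.sum_eq_zero fun i _ => by rw [h2, mul_zero], zero_add, Finset.sum_eq_zero] at h3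
  · exact zero_ne_one h3
  · intro x _
    by_cases hx : x = u
    · rw [hx, h0, mul_zero]
    · rw [mono_entry hD hn hw hact s x fun e => hx (Fin.ext (e.trans hu.symm)), mul_zero]

end Cfsg.Agent.H927.Sz
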