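import Cfsg.Agent.H927.SzOpp

/-!
# Opposite long root subgroups: the entry `Del` and the decomposition `P = Q (P ∩ N(X_{-a}))`
-/

set_option autoImplicit false

namespace Cfsg.Agent.H927.Sz

open Cfsg.Lie Cfsg.Agent.ChevalleyStructure Cfsg.Agent.ChevalleyStructure.RootCombGood
  Cfsg.Agent.ChevalleyStructure.RootWord Cfsg.Agent.ChevalleyStructure.RootVec
  Cfsg.Agent.ChevalleyStructure.RootVecTab Cfsg.Agent.ChevalleyStructure.RootSupport
  Cfsg.Agent.ChevalleyStructure.Elts Cfsg.Agent.ChevalleyStructure.BruhatSplit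
  Cfsg.Agent.H86.Lev Cfsg.Agent.H86.Graded Cfsg.Agent.H86.Par Cfsg.Agent.H92.ChevCent
  Cfsg.Agent.ChevalleyStructure.BlockMonomial

universe u

variable {D : ChevalleyDatum} {K : Type u} [Field K]

/-- `L⟨0⟩` : the level does not drop -/
abbrev R0 (D : ChevalleyDatum) (K : Type u) [Field K] : Subgroup (GL D.Idx K) :=
  Rg D K (car D (top D)) 0 le_rfl

theorem mem_R0 {g : GL D.Idx K} (h1 : Raises (car D (top D)) 0 (g : Matrix D.Idx D.Idx K))
    (h2 : Raises (car D (top D)) 0 ((g⁻¹ : GL D.Idx K) : Matrix D.Idx D.Idx K)) : g ∈ R0 D K :=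
  ⟨h1.sub Raises.one, h2.sub Raises.one⟩

theorem mono_raises (hD : InList D) {n : GL D.Idx K} (hn : n ∈ D.monomialSubgroup K) {w : List ℕ}
    (hw : ∀ a ∈ w, a < D.rank) (hact : Acts n w) (h : wact D w (top D) = top D) :
    Raises (car D (top D)) 0 (n : Matrix D.Idx D.Idx K) := by
  obtain ⟨-, -, -, -, h2⟩ := mono_aux hD hn
  have hbm : ∀ (u : Fin D.nroots) (i : Fin D.rank), (n : Matrix D.Idx D.Idx K) (Sum.inr u) (Sum.inl i) = 0 := by
    have hle : D.monomialSubgroup K ≤ BM (Fin D.rank) (Fin D.nroots) K := by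
      rw [NPerm.monomial_eq hD K]
      refine sup_le ((Subgroup.closure_le _).2 ?_) (fun g hg => NBlock.isBM_diagonal hD g hg)
      rintro g ⟨i, hi, rfl⟩
      exact NBlock.isBM_nS hD hi
    exact (hle hn).1
  rintro (i | u) (j | s) hne
  · simp
  · exact absurd (h2 s i) hne
  · exact absurd (hbm u j) hne
  · have hu : u.val = wact D w s.val := by
      by_contra hu
      exact hne (mono_entry hD hn hw hact s u hu)
    rw [wl_inr, wl_inr, hu, level_wact hD hw h s.2, add_zero]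

theorem P_le_R0 (hD : InList D) : P K D ≤ R0 D K := by
  intro p hp
  obtain ⟨b, hb, n, hn, hnP, u, hu, rfl⟩ := P_bruhat hD hp
  have G := good hD
  have hU : D.posUnipotent K ≤ R0 D K := by
    rw [posUnipotent_le_iff hD]
    intro r hr t
    exact xG_mem_Rg hD (lin_car (checked_of_mem hD) _) hr.1 _ (pos_level hD hr) t
  have hT : D.diagonalSubgroup K ≤ R0 D K := by
    intro g hg
    have key : ∀ g ∈ D.diagonalSubgroup K, Raises (car D (top D)) 0 (g : Matrix D.Idx D.Idx K) := by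
      intro g hg i j hij
      obtain ⟨χ, -, h⟩ := HDiag.exists_dmat D hD g hg
      rw [h] at hij
      have : i = j := by
        by_contra hne
        exact hij (Matrix.diagonal_apply_ne _ hne)
      rw [this, add_zero]
    exact mem_R0 (key g hg) (key _ (Subgroup.inv_mem _ hg))
  have hB : D.borelSubgroup K ≤ R0 D K := sup_le hU hT
  obtain ⟨w, hw, hact⟩ := exists_acts hD (NL_le D hn)
  have hwt := wact_of_mem_P hD hnP hw hact
  have hwr : ∀ a ∈ w.reverse, a < D.rank := fun a ha => hw a (by simpa using ha)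
  have hn' : n ∈ R0 D K := by
    refine mem_R0 (mono_raises hD (NL_le D hn) hw hact hwt)
      (mono_raises hD (Subgroup.inv_mem _ (NL_le D hn)) hwr (Acts.inv G hact hw) ?_)
    have := wact_reverse G hw (top_lt hD)
    rwa [hwt] at this
  exact Subgroup.mul_mem _ (Subgroup.mul_mem _ (hB hb) hn') (hU (Um_le _ hu))

theorem Del_mul_right (hD : InList D) (g : GL D.Idx K) {p : GL D.Idx K} (hp : p ∈ P K D) :
    Del hD (g * p) = Del hD g * (p : Matrix D.Idx D.Idx K) (iT hD) (iT hD) := by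
  have h1 := Rg.raises_zero (P_le_R0 hD hp)
  unfold Del
  rw [Units.val_mul, Matrix.mul_apply]
  refine Finset.sum_eq_single _ (fun j _ hj => ?_) (fun h => absurd (Finset.mem_univ _) h)
  by_contra hne
  have := h1 j (iT hD) (right_ne_zero_of_mul hne)
  rw [wl_iT, add_zero] at this
  exact hj (eq_iT hD this)

theorem Del_mul_left (hD : InList D) (g : GL D.Idx K) {p : GL D.Idx K} (hp : p ∈ P K D) :
    Del hD (p * g) = (p : Matrix D.Idx D.Idx K) (iB hD) (iB hD) * Del hD g := by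
  have h1 := Rg.raises_zero (P_le_R0 hD hp)
  unfold Del
  rw [Units.val_mul, Matrix.mul_apply]
  refine Finset.sum_eq_single _ (fun j _ hj => ?_) (fun h => absurd (Finset.mem_univ _) h)
  by_contra hne
  have := h1 (iB hD) j (left_ne_zero_of_mul hne)
  rw [wl_iB, add_zero] at this
  exact hj (eq_iB hD this)

theorem P_iT_ne (hD : InList D) {p : GL D.Idx K} (hp : p ∈ P K D) :
    (p : Matrix D.Idx D.Idx K) (iT hD) (iT hD) ≠ 0 := by
  intro h0
  have h1 := Rg.raises_zero (P_le_R0 hD hp)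
  have hinv' : ((p⁻¹ : GL D.Idx K) : Matrix D.Idx D.Idx K) * (p : Matrix D.Idx D.Idx K) = 1 := by
    rw [← Units.val_mul, inv_mul_cancel]; rfl
  have h3 := congrFun (congrFun hinv' (iT hD)) (iT hD)
  rw [Matrix.one_apply_eq, Matrix.mul_apply, Finset.sum_eq_zero] at h3
  · exact zero_ne_one h3
  · intro j _
    by_cases hj : j = iT hD
    · rw [hj, h0, mul_zero]
    · by_contra hne
      have := h1 j (iT hD) (right_ne_zero_of_mul hne)
      rw [wl_iT, add_zero] at this
      exact hj (eq_iT hD this)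

theorem P_iB_ne (hD : InList D) {p : GL D.Idx K} (hp : p ∈ P K D) :
    (p : Matrix D.Idx D.Idx K) (iB hD) (iB hD) ≠ 0 := by
  intro h0
  have h1 := Rg.raises_zero (P_le_R0 hD hp)
  have hinv' : (p : Matrix D.Idx D.Idx K) * ((p⁻¹ : GL D.Idx K) : Matrix D.Idx D.Idx K) = 1 := by
    rw [← Units.val_mul, mul_inv_cancel]; rfl
  have h3 := congrFun (congrFun hinv' (iB hD)) (iB hD)
  rw [Matrix.one_apply_eq, Matrix.mul_apply, Finset.sum_eq_zero] at h3
  · exact zero_ne_one h3
  · intro j _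
    by_cases hj : j = iB hD
    · rw [hj, h0, zero_mul]
    · by_contra hne
      have := h1 (iB hD) j (left_ne_zero_of_mul hne)
      rw [wl_iB, add_zero] at this
      exact hj (eq_iB hD this)

/-! ### `P = Q (P ∩ N(X_{-a}))` -/

/-- `P ∩ N(X_{-a})` -/
def PL (K : Type u) [Field K] (D : ChevalleyDatum) : Subgroup (GL D.Idx K) :=
  P K D ⊓ Subgroup.normalizer (XB D K : Set (GL D.Idx K))

theorem PL_le_normQ (hD : InList D) : PL K D ≤ Subgroup.normalizer (Q D K (top D) : Set (GL D.Idx K)) := by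
  intro g hg
  refine mem_normalizer_of (P_conj_Q hD hg.1) (fun x hx => ?_)
  have := P_conj_Q hD (Subgroup.inv_mem _ hg.1) x hx
  rwa [inv_inv] at this

theorem xG_mem_PL (hD : InList D) {r : ℕ} (hr : r < D.nroots) (h : car D (top D) r = 0) (t : K) :
    xG hD r t ∈ PL K D := by
  refine ⟨xG_mem_P hD hr h.ge t, ?_⟩
  have key : ∀ t : K, ∀ x ∈ XB D K, xG hD r t * x * (xG hD r t)⁻¹ ∈ XB D K := by
    intro t x hx
    obtain ⟨u, rfl⟩ := (mem_rootSubgroup_iff hD _ _).1 hx
    rw [comm_hi hD (hi0 hD) hr (by rw [car0 hD, h]; norm_num) t u, mul_inv_cancel_right]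
    exact hx
  refine mem_normalizer_of (key t) (fun x hx => ?_)
  have := key (-t) x hx
  rwa [← xG_inv, inv_inv] at this

theorem P_le_sup (hD : InList D) : P K D ≤ Q D K (top D) ⊔ PL K D := by
  intro p hp
  obtain ⟨b, hb, n, hn, hnP, u, hu, rfl⟩ := P_bruhat hD hp
  have G := good hD
  have hU : D.posUnipotent K ≤ Q D K (top D) ⊔ PL K D := by
    rw [posUnipotent_le_iff hD]
    intro r hr t
    rcases (pos_level hD hr).eq_or_lt with h | h
    · exact (le_sup_right : PL K D ≤ _) (xG_mem_PL hD hr.1 h.symm t)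
    · exact (le_sup_left : Q D K (top D) ≤ _) (xG_mem_Q hD hr.1 (by omega) t)
  have hT : D.diagonalSubgroup K ≤ Q D K (top D) ⊔ PL K D := by
    refine le_trans (fun g hg => ?_) (le_sup_right : PL K D ≤ _)
    refine ⟨diag_le_P hD hg, cj_eq_self_iff.1 ?_⟩
    exact (acts_of_mem_diagonal hD G hg) 0 (zero_lt hD)
  have hB : D.borelSubgroup K ≤ Q D K (top D) ⊔ PL K D := sup_le hU hT
  obtain ⟨w, hw, hact⟩ := exists_acts hD (NL_le D hn)
  have hwt := wact_of_mem_P hD hnP hw hact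
  have hw0 : wact D w 0 = 0 := by
    have := wact_neg G hw (top_lt hD)
    rwa [hwt, neg_top hD] at this
  have hn' : n ∈ Q D K (top D) ⊔ PL K D := by
    refine (le_sup_right : PL K D ≤ _) ⟨hnP, cj_eq_self_iff.1 ?_⟩
    have := hact 0 (zero_lt hD)
    rw [hw0] at this
    exact this
  exact Subgroup.mul_mem _ (Subgroup.mul_mem _ (hB hb) hn') (hU (Um_le _ hu))

theorem P_decomp (hD : InList D) {p : GL D.Idx K} (hp : p ∈ P K D) :
    ∃ q ∈ Q D K (top D), ∃ l ∈ PL K D, p = q * l := by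
  have h1 := P_le_sup hD hp
  have h2 := Subgroup.coe_mul_of_right_le_normalizer_left (Q D K (top D)) (PL K D) (PL_le_normQ hD)
  have h3 : p ∈ ((Q D K (top D) ⊔ PL K D : Subgroup (GL D.Idx K)) : Set (GL D.Idx K)) := h1
  rw [h2] at h3
  obtain ⟨q, hq, l, hl, e⟩ := Set.mem_mul.1 h3
  exact ⟨q, hq, l, hl, e.symm⟩

theorem Q_le_P (hD : InList D) : Q D K (top D) ≤ P K D := by
  rw [Q_le_iff hD]
  intro r hr h t
  exact xG_mem_P hD hr (by omega) t

/-- elements of `Q` centralise `X_a` -/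
theorem Q_cj_XT (hD : InList D) {q : GL D.Idx K} (hq : q ∈ Q D K (top D)) : cj q (XT D K) = XT D K := by
  refine cj_of_comm fun x hx => ?_
  obtain ⟨t, rfl⟩ := (mem_rootSubgroup_iff hD _ _).1 hx
  exact Q_comm_top hD (good hD) (hiT hD) hq t

theorem P_cj_XT {p : GL D.Idx K} (hp : p ∈ P K D) : cj p (XT D K) = XT D K :=
  cj_eq_self_iff.2 hp.2

theorem mem_P_of_cj {g : GL D.Idx K} (hg : g ∈ D.group K) (h : cj g (XT D K) = XT D K) :
    g ∈ P K D := ⟨hg, cj_eq_self_iff.1 h⟩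

/-- a word reflecting a root -/
theorem exists_refl_word (hD : InList D) {r : ℕ} (hr : r < D.nroots) :
    ∃ w : List ℕ, (∀ a ∈ w, a < D.rank) ∧ wact D w r = D.neg r ∧ wact D w (D.neg r) = r := by
  have G := good hD
  obtain ⟨i, hi, w, hw, e⟩ := exists_word G hr
  have hwr : ∀ a ∈ w.reverse, a < D.rank := fun a ha => hw a (by simpa using ha)
  have hs := G.simple_lt hi
  have h1 : wact D w.reverse r = D.simple i := by rw [← e, wact_reverse G hw hs]
  have h2 : wact D (w ++ ([i] ++ w.reverse)) r = D.neg r := by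
    rw [wact_append, wact_append, h1, wact_cons, wact_nil, G.reflect_simple hi, wact_neg G hw hs, e]
  have hlt : ∀ a ∈ w ++ ([i] ++ w.reverse), a < D.rank := by
    intro a ha
    rcases List.mem_append.1 ha with h | h
    · exact hw a h
    · rcases List.mem_append.1 h with h | h
      · rw [List.mem_singleton.1 h]; exact hi
      · exact hwr a h
  refine ⟨_, hlt, h2, ?_⟩
  rw [wact_neg G hlt hr, h2, RootWord.neg_neg G hr]

/-- an element of `N` swapping `X_a` and `X_{-a}` -/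
theorem exists_swap (hD : InList D) (K : Type u) [Field K] : ∃ n ∈ D.monomialSubgroup K, ∃ w : List ℕ,
    (∀ a ∈ w, a < D.rank) ∧ Acts n w ∧ wact D w (top D) = 0 ∧ wact D w 0 = top D := by
  obtain ⟨w, hw, h1, h2⟩ := exists_refl_word hD (top_lt hD)
  rw [neg_top hD] at h1 h2
  obtain ⟨n, hn, hact⟩ := exists_NL_acts hD K w hw
  exact ⟨n, NL_le D hn, w, hw, hact, h1, h2⟩

/-! ### opposite subgroups -/

/-- long root subgroups -/
def LR (D : ChevalleyDatum) (K : Type u) [Field K] (A : Subgroup (GL D.Idx K)) : Prop :=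
  ∃ g ∈ D.group K, A = cj g (XT D K)

/-- opposite long root subgroups -/
def Opp (A B : Subgroup (GL D.Idx K)) : Prop := ∃ g ∈ D.group K, A = cj g (XT D K) ∧ B = cj g (XB D K)

theorem Opp.cj {A B : Subgroup (GL D.Idx K)} (h : Opp A B) {g : GL D.Idx K} (hg : g ∈ D.group K) :
    Opp (Sz.cj g A) (Sz.cj g B) := by
  obtain ⟨x, hx, rfl, rfl⟩ := h
  exact ⟨g * x, Subgroup.mul_mem _ hg hx, by rw [cj_mul], by rw [cj_mul]⟩

theorem Opp.symm (hD : InList D) {A B : Subgroup (GL D.Idx K)} (h : Opp A B) : Opp B A := by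
  obtain ⟨g, hg, rfl, rfl⟩ := h
  obtain ⟨n, hn, w, hw, hact, h1, h2⟩ := exists_swap hD K
  refine ⟨g * n, Subgroup.mul_mem _ hg (monomial_le_group hD K hn), ?_, ?_⟩
  · have := hact _ (top_lt hD)
    rw [h1] at this
    rw [cj_mul]
    exact congrArg _ this.symm
  · have := hact _ (zero_lt hD)
    rw [h2] at this
    rw [cj_mul]
    exact congrArg _ this.symm

theorem Opp.left {A B : Subgroup (GL D.Idx K)} (h : Opp A B) : LR D K A := by
  obtain ⟨g, hg, h1, -⟩ := h
  exact ⟨g, hg, h1⟩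

theorem Opp.right (hD : InList D) {A B : Subgroup (GL D.Idx K)} (h : Opp A B) : LR D K B := (h.symm hD).left

theorem LR.cj {A : Subgroup (GL D.Idx K)} (h : LR D K A) {g : GL D.Idx K} (hg : g ∈ D.group K) :
    LR D K (Sz.cj g A) := by
  obtain ⟨x, hx, rfl⟩ := h
  exact ⟨g * x, Subgroup.mul_mem _ hg hx, by rw [cj_mul]⟩

theorem LR.le (hD : InList D) {A : Subgroup (GL D.Idx K)} (h : LR D K A) : A ≤ D.group K := by
  obtain ⟨g, hg, rfl⟩ := h
  exact cj_le_of_mem hg (rootSubgroup_le_group hD _)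

/-- the opposites of `X_a` -/
theorem exists_Q_of_opp (hD : InList D) {B : Subgroup (GL D.Idx K)} (h : Opp (XT D K) B) :
    ∃ q ∈ Q D K (top D), B = Sz.cj q (XB D K) := by
  obtain ⟨g, hg, h1, rfl⟩ := h
  obtain ⟨q, hq, l, hl, rfl⟩ := P_decomp hD (mem_P_of_cj hg h1.symm)
  refine ⟨q, hq, ?_⟩
  rw [cj_mul, cj_eq_self_iff.2 hl.2]

theorem Q_le_group (hD : InList D) : Q D K (top D) ≤ D.group K := (Q_le_P hD).trans P_le_group

theorem opp_of_Q (hD : InList D) {q : GL D.Idx K} (hq : q ∈ Q D K (top D)) : Opp (XT D K) (Sz.cj q (XB D K)) :=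
  ⟨q, Q_le_group hD hq, (Q_cj_XT hD hq).symm, rfl⟩

theorem opp_TB (hD : InList D) : Opp (XT D K) (XB D K) := by
  have := opp_of_Q (K := K) hD (Subgroup.one_mem _)
  rwa [cj_one] at this

/-- the element `q` is unique -/
theorem Q_unique (hD : InList D) {q q' : GL D.Idx K} (hq : q ∈ Q D K (top D)) (hq' : q' ∈ Q D K (top D))
    (h : Sz.cj q (XB D K) = Sz.cj q' (XB D K)) : q = q' := by
  have h1 : Sz.cj (q'⁻¹ * q) (XB D K) = XB D K := by rw [cj_mul, h, cj_inv_cj]
  have hv : q'⁻¹ * q ∈ Q D K (top D) := Subgroup.mul_mem _ (Subgroup.inv_mem _ hq') hq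
  have h2 : (q'⁻¹ * q) * xG hD 0 1 * (q'⁻¹ * q)⁻¹ ∈ XB D K := by
    have := conj_mem_cj (g := q'⁻¹ * q) (xG_mem_rootSubgroup (F := K) hD 0 1)
    rwa [h1] at this
  obtain ⟨t, ht⟩ := (mem_rootSubgroup_iff hD _ _).1 h2
  have h3 : q'⁻¹ * q = 1 := by
    refine eq_one_of_conj hD (good hD) (hiT hD) hv (t₁ := 1) (t₂ := t) one_ne_zero ?_
    rw [neg_top hD]
    exact mul_inv_eq_iff_eq_mul.1 ht
  exact (inv_mul_eq_one.1 h3).symm

/-- **opposite** in terms of the entry `Del` -/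
theorem opp_XT_iff (hD : InList D) {g : GL D.Idx K} (hg : g ∈ D.group K) :
    Opp (XT D K) (Sz.cj g (XT D K)) ↔ Del hD g ≠ 0 := by
  have G := good hD
  constructor
  · intro h
    obtain ⟨q, hq, e⟩ := exists_Q_of_opp hD h
    obtain ⟨n, hn, w, hw, hact, h1, h2⟩ := exists_swap hD K
    have hnT : Sz.cj n (XT D K) = XB D K := by
      have := hact _ (top_lt hD)
      rw [h1] at this
      exact this
    have hp : n⁻¹ * (q⁻¹ * g) ∈ P K D := by
      refine mem_P_of_cj (Subgroup.mul_mem _ (Subgroup.inv_mem _ (monomial_le_group hD K hn))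
        (Subgroup.mul_mem _ (Subgroup.inv_mem _ (Q_le_group hD hq)) hg)) ?_
      rw [cj_mul, cj_mul, e, cj_inv_cj, ← hnT, cj_inv_cj]
    have eg : g = q * (n * (n⁻¹ * (q⁻¹ * g))) := by group
    rw [eg, Del_mul_left hD _ (Q_le_P hD hq), Del_mul_right hD _ hp]
    exact mul_ne_zero (P_iB_ne hD (Q_le_P hD hq)) (mul_ne_zero
      (mono_entry_ne hD hn hw hact ⟨top D, top_lt hD⟩ ⟨0, zero_lt hD⟩ h1.symm) (P_iT_ne hD hp))
  · intro h
    obtain ⟨b, hb, n, hn, b', hb', rfl⟩ := Cfsg.Agent.S1100.exists_bruhat hD hg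
    have hbP := borel_le_P (F := K) hD hb
    have hbP' := borel_le_P (F := K) hD hb'
    obtain ⟨w, hw, hact⟩ := exists_acts hD hn
    rw [Del_mul_right hD _ hbP', Del_mul_left hD _ hbP] at h
    have hn0 : Del hD n ≠ 0 := right_ne_zero_of_mul (left_ne_zero_of_mul h)
    have hw0 : wact D w (top D) = 0 := by
      by_contra hne
      exact hn0 (mono_entry hD hn hw hact ⟨top D, top_lt hD⟩ ⟨0, zero_lt hD⟩ (Ne.symm hne))
    have hnT : Sz.cj n (XT D K) = XB D K := by
      have := hact _ (top_lt hD)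
      rw [hw0] at this
      exact this
    rw [cj_mul, P_cj_XT hbP', cj_mul, hnT]
    obtain ⟨q, hq, l, hl, rfl⟩ := P_decomp hD hbP
    rw [cj_mul, cj_eq_self_iff.2 hl.2]
    exact opp_of_Q hD hq

theorem opp_iff_del (hD : InList D) {g g' : GL D.Idx K} (hg : g ∈ D.group K) (hg' : g' ∈ D.group K) :
    Opp (Sz.cj g' (XT D K)) (Sz.cj g (XT D K)) ↔ Del hD (g'⁻¹ * g) ≠ 0 := by
  rw [← opp_XT_iff hD (Subgroup.mul_mem _ (Subgroup.inv_mem _ hg') hg)]
  constructor
  · intro h
    have := h.cj (Subgroup.inv_mem _ hg')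
    rwa [cj_inv_cj, ← cj_mul] at this
  · intro h
    have := h.cj hg'
    rwa [← cj_mul, mul_inv_cancel_left] at this

end Cfsg.Agent.H927.Sz
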